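import Cfsg.Agent.Lib.Fischer.OddCoreLocal

/-!
Twins in the residues of a class of 3-transpositions whose residual groups have non-central 2-core.
-/

set_option autoImplicit false
set_option linter.style.haveILetI false

namespace Cfsg.Agent.FischerTwins

open Cfsg.Agent Cfsg.Agent.Fischer Subgroup
open Cfsg.Agent.Fischer.OddCoreLocal (Ctx X)
open Cfsg.Agent.Fischer.LocalSymThree (nb nb_symm)

variable {G : Type*} [Group G] {D : Set G}

/-- `v` has the same commuting partners as `a` in the residue at `x`. -/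
def Twin (D : Set G) (x a v : G) : Prop := v ∈ nb D x ∧ ∀ e ∈ nb D x, Commute a e ↔ Commute v e

theorem Twin.refl {x a : G} (ha : a ∈ nb D x) : Twin D x a a := ⟨ha, fun _ _ => Iff.rfl⟩

theorem Twin.commute {x a v : G} (h : Twin D x a v) : Commute a v :=
  (h.2 v h.1).2 (Commute.refl v)

theorem Twin.symm {x a v : G} (ha : a ∈ nb D x) (h : Twin D x a v) : Twin D x v a :=
  ⟨ha, fun e he => (h.2 e he).symm⟩

theorem Twin.trans {x a b c : G} (h : Twin D x a b) (h' : Twin D x b c) : Twin D x a c :=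
  ⟨h'.1, fun e he => (h.2 e he).trans (h'.2 e he)⟩

theorem twin_conj (hC : Ctx D) (g : G) {x a v : G} (h : Twin D x a v) :
    Twin D (g * x * g⁻¹) (g * a * g⁻¹) (g * v * g⁻¹) := by
  refine ⟨hC.nb_conj g h.1, fun e he => ?_⟩
  have e1 : g * (g⁻¹ * e * g) * g⁻¹ = e := by group
  have := h.2 _ ((hC.nb_conj_iff g).1 (e1.symm ▸ he))
  rwa [← commute_conj_iff g a, ← commute_conj_iff g v, e1] at this

/-- The standing hypotheses. -/
structure Hyp (D : Set G) : Prop where
  ctx : Ctx D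
  cz : center G = ⊥
  conn : (Cfsg.commutingGraph D).Connected
  res : ∀ d ∈ D, (nb D d).Nonempty
  twin : ∀ d ∈ D, ∀ a ∈ nb D d, ∃ v, v ≠ a ∧ Twin D d a v
  pair : ∀ d ∈ D, ∀ a v, a ∈ nb D d → Twin D d a v → ∀ b ∈ nb D d,
    Twin D d b (a * v * b * (a * v)⁻¹)
  even : ∀ d ∈ D, ∀ a ∈ nb D d, Even {v | Twin D d a v}.ncard

theorem local_facts [Finite G] (hC : Ctx D) {x : G} (hx : x ∈ D)
    (h : ¬ Cfsg.pCore 2 ↥(closure (nb D x)) ≤ center ↥(closure (nb D x))) :
    (nb D x).Nonempty ∧ (∀ a ∈ nb D x, ∃ v, v ≠ a ∧ Twin D x a v) ∧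
      (∀ a v, a ∈ nb D x → Twin D x a v → ∀ b ∈ nb D x, Twin D x b (a * v * b * (a * v)⁻¹)) ∧
      (∀ a ∈ nb D x, Even {v | Twin D x a v}.ncard) := by
  haveI : Fact (Nat.Prime 2) := ⟨Nat.prime_two⟩
  set H := closure (nb D x) with hH
  set E : Set H := {e | (e : G) ∈ nb D x} with hE
  set O := Cfsg.pCore 2 H with hO
  haveI : O.Normal := Cfsg.pCore_normal 2 H
  have hEgen : closure E = ⊤ := closure_closure_coe_preimage
  have hEconj : ∀ g : H, ∀ e ∈ E, g * e * g⁻¹ ∈ E := fun g e he => by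
    have := hC.nb_conj (g : G) he
    rwa [conj_eq_self_of_commute (OddCoreLocal.commute_of_mem_closure_nb g.2)] at this
  have hT : IsThreeTranspositionGroup E := by
    refine ⟨⟨fun d hd => ?_, fun d hd e he => ?_⟩, hEconj, hEgen⟩
    · rw [← Subgroup.orderOf_coe]; exact hC.tg.1.1 _ hd.1
    · refine (hC.tg.1.2 _ hd.1 _ he.1).imp (fun h => ?_) (fun h => ?_) <;>
        exact Subtype.ext (by simpa using h)
  have hcm : ∀ {u v : H}, Commute u v ↔ Commute (u : G) (v : G) := fun {u v} =>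
    ⟨fun h => congrArg Subtype.val h, fun h => Subtype.ext h⟩
  have hne : (nb D x).Nonempty := by
    rw [Set.nonempty_iff_ne_empty]
    intro he
    refine h fun g _ => Subgroup.mem_center_iff.2 fun u => Subtype.ext ?_
    have h1 : ∀ z : H, (z : G) = 1 := fun z => by
      have := z.2
      change (z : G) ∈ closure (nb D x) at this
      rw [he, Subgroup.closure_empty, mem_bot] at this
      exact this
    simp [h1 g]
  have htw : ∀ {A V : H}, A ∈ E → (SameComm E A V ↔ Twin D x A V) := by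
    intro A V hA
    constructor
    · rintro ⟨hV, hc⟩
      refine ⟨hV, fun e he => ?_⟩
      have := hc ⟨e, subset_closure he⟩ he
      rw [hcm, hcm] at this
      exact this.symm
    · rintro ⟨hV, hc⟩
      refine ⟨hV, fun e he => ?_⟩
      rw [hcm, hcm]
      exact (hc e he).symm
  have horb : ∀ {A g : H}, A ∈ E → g ∈ O → SameComm E A (g * A * g⁻¹) := by
    intro A g hA hg
    refine (sameComm_iff hT hA).2 ⟨hEconj g A hA, ?_⟩
    have := mul_conj_mem (N := O) (d := A) hg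
    rwa [TSet.inv hT.1 hA] at this
  obtain ⟨e₀, he₀, v₀, hv₀, ht₀⟩ : ∃ e ∈ nb D x, ∃ v, v ≠ e ∧ Twin D x e v := by
    by_contra hno
    push Not at hno
    refine h fun g hg => Subgroup.mem_center_iff.2 fun u => ?_
    refine (mem_center_iff.1 (mem_center_of_commute_gen hEgen fun e he => ?_) u)
    refine OddCoreLocal.commute_conj_self_iff.1 ?_
    by_contra hne
    exact hno _ he ((g * e * g⁻¹ : H) : G) (fun h => hne (Subtype.ext h)) ((htw he).1 (horb he hg))
  have hconj : ∀ {g : G}, g ∈ H → ∀ {a v : G}, Twin D x a v → Twin D x (g * a * g⁻¹) (g * v * g⁻¹) := by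
    intro g hg a v ht
    have := twin_conj hC g ht
    rwa [conj_eq_self_of_commute (OddCoreLocal.commute_of_mem_closure_nb hg)] at this
  have htwin : ∀ a ∈ nb D x, ∃ v, v ≠ a ∧ Twin D x a v := by
    intro a ha
    obtain ⟨g, hg, rfl⟩ := hC.trc x hx e₀ he₀ a ha
    exact ⟨g * v₀ * g⁻¹, fun e => hv₀ (mul_left_cancel (mul_right_cancel e)), hconj hg ht₀⟩
  refine ⟨hne, htwin, ?_, ?_⟩
  · intro a v ha ht b hb
    set A : H := ⟨a, subset_closure ha⟩
    set V : H := ⟨v, subset_closure ht.1⟩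
    set B : H := ⟨b, subset_closure hb⟩
    have hm := ((sameComm_iff hT (show A ∈ E from ha)).1 ((htw (V := V) ha).2 ht)).2
    exact (htw (A := B) hb).1 (horb hb hm)
  · intro a ha
    set A : H := ⟨a, subset_closure ha⟩ with hA
    have hcl : IsThreeTranspositionClass E := by
      refine ⟨hT.1, ⟨A, ha, ?_⟩, hEgen⟩
      ext e
      constructor
      · intro he
        obtain ⟨g, hg, hge⟩ := hC.trc x hx a ha (e : G) he
        exact isConj_iff.2 ⟨⟨g, hg⟩, Subtype.ext hge⟩
      · intro he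
        obtain ⟨g, rfl⟩ := isConj_iff.1 he
        exact hEconj g A ha
    obtain ⟨v₁, hv₁, ht₁⟩ := htwin a ha
    have hE2 : ∃ p ∈ E, ∃ q ∈ E, p ≠ q :=
      ⟨A, ha, ⟨v₁, subset_closure ht₁.1⟩, ht₁.1, fun e => hv₁ (congrArg Subtype.val e).symm⟩
    set P := O.map (ConjAct.toConjAct (G := H)).toMonoidHom with hP
    have hP2 : IsPGroup 2 P := (PBasic.pCore_isPGroup 2 H).map _
    have heq : Subtype.val '' MulAction.orbit P A = {v | Twin D x a v} := by
      ext v
      constructor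
      · rintro ⟨_, ⟨⟨_, g, hg, rfl⟩, rfl⟩, rfl⟩
        show Twin D x a ((ConjAct.toConjAct g • A : H) : G)
        rw [ConjAct.toConjAct_smul]
        exact (htw (A := A) ha).1 (horb ha hg)
      · intro hv
        obtain ⟨g, hg, hge⟩ :=
          ((htw (A := A) (V := ⟨v, subset_closure hv.1⟩) ha).2 hv).eq_conj hcl hE2 ha
        refine ⟨⟨v, subset_closure hv.1⟩, ⟨⟨ConjAct.toConjAct g, mem_map_of_mem _ hg⟩, ?_⟩, rfl⟩
        show (ConjAct.toConjAct g • A : H) = _
        rw [ConjAct.toConjAct_smul]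
        exact hge.symm
    obtain ⟨k, hk⟩ := hP2.card_orbit A
    have h2 : {v | Twin D x a v}.ncard = 2 ^ k := by
      rw [← heq, Set.ncard_image_of_injective _ Subtype.val_injective, ← Nat.card_coe_set_eq, hk]
    have : 1 < {v | Twin D x a v}.ncard :=
      (Set.one_lt_ncard_iff (Set.toFinite _)).2
        ⟨v₁, a, ht₁, Twin.refl ha, hv₁⟩
    rw [h2] at this ⊢
    refine Nat.even_pow.2 ⟨even_two, ?_⟩
    rintro rfl
    simp at this

theorem hyp_of_base [Finite G] (hC : Ctx D) (hz : center G = ⊥)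
    (hconn : (Cfsg.commutingGraph D).Connected) {x : G} (hx : x ∈ D)
    (h : ¬ Cfsg.pCore 2 ↥(closure (nb D x)) ≤ center ↥(closure (nb D x))) : Hyp D := by
  obtain ⟨h1, h2, h3, h4⟩ := local_facts hC hx h
  have back : ∀ d ∈ D, ∃ g : G, g * x * g⁻¹ = d := fun d hd => hC.trans x hx d hd
  have pre : ∀ {g a : G}, a ∈ nb D (g * x * g⁻¹) → g⁻¹ * a * g ∈ nb D x ∧ g * (g⁻¹ * a * g) * g⁻¹ = a :=
    fun {g a} ha => by
      have e : g * (g⁻¹ * a * g) * g⁻¹ = a := by group
      exact ⟨(hC.nb_conj_iff g).1 (e.symm ▸ ha), e⟩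
  have pre2 : ∀ {g a v : G}, Twin D (g * x * g⁻¹) a v → Twin D x (g⁻¹ * a * g) (g⁻¹ * v * g) :=
    fun {g a v} ht => by
      have := twin_conj hC g⁻¹ ht
      rwa [inv_inv, show g⁻¹ * (g * x * g⁻¹) * g = x by group] at this
  refine ⟨hC, hz, hconn, ?_, ?_, ?_, ?_⟩
  · intro d hd
    obtain ⟨g, rfl⟩ := back d hd
    obtain ⟨y, hy⟩ := h1
    exact ⟨_, hC.nb_conj g hy⟩
  · intro d hd a ha
    obtain ⟨g, rfl⟩ := back d hd
    obtain ⟨ha', e⟩ := pre ha
    obtain ⟨v, hv, ht⟩ := h2 _ ha'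
    refine ⟨g * v * g⁻¹, fun h => hv ?_, e ▸ twin_conj hC g ht⟩
    rw [← e] at h
    exact mul_left_cancel (mul_right_cancel h)
  · intro d hd a v ha ht b hb
    obtain ⟨g, rfl⟩ := back d hd
    obtain ⟨ha', e⟩ := pre ha
    obtain ⟨hb', eb⟩ := pre hb
    have := twin_conj hC g (h3 _ _ ha' (pre2 ht) _ hb')
    rw [eb] at this
    convert this using 1
    group
  · intro d hd a ha
    obtain ⟨g, rfl⟩ := back d hd
    obtain ⟨ha', e⟩ := pre ha
    have himg : (fun z => g * z * g⁻¹) '' {v | Twin D x (g⁻¹ * a * g) v} =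
        {v | Twin D (g * x * g⁻¹) a v} := by
      ext v
      constructor
      · rintro ⟨w, hw, rfl⟩
        exact e ▸ twin_conj hC g hw
      · intro hv
        exact ⟨_, pre2 hv, by group⟩
    rw [← himg, Set.ncard_image_of_injective _ (fun y z h => mul_left_cancel (mul_right_cancel h))]
    exact h4 _ ha'

end Cfsg.Agent.FischerTwins
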