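import Cfsg.Agent.Lib.FischerTwins.Vec
import Cfsg.Agent.Lib.FischerSolvable.Bound

/-!
Transvections in the projective unitary groups over the field of four elements.
-/

set_option autoImplicit false

namespace Cfsg.Agent.FischerTwins

open Cfsg Cfsg.Agent Subgroup Cfsg.Agent.RigidGraph.He
open Cfsg.Agent.FischerSolvable.Model (tv tr mv mv_ext mv_mul mv_tr tr_sq tr_conj)

variable {n : ℕ}

/-- The image of the transvection. -/
noncomputable def ptr (v : Fin n → K4) : Cfsg.PSU n K4 2 :=
  (QuotientGroup.mk' _ : Cfsg.SU n K4 2 →* Cfsg.PSU n K4 2) (tr v)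

theorem mv_prod (hn : 0 < n) : ∀ (L : List (Fin n → K4)) (_ : ∀ v ∈ L, hf n v v = 0) (x : Fin n → K4),
    mv (L.map tr).prod x = L.foldr tv x
  | [], _, x => by simp [FischerSolvable.Model.mv_one]
  | v :: L, hL, x => by
    rw [List.map_cons, List.prod_cons, mv_mul, mv_prod hn L (fun w hw => hL w (List.mem_cons_of_mem _ hw)),
      mv_tr hn (hL v (List.mem_cons_self ..)), List.foldr_cons]

variable (hn : 0 < n)
include hn

theorem tr_scalar {c : K4} (hc : c ≠ 0) {v : Fin n → K4} (hv : hf n v v = 0) : tr (c • v) = tr v := by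
  have hv' : hermForm n K4 2 (c • v) (c • v) = 0 := by
    show hf n (c • v) (c • v) = 0
    rw [hf_smul_left, hf_smul_right, hv, mul_zero, mul_zero]
  refine mv_ext fun x => ?_
  rw [mv_tr hn hv', mv_tr hn hv, tv_scalar hc]

theorem tr_commute {v w : Fin n → K4} (hv : hf n v v = 0) (hw : hf n w w = 0) (h : hf n v w = 0) :
    Commute (tr v) (tr w) := by
  refine mv_ext fun x => ?_
  simp only [mv_mul, mv_tr hn hv, mv_tr hn hw]
  rw [tv_eq w x, tv_add, tv_smul, tv_fix (v := v) (x := w) ((hf_zero_iff _ _).1 h), tv_eq v x,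
    tv_add, tv_smul, tv_fix (v := w) (x := v) h, tv_eq w x]
  abel

/-- Transvections commuting modulo the centre are orthogonal. -/
theorem orth_of_commute {v w : Fin n → K4} (hv : hf n v v = 0) (hw : hf n w w = 0) (hv0 : v ≠ 0)
    (h : Commute (ptr v) (ptr w)) : hf n v w = 0 := by
  by_contra hne
  have sv := tr_sq hn v hv
  have sw := tr_sq hn w hw
  have e : tr v * tr w * tr v = tr w * tr v * tr w := by
    rw [← (tr_conj hn hw hv).2, ← (tr_conj hn hv hw).2, ← tv_swap hne]
    refine (tr_scalar hn hne ?_).symm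
    rw [tv_iso hv]
    exact hw
  have e2 : ptr w = ptr v := by
    have pv : ptr v * ptr v = 1 := by rw [ptr, ← map_mul, sv, map_one]
    have pw : ptr w * ptr w = 1 := by rw [ptr, ← map_mul, sw, map_one]
    have h1 : ptr v * ptr w * ptr v = ptr w * ptr v * ptr w := by
      simp only [ptr, ← map_mul, e]
    rw [h.eq, mul_assoc, pv, mul_one, ← h.eq, mul_assoc, pw, mul_one] at h1
    exact h1
  have hz : (tr v)⁻¹ * tr w ∈ Subgroup.center (Cfsg.SU n K4 2) := QuotientGroup.eq.1 e2.symm
  have hc : Commute (tr v) (tr w) := by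
    rw [show tr w = tr v * ((tr v)⁻¹ * tr w) by rw [mul_inv_cancel_left]]
    exact (Commute.refl _).mul_right (mem_center_iff.1 hz (tr v))
  have h3 := congrArg (fun A => mv A v) hc.eq
  simp only [mv_mul, mv_tr hn hv, mv_tr hn hw] at h3
  rw [tv_eq v v, hv, zero_smul, add_zero, tv_eq w v, tv_add, tv_smul, tv_fix (v := v) (x := v) hv,
    tv_eq v w] at h3
  have h4 : (hf n v w * hf n w v) • v = 0 := by
    have := congrArg (fun z => (v + hf n v w • w) + z) h3
    rw [add_self_vec, smul_add, smul_smul] at this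
    simp only [← add_assoc] at this
    rw [add_assoc v (hf n v w • w) v, add_comm (hf n v w • w) v, ← add_assoc v v, add_self_vec, zero_add,
      add_self_vec, zero_add] at this
    exact this
  rcases smul_eq_zero.1 h4 with h4 | h4
  · rcases mul_eq_zero.1 h4 with h5 | h5
    exacts [hne h5, hne ((hf_zero_iff _ _).1 h5)]
  · exact hv0 h4

theorem prod_ptr {L : List (Fin n → K4)} (hL : ∀ v ∈ L, hf n v v = 0)
    (hfix : ∀ i : Fin n, L.foldr tv (Pi.single i 1) = Pi.single i 1) : (L.map ptr).prod = 1 := by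
  have : (L.map tr).prod = 1 := by
    refine Subtype.ext (Subtype.ext (Matrix.ext_of_mulVec_single fun i => ?_))
    have := mv_prod hn L hL (Pi.single i 1)
    rw [hfix i] at this
    exact this.trans (Matrix.one_mulVec _).symm
  have h2 := congrArg (QuotientGroup.mk' (Subgroup.center (Cfsg.SU n K4 2))) this
  rw [map_list_prod, List.map_map, map_one] at h2
  exact h2

omit hn in
/-- A map out of a finite group from generators with relators bounding every group they generate. -/
theorem exists_lift {G Γ : Type*} [Group G] [Group Γ] [Finite Γ] {k : ℕ} {gen : ℕ → G} {m : ℕ → Γ}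
    (hmgen : closure (m '' {i | i < k}) = ⊤)
    (hle : CosetCert.CardLe (closure ((fun i => (gen i, m i)) '' {i | i < k})) (Nat.card Γ)) :
    ∃ φ : Γ →* G, ∀ i < k, φ (m i) = gen i := by
  set gp : ℕ → G × Γ := fun i => (gen i, m i) with hgp
  set K := closure (gp '' {i | i < k}) with hK
  obtain ⟨hfin, hle⟩ := hle
  haveI := hfin
  let p2 : K →* Γ := (MonoidHom.snd G Γ).comp K.subtype
  have hs : Function.Surjective p2 := by
    intro z
    have h : z ∈ K.map (MonoidHom.snd G Γ) := by
      rw [hK, MonoidHom.map_closure, ← Set.image_comp]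
      exact (show closure (m '' {i | i < k}) = ⊤ from hmgen).ge (mem_top z)
    obtain ⟨q, hq, rfl⟩ := h
    exact ⟨⟨q, hq⟩, rfl⟩
  have hbij : Function.Bijective p2 := (Nat.bijective_iff_surjective_and_card p2).2
    ⟨hs, le_antisymm hle (Nat.card_le_card_of_surjective p2 hs)⟩
  refine ⟨((MonoidHom.fst G Γ).comp K.subtype).comp (MulEquiv.ofBijective p2 hbij).symm.toMonoidHom,
    fun i hi => ?_⟩
  have hq : gp i ∈ K := subset_closure ⟨i, hi, rfl⟩
  have e := (MulEquiv.ofBijective p2 hbij).symm_apply_apply ⟨gp i, hq⟩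
  exact congrArg (fun z : K => z.1.1) e

omit hn in
theorem orbit_mem (hn : 0 < n) {H : Type*} [Group H] {φ : Cfsg.SU n K4 2 →* H} {D : Set H}
    (hconj : ∀ g ∈ D, ∀ p ∈ D, g * p * g ∈ D) {V : List ℕ}
    (hg : ∀ c ∈ V, hf n (FischerSolvable.Model.vec n c) (FischerSolvable.Model.vec n c) = 0 ∧
      φ (tr (FischerSolvable.Model.vec n c)) ∈ D) :
    ∀ (t : List (ℕ × ℕ × ℕ)) (known : List ℕ), FischerSolvable.Model.orbitOK n V known t = true →
      (∀ c ∈ known, hf n (FischerSolvable.Model.vec n c) (FischerSolvable.Model.vec n c) = 0 ∧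
        φ (tr (FischerSolvable.Model.vec n c)) ∈ D) →
      ∀ c ∈ known ++ t.map Prod.fst,
        hf n (FischerSolvable.Model.vec n c) (FischerSolvable.Model.vec n c) = 0 ∧
        φ (tr (FischerSolvable.Model.vec n c)) ∈ D
  | [], known, _, hk => by simpa using hk
  | (c, p, g) :: t, known, h, hk => by
    rw [FischerSolvable.Model.orbitOK, Bool.and_eq_true, Bool.and_eq_true, Bool.and_eq_true,
      List.any_eq_true, Nat.blt_eq] at h
    obtain ⟨⟨⟨q, hq, hqp⟩, hgl, he⟩, h'⟩ := h
    rw [Nat.beq_eq] at hqp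
    subst hqp
    have hgm : V.getD g 0 ∈ V := by rw [List.getD_eq_getElem _ _ hgl]; exact List.getElem_mem hgl
    have he' : tv (FischerSolvable.Model.vec n (V.getD g 0)) (FischerSolvable.Model.vec n q) =
        FischerSolvable.Model.vec n c := funext (of_decide_eq_true he)
    obtain ⟨h1, h2⟩ := tr_conj hn (hk q hq).1 (hg _ hgm).1
    rw [he'] at h1 h2
    have hc : hf n (FischerSolvable.Model.vec n c) (FischerSolvable.Model.vec n c) = 0 ∧
        φ (tr (FischerSolvable.Model.vec n c)) ∈ D := by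
      refine ⟨h1, ?_⟩
      rw [h2, map_mul, map_mul]
      exact hconj _ (hg _ hgm).2 _ (hk q hq).2
    intro x hx
    refine orbit_mem hn hconj hg t (c :: known) h' (List.forall_mem_cons.2 ⟨hc, hk⟩) x ?_
    simp only [List.map_cons, List.mem_append, List.mem_cons] at hx ⊢
    tauto

end Cfsg.Agent.FischerTwins
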