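import Cfsg.Agent.Lib.FischerTwins.Glue

/-!
Vectors of weight two are permuted by their transvections; vectors differing by a scalar.
-/

set_option autoImplicit false

namespace Cfsg.Agent.FischerTwins

open Cfsg Cfsg.Agent.RigidGraph.He
open Cfsg.Agent.FischerSolvable.Model (tv)

variable {k n : ℕ}

/-- Equal up to a non-zero scalar. -/
def Par (v w : Fin k → K4) : Prop := ∃ c : K4, c ≠ 0 ∧ w = c • v

theorem Par.refl (v : Fin k → K4) : Par v v := ⟨1, one_ne_zero, (one_smul _ v).symm⟩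

theorem Par.symm {v w : Fin k → K4} (h : Par v w) : Par w v := by
  obtain ⟨c, hc, rfl⟩ := h
  exact ⟨c⁻¹, inv_ne_zero hc, by rw [smul_smul, inv_mul_cancel₀ hc, one_smul]⟩

theorem Par.trans {u v w : Fin k → K4} (h : Par u v) (h' : Par v w) : Par u w := by
  obtain ⟨c, hc, rfl⟩ := h
  obtain ⟨e, he, rfl⟩ := h'
  exact ⟨e * c, mul_ne_zero he hc, smul_smul _ _ _⟩

theorem Par.hf_left {v w : Fin k → K4} (h : Par v w) (u : Fin k → K4) : hf k w u = 0 ↔ hf k v u = 0 := by
  obtain ⟨c, hc, rfl⟩ := h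
  rw [hf_smul_left, mul_eq_zero, or_iff_right hc]

theorem Par.hf_right {v w : Fin k → K4} (h : Par v w) (u : Fin k → K4) : hf k u w = 0 ↔ hf k u v = 0 := by
  obtain ⟨c, hc, rfl⟩ := h
  exact hf_smul_zero hc _ _

theorem Par.hf_self {v w : Fin k → K4} (h : Par v w) : hf k w w = 0 ↔ hf k v v = 0 :=
  (h.hf_left w).trans (h.hf_right v)

theorem Par.tv {v w : Fin k → K4} (h : Par v w) (u : Fin k → K4) : Par (tv u v) (tv u w) := by
  obtain ⟨c, hc, rfl⟩ := h
  exact ⟨c, hc, tv_smul u c v⟩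

theorem Par.eq_zero {v w : Fin k → K4} (h : Par v w) : w = 0 ↔ v = 0 := by
  obtain ⟨c, hc, rfl⟩ := h
  rw [smul_eq_zero, or_iff_right hc]

theorem Par.two {v w : Fin k → K4} (h : Par v w) (hv : Two v) : Two w := by
  obtain ⟨c, hc, rfl⟩ := h
  exact hv.smul hc

theorem two_of_iso_pair {v : Fin k → K4} {i j : Fin k} (hij : i ≠ j) (hv0 : v ≠ 0) (hv : hf k v v = 0)
    (hsupp : ∀ l, l ≠ i → l ≠ j → v l = 0) : Two v := by
  have e : v = m2 i j (v i) (v j) := by
    funext l
    by_cases h1 : l = i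
    · rw [h1, m2_apply_left hij]
    by_cases h2 : l = j
    · rw [h2, m2_apply_right hij]
    rw [m2_apply_other h1 h2, hsupp l h1 h2]
  have key : ∀ a b : K4, a * a ^ 2 + b * b ^ 2 = 0 → (a = 0 ↔ b = 0) := by decide
  have h : v i * v i ^ 2 + v j * v j ^ 2 = 0 := by
    have h0 : hf k (m2 i j (v i) (v j)) v = 0 := by rw [← e]; exact hv
    rwa [hf_m2] at h0
  refine ⟨i, j, v i, v j, hij, fun h0 => hv0 ?_, fun h0 => hv0 ?_, e⟩
  · rw [e, h0, (key _ _ h).1 h0, m2, Pi.single_zero, Pi.single_zero, add_zero]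
  · rw [e, h0, (key _ _ h).2 h0, m2, Pi.single_zero, Pi.single_zero, add_zero]

theorem two_tv {v w : Fin k → K4} (hv : Two v) (hw : Two w) : Two (tv v w) := by
  by_cases hh : hf k w v = 0
  · rwa [tv_fix hh]
  have hiso : hf k (tv v w) (tv v w) = 0 := by rw [tv_iso hv.iso]; exact hw.iso
  have hne : tv v w ≠ 0 := fun h => hw.ne_zero (by rw [← tv_tv hv.iso w, h, tv_zero])
  obtain ⟨i, j, a, b, hij, ha, hb, rfl⟩ := hv
  obtain ⟨p, q, c, d, hpq, hc, hd, rfl⟩ := hw
  have key : ∀ i j a b, i ≠ j → a ≠ 0 → b ≠ 0 → ∀ q c d, i ≠ q → c ≠ 0 →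
      hf k (tv (m2 i j a b) (m2 i q c d)) (tv (m2 i j a b) (m2 i q c d)) = 0 →
      tv (m2 i j a b) (m2 i q c d) ≠ 0 → Two (tv (m2 i j a b) (m2 i q c d)) := by
    intro i j a b hij ha hb q c d hiq hc hiso hne
    by_cases hjq : q = j
    · subst hjq
      refine two_of_iso_pair hij hne hiso fun l h1 h2 => ?_
      rw [tv_eq, Pi.add_apply, Pi.smul_apply, m2_apply_other h1 h2, m2_apply_other h1 h2, smul_zero, add_zero]
    · have hcoef : hf k (m2 i q c d) (m2 i j a b) = c * a ^ 2 := by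
        rw [hf_m2, m2_apply_left hij, m2_apply_other hiq.symm hjq]
        simp
      refine two_of_iso_pair (i := j) (j := q) (fun e => hjq e.symm) hne hiso fun l h1 h2 => ?_
      rw [tv_eq, Pi.add_apply, Pi.smul_apply, hcoef, smul_eq_mul]
      by_cases h3 : l = i
      · subst h3
        rw [m2_apply_left hiq, m2_apply_left hij, mul_assoc, mul_comm (a ^ 2), K4.cube_one a ha, mul_one,
          K4.add_self]
      · rw [m2_apply_other h3 h1, m2_apply_other h3 h2, mul_zero, add_zero]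
  rcases eq_or_ne p i with h1 | h1
  · subst h1
    exact key p j a b hij ha hb q c d hpq hc hiso hne
  rcases eq_or_ne p j with h2 | h2
  · subst h2
    rw [m2_comm i p] at hiso hne ⊢
    exact key p i b a hij.symm hb ha q c d hpq hc hiso hne
  rcases eq_or_ne q i with h3 | h3
  · subst h3
    rw [m2_comm p q] at hiso hne ⊢
    exact key q j a b hij ha hb p d c hpq.symm hd hiso hne
  rcases eq_or_ne q j with h4 | h4
  · subst h4
    rw [m2_comm i q, m2_comm p q] at hiso hne ⊢
    exact key q i b a hij.symm hb ha p d c hpq.symm hd hiso hne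
  refine absurd ?_ hh
  rw [hf_m2, m2_apply_other h1 h2, m2_apply_other h3 h4]
  simp

theorem two_push {e : Fin n → Fin k} (he : Function.Injective e) {u : Fin n → K4} (hu : Two u) :
    Two (push e u) := by
  obtain ⟨i, j, a, b, hij, ha, hb, rfl⟩ := hu
  rw [push_m2]
  exact two_m2 (fun h => hij (he h)) ha hb

theorem m2_comp (σ : Equiv.Perm (Fin k)) (i j : Fin k) (a b : K4) :
    m2 i j a b ∘ σ.symm = m2 (σ i) (σ j) a b := by
  funext l
  simp only [m2, Function.comp_apply, Pi.add_apply]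
  congr 1 <;> simp [Pi.single_apply, Equiv.symm_apply_eq]

end Cfsg.Agent.FischerTwins
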