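import Cfsg.Agent.Lib.FischerTwins.LocalData
import Cfsg.Agent.Lib.FischerSolvable.Model

/-!
A function on the isotropic points of dimension four meeting lines in one or five points and
hyperbolic lines not in two points is given by a vector.
-/

set_option autoImplicit false
set_option maxRecDepth 20000

namespace Cfsg.Agent.FischerTwins

open Cfsg Cfsg.Agent.RigidGraph.He Cfsg.Agent.CosetCert Cfsg.Agent.FischerTwins.LocalCheck

/-- The `i`-th point. -/
noncomputable def point (i : ℕ) : Fin 4 → K4 := FischerSolvable.Model.vec 4 (LocalData.pts.getD i 0)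

/-- The masks are those of the vector coded by `v`. -/
noncomputable def isSig (v T F : ℕ) : Bool :=
  (List.range 45).all fun i =>
    if decide (hermForm 4 K4 2 (point i) (FischerSolvable.Model.vec 4 v) = 0) then bit T i else bit F i

theorem tree_ok : check LocalData.cons isSig LocalData.tree 0 0 = true := by decide +kernel

theorem local_vec {f : ℕ → Bool}
    (hf : ∀ c ∈ LocalData.cons, allowed c.length (c.countP f) = true) :
    ∃ u : Fin 4 → K4, ∀ i < 45, (f i = true ↔ hermForm 4 K4 2 (point i) u = 0) := by
  obtain ⟨v, T, F, hv, hT, hF⟩ := check_spec hf _ 0 0 tree_ok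
    ⟨fun i h => absurd h (by simp [bit_zero]), fun i h => absurd h (by simp [bit_zero])⟩
  refine ⟨FischerSolvable.Model.vec 4 v, fun i hi => ?_⟩
  have h := List.all_eq_true.1 hv i (List.mem_range.2 hi)
  by_cases e : hermForm 4 K4 2 (point i) (FischerSolvable.Model.vec 4 v) = 0
  · rw [if_pos (decide_eq_true e)] at h
    exact iff_of_true (hT i h) e
  · rw [if_neg (by simpa using e)] at h
    exact iff_of_false (by simp [hF i h]) e

end Cfsg.Agent.FischerTwins
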