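import Cfsg.Agent.Lib.FischerTwins.WordProof

/-!
Short derivations: five commuting points, and planes of nine points.
-/

set_option autoImplicit false

namespace Cfsg.Agent.FischerTwins.SmallData

noncomputable section

/-- relators of five, latest first -/
def fiveBase : List (List ℕ) := [[0, 1, 2, 3, 0, 3, 2, 1], [2, 3, 2, 3], [1, 3, 1, 3], [1, 2, 1, 2], [0, 3, 0, 3, 0, 3], [0, 2, 0, 2, 0, 2], [0, 1, 0, 1, 0, 1]]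

/-- derivation five -/
def five : List (List (ℕ × List ℕ) × List ℕ) := [
  ([(12, []), (6, []), (11, [])], [0, 1, 0, 1, 0, 2, 1, 0, 2, 0, 2, 0]),
  ([(14, []), (6, []), (11, [])], [0, 1, 0, 1, 0, 3, 1, 0, 3, 0, 3, 0]),
  ([(4, []), (17, [])], [0, 1, 2, 3, 0, 3, 2, 0, 1, 0, 1, 0]),
  ([(0, []), (8, [0, 1, 0, 1, 0])], [0, 1, 2, 3, 0, 2, 3, 0, 1, 0, 1, 0]),
  ([(16, [0, 2]), (9, [0, 1]), (19, [0, 1, 0, 1])], [0, 2, 0, 3, 2, 0, 2, 0, 1, 0, 1, 0]),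
  ([(16, [0]), (14, [0, 2])], [0, 1, 2, 3, 1, 3, 2, 0]),
  ([(12, [0, 2]), (19, [0]), (21, [0, 1])], [0, 2, 0, 1, 2, 0, 3, 0, 1, 0]),
  ([(1, []), (20, [0, 2, 0])], [0, 1, 0, 3, 0, 1, 2, 0, 2, 0]),
  ([(18, [0, 2, 0]), (6, [])], [0, 2, 0, 2, 3, 0, 2, 0, 1, 0, 1, 0]),
  ([(16, []), (30, [0, 2, 0, 2]), (3, []), (23, [0, 1, 0])], [0, 1, 0, 1, 0, 2, 0, 3, 1, 0, 1, 0]),
  ([(28, [0, 1, 0, 1]), (1, [])], [0, 1, 0, 1, 0, 3, 0, 3, 2, 0, 1, 0, 1, 0]),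
  ([(2, []), (25, [0, 1, 0, 1])], [0, 1, 0, 1, 0, 2, 0, 2, 3, 2, 1, 0, 1, 0]),
  ([(6, []), (4, [])], [0, 2, 0, 2, 1, 0, 1, 0]),
  ([(4, []), (21, [])], [0, 1, 0, 1, 0, 2, 1, 0]),
  ([(39, [0, 1, 0, 1]), (4, []), (28, [0, 1])], [0, 1, 0, 1, 2, 3, 2, 0]),
  ([(1, []), (7, []), (21, [])], [0, 2, 3, 0, 2, 0]),
  ([(2, []), (0, [])], [0, 1, 0, 1, 2, 0, 2, 0]),
  ([(1, []), (40, [0, 1, 0])], [0, 2, 0, 1, 2, 0, 1, 0]),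
  ([(39, [0]), (4, []), (3, [])], [0, 3, 1, 0, 1, 0]),
  ([(3, []), (7, []), (27, []), (11, [])], [0, 1, 0, 2, 3, 0, 1, 0, 1, 0]),
  ([(15, []), (50, [])], [0, 1, 0, 1, 0, 2]),
  ([(6, []), (2, [])], [0, 2, 0, 1, 3, 0, 1, 0, 1, 0]),
  ([(47, [0, 1]), (17, []), (37, [])], [0, 1, 3, 0, 3, 2, 1, 0]),
  ([(43, []), (3, [])], [0, 3, 0, 3, 2, 0]),
  ([(3, []), (52, [0]), (10, [])], [0, 1, 2, 3, 1, 0]),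
  ([(3, []), (58, []), (9, []), (45, []), (0, [])], [0, 2, 1, 0]),
  ([(4, []), (0, [])], [0, 3, 0, 3, 1, 0]),
  ([(8, []), (4, [])], [0, 1, 3, 0, 1, 0]),
  ([(0, []), (3, []), (64, [])], [0, 1]),
  ([(0, []), (0, [])], [0, 1, 0, 1])]

/-- relators of plane, latest first -/
def planeBase : List (List ℕ) := [[0, 2, 1, 2, 0, 2, 1, 2, 0, 2, 1, 2], [1, 2, 1, 2, 1, 2], [0, 2, 0, 2, 0, 2], [0, 1, 0, 1, 0, 1]]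

/-- derivation plane -/
def plane : List (List (ℕ × List ℕ) × List ℕ) := [
  ([(0, [0, 1]), (2, [0])], [0, 1, 0, 2, 1, 2, 0, 2, 1, 2, 0, 1, 2, 0]),
  ([(8, [0, 2]), (1, [])], [0, 2, 0, 1, 0, 1, 2, 1, 2, 0, 2, 1, 2, 0, 1, 0]),
  ([(10, [0, 1, 0, 2, 1, 2]), (7, [0, 1, 0]), (9, [0, 1, 0, 1])], [0, 1, 0, 2, 1, 2, 0, 1, 0, 1, 2,
  0, 2, 0, 1, 0, 1, 0]),
  ([(8, [0, 1, 0, 2, 1, 2, 0]), (3, [])], [0, 1, 0, 2, 1, 2, 0, 1, 2, 0, 1, 0, 2, 0]),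
  ([(1, []), (2, [])], [0, 2, 0, 1, 0, 2, 0, 1, 2, 0, 2, 0, 1, 0, 1, 0]),
  ([(9, []), (7, []), (0, []), (16, [])], [0, 2, 1, 0, 1, 2, 0, 1, 2, 0, 2, 1])]

/-- relators of planeq, latest first -/
def planeqBase : List (List ℕ) := [[0, 2, 1, 0, 1, 2, 0, 2, 1, 0, 1, 2], [0, 2, 1, 2, 0, 2, 1, 2, 0, 2, 1, 2], [1, 2, 1, 2, 1, 2], [0, 2, 0, 2, 0, 2], [0, 1, 0, 1, 0, 1]]

/-- derivation planeq -/
def planeq : List (List (ℕ × List ℕ) × List ℕ) := [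
  ([(8, []), (4, []), (7, [])], [0, 1, 0, 1, 0, 2, 1, 2, 1, 0, 2, 0, 2, 0]),
  ([(2, []), (9, []), (1, [])], [0, 2, 1, 0, 1, 2, 0, 2, 1, 0, 2, 1, 2, 0, 1, 0, 1, 0]),
  ([(4, [0, 2]), (11, [0, 1, 0, 1])], [0, 2, 0, 2, 1, 0, 1, 0, 2, 0, 1, 0, 1, 0]),
  ([(15, [0, 2, 0, 2]), (5, []), (3, [])], [0, 2, 0, 2, 1, 0, 2, 0, 2, 1, 0, 1, 2, 0]),
  ([(3, []), (0, [])], [0, 1, 0, 1, 0, 2, 0, 1, 2, 0, 2, 1, 0, 1, 2, 0]),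
  ([(7, []), (1, [])], [0, 1, 0, 1, 0, 2, 1, 0, 1, 0, 1, 0]),
  ([(0, []), (20, [])], [0, 1, 0, 1, 0, 2]),
  ([(23, []), (0, [])], [1, 2])]

end

end Cfsg.Agent.FischerTwins.SmallData
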