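import Cfsg.Agent.Lib.FischerTwins.Foot
import Cfsg.Agent.Lib.FischerTwins.SmallData
import Cfsg.Agent.Lib.FischerSolvable.Config

/-!
Five commuting members with trivial product lie on a line; planes of nine members.
-/

set_option autoImplicit false
set_option maxRecDepth 20000

namespace Cfsg.Agent.FischerTwins

open Cfsg.Agent Cfsg.Agent.Fischer Subgroup Cfsg.Agent.CosetCert
open Cfsg.Agent.FischerSolvable (genOf genOf_invol sq_of_commute cube_of_not)
open Cfsg.Agent.Fischer.OddCoreLocal (Ctx X)
open Cfsg.Agent.Fischer.LocalSymThree (nb nb_symm)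

variable {G : Type*} [Group G] {D : Set G}

theorem five_ok : WordProof.steps SmallData.fiveBase SmallData.five = true := by decide +kernel

theorem five_last : (SmallData.five.map Prod.snd).getLastD [] = [0, 1, 0, 1] := by decide +kernel

theorem plane_ok : WordProof.steps SmallData.planeBase SmallData.plane = true := by decide +kernel

theorem plane_last : (SmallData.plane.map Prod.snd).getLastD [] =
    [0, 2, 1, 0, 1, 2, 0, 1, 2, 0, 2, 1] := by decide +kernel

theorem planeq_ok : WordProof.steps SmallData.planeqBase SmallData.planeq = true := by decide +kernel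

theorem planeq_last : (SmallData.planeq.map Prod.snd).getLastD [] = [1, 2] := by decide +kernel

namespace Hyp

variable (hH : Hyp D)
include hH

theorem five_aux {u c d e : G} (hu : u ∈ D) (hc : c ∈ D) (hd : d ∈ D) (he : e ∈ D) (hcd : Commute c d)
    (hce : Commute c e) (hde : Commute d e) (h : Commute u (c * d * e)) (huc : ¬ Commute u c)
    (hud : ¬ Commute u d) (hue : ¬ Commute u e) : False := by
  have hD := hH.tset
  have hinv : ∀ i, genOf [u, c, d, e] i * genOf [u, c, d, e] i = 1 := genOf_invol fun y hy =>
    TSet.sq hD (by
      simp only [List.mem_cons, List.not_mem_nil, or_false] at hy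
      rcases hy with rfl | rfl | rfl | rfl <;> assumption)
  have hbase : ∀ w ∈ SmallData.fiveBase, wprod (genOf [u, c, d, e]) w = 1 := by
    intro w hw
    simp only [SmallData.fiveBase, List.mem_cons, List.not_mem_nil, or_false] at hw
    rcases hw with rfl | rfl | rfl | rfl | rfl | rfl | rfl <;>
      simp only [wprod, genOf, List.map_cons, List.map_nil, List.prod_cons, List.prod_nil, mul_one,
        List.getD_cons_zero, List.getD_cons_succ]
    · rw [show u * (c * (d * (e * (u * (e * (d * c)))))) = (u * (c * d * e)) * (u * (e * (d * c))) by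
        simp only [mul_assoc], h.eq,
        show c * d * e * u * (u * (e * (d * c))) = c * d * e * (u * u) * (e * (d * c)) by
          simp only [mul_assoc], TSet.sq hD hu, mul_one,
        show c * d * e * (e * (d * c)) = c * (d * (e * e) * d) * c by simp only [mul_assoc],
        TSet.sq hD he, mul_one, TSet.sq hD hd, mul_one, TSet.sq hD hc]
    · exact sq_of_commute hD hd he hde
    · exact sq_of_commute hD hc he hce
    · exact sq_of_commute hD hc hd hcd
    · exact cube_of_not hD hu he hue
    · exact cube_of_not hD hu hd hud
    · exact cube_of_not hD hu hc huc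
  have h1 := WordProof.last_one hinv hbase five_ok
  rw [five_last] at h1
  refine huc ((commute_iff_sq_eq_one (TSet.sq hD hu) (TSet.sq hD hc)).2 ?_)
  simpa [wprod, genOf, pow_two, mul_assoc] using h1

/-- Five commuting members with trivial product: each lies on the line of any two. -/
theorem five_line {a b c d e : G} (ha : a ∈ D) (hb : b ∈ D) (hc : c ∈ D) (hd : d ∈ D) (he : e ∈ D)
    (hcd : Commute c d) (hce : Commute c e) (hde : Commute d e) (hne : c ≠ d ∧ c ≠ e ∧ d ≠ e)
    (hprod : a * b * (c * d * e) = 1) : c ∈ Line D a b := by
  refine ⟨hc, fun u ⟨hu, hua, hub⟩ => ?_⟩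
  have hcde : Commute u (c * d * e) := by
    rw [eq_inv_of_mul_eq_one_right hprod]
    exact (hua.mul_right hub).inv_right
  by_contra huc
  have hD := hH.tset
  by_cases hud : Commute u d
  · refine huc ((TSet.commute_mul_iff hD hc he hu hne.2.1 hce).1 ?_).1
    have : c * e = (c * d * e) * d := by
      rw [mul_assoc (c * d), ← hde.eq, mul_assoc c, ← mul_assoc d d, TSet.sq hD hd, one_mul]
    rw [this]
    exact hcde.mul_right hud
  by_cases hue : Commute u e
  · refine huc ((TSet.commute_mul_iff hD hc hd hu hne.1 hcd).1 ?_).1
    have : c * d = (c * d * e) * e := by rw [mul_assoc, TSet.sq hD he, mul_one]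
    rw [this]
    exact hcde.mul_right hue
  exact hH.five_aux hu hc hd he hcd hce hde hcde huc hud hue

/-- The plane of three members. -/
theorem plane {r a b : G} (hr : r ∈ D) (ha : a ∈ D) (hb : b ∈ D) (hra : ¬ Commute r a) (hrb : ¬ Commute r b)
    (hab : ¬ Commute a b) (hrc : ¬ Commute r (b * a * b)) :
    ¬ Commute r (b * (a * r * a) * b) ∧
      r * (b * (a * r * a) * b) * r = a * (b * r * b) * a := by
  have hD := hH.tset
  have hinv : ∀ i, genOf [r, a, b] i * genOf [r, a, b] i = 1 := genOf_invol fun y hy =>
    TSet.sq hD (by
      simp only [List.mem_cons, List.not_mem_nil, or_false] at hy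
      rcases hy with rfl | rfl | rfl <;> assumption)
  have hbase : ∀ w ∈ SmallData.planeBase, wprod (genOf [r, a, b]) w = 1 := by
    intro w hw
    simp only [SmallData.planeBase, List.mem_cons, List.not_mem_nil, or_false] at hw
    rcases hw with rfl | rfl | rfl | rfl <;>
      simp only [wprod, genOf, List.map_cons, List.map_nil, List.prod_cons, List.prod_nil, mul_one,
        List.getD_cons_zero, List.getD_cons_succ]
    · have hbab : b * a * b ∈ D := by simpa [TSet.inv hD hb] using hH.ctx.conj_mem b ha
      have := cube_of_not hD hr hbab hrc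
      simpa [mul_assoc] using this
    · exact cube_of_not hD ha hb hab
    · exact cube_of_not hD hr hb hrb
    · exact cube_of_not hD hr ha hra
  refine ⟨fun h => hab ?_, ?_⟩
  · have hext : ∀ w ∈ SmallData.planeqBase, wprod (genOf [r, a, b]) w = 1 := by
      intro w hw
      rw [SmallData.planeqBase, List.mem_cons] at hw
      rcases hw with rfl | hw
      · have hara : a * r * a ∈ D := by simpa [TSet.inv hD ha] using hH.ctx.conj_mem a hr
        have hQ : b * (a * r * a) * b ∈ D := by simpa [TSet.inv hD hb] using hH.ctx.conj_mem b hara
        have := sq_of_commute hD hr hQ h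
        simpa [wprod, genOf, mul_assoc] using this
      · exact hbase w hw
    have h1 := WordProof.last_one hinv hext planeq_ok
    rw [planeq_last] at h1
    have e : a = b := by
      have e1 : a * b = 1 := by simpa [wprod, genOf] using h1
      rw [mul_eq_one_iff_eq_inv, TSet.inv hD hb] at e1
      exact e1
    exact e ▸ Commute.refl a
  · have h1 := WordProof.last_one hinv hbase plane_ok
    rw [plane_last] at h1
    refine eq_of_mul_inv_eq_one ?_
    rw [← h1]
    simp [wprod, genOf, mul_assoc, TSet.inv hD ha, TSet.inv hD hb, TSet.inv hD hr]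

end Hyp

end Cfsg.Agent.FischerTwins
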