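import Cfsg.Agent.Lib.FischerTwins.Config
import Cfsg.Agent.Lib.FischerTwins.Small
import Cfsg.Agent.Lib.FischerTwins.Model
import Cfsg.Agent.Lib.FischerTwins.Local
import Cfsg.Agent.Lib.FischerSolvable.Identify

/-!
A copy of the isotropic points of dimension four among the members.
-/

set_option autoImplicit false
set_option maxRecDepth 20000

namespace Cfsg.Agent.FischerTwins

open Cfsg Cfsg.Agent Cfsg.Agent.Fischer Subgroup Cfsg.Agent.CosetCert Cfsg.Agent.RigidGraph.He
open Cfsg.Agent.FischerSolvable (relFour genOf genOf_invol)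
open Cfsg.Agent.FischerSolvable.Model (tv tr vec)
open Cfsg.Agent.Fischer.LocalSymThree (nb nb_symm)

variable {G : Type*} [Group G] {D : Set G}

/-- The isotropic points of dimension four as members. -/
structure Base (D : Set G) where
  T : (Fin 4 → K4) → G
  mem : ∀ v, v ≠ 0 → hf 4 v v = 0 → T v ∈ D
  scalar : ∀ v, ∀ c : K4, c ≠ 0 → hf 4 v v = 0 → T (c • v) = T v
  comm : ∀ v w, v ≠ 0 → w ≠ 0 → hf 4 v v = 0 → hf 4 w w = 0 → (Commute (T v) (T w) ↔ hf 4 v w = 0)
  conj : ∀ v w, hf 4 v v = 0 → hf 4 w w = 0 → T (tv v w) = T v * T w * T v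
  prod : ∀ L : List (Fin 4 → K4), (∀ v ∈ L, hf 4 v v = 0) →
    (∀ i : Fin 4, L.foldr tv (Pi.single i 1) = Pi.single i 1) → (L.map T).prod = 1

theorem four_gen_iso : ∀ j < FischerSolvable.MFour.vecs.length,
    hermForm 4 K4 2 (FischerSolvable.Model.gv 4 FischerSolvable.MFour.vecs j)
      (FischerSolvable.Model.gv 4 FischerSolvable.MFour.vecs j) = 0 := by decide +kernel

theorem four_unit : ∀ i : Fin 4, vec 4 (4 ^ (i : ℕ)) = Pi.single i 1 := by decide +kernel

theorem four_rel_lt : ∀ w ∈ relFour, ∀ a ∈ w, a < FischerSolvable.MFour.vecs.length := by decide +kernel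

theorem four_vec_iso : ∀ c ∈ FischerSolvable.MFour.vecs, hf 4 (vec 4 c) (vec 4 c) = 0 := by decide +kernel

theorem pure_gen {n : ℕ} (V : List ℕ) {j : ℕ} (hj : j < V.length) :
    FischerSolvable.Model.gen n V j = tr (vec n (V.getD j 0)) := if_pos hj

theorem exists_psu_hom {gen : ℕ → G} (hinv : ∀ i, gen i * gen i = 1)
    (hrel : ∀ w ∈ relFour, wprod gen w = 1) :
    ∃ φ : Cfsg.PSU 4 K4 2 →* G, ∀ j < FischerSolvable.MFour.vecs.length,
      φ (ptr (vec 4 (FischerSolvable.MFour.vecs.getD j 0))) = gen j := by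
  set V := FischerSolvable.MFour.vecs
  have hn : 0 < 4 := by norm_num
  let π : Cfsg.SU 4 K4 2 →* Cfsg.PSU 4 K4 2 := QuotientGroup.mk' _
  set m : ℕ → Cfsg.PSU 4 K4 2 := fun i => π (FischerSolvable.Model.gen 4 V i) with hmdef
  have hm : ∀ i, m i * m i = 1 := fun i => by
    show π _ * π _ = 1
    rw [← map_mul, FischerSolvable.Model.gen_sq hn four_gen_iso, map_one]
  have hmrel : ∀ w ∈ relFour, wprod m w = 1 := fun w hw => by
    have h := congrArg π (FischerSolvable.Model.rels_spec hn four_gen_iso four_unit relFour _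
      FischerSolvable.four_rels four_rel_lt w hw)
    rw [map_one, wprod, map_list_prod, List.map_map] at h
    exact h
  have hmgen : closure (m '' {i | i < 6}) = ⊤ := by
    have h := congrArg (Subgroup.map π)
      (FischerSolvable.Model.closure_gen hn four_gen_iso (by norm_num) (by norm_num) FischerSolvable.four_cover
        FischerSolvable.four_orbit (FischerSolvable.exists_code 4) FischerSolvable.weight_four)
    rw [MonoidHom.map_closure, ← Set.image_comp,
      Subgroup.map_top_of_surjective _ (QuotientGroup.mk'_surjective _)] at h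
    exact h
  obtain ⟨φ, hφ⟩ := exists_lift (gen := gen) hmgen (by
    rw [FischerSolvable.card_psu_four, ← FischerSolvable.closure_pick 6]
    refine FischerSolvable.cardLe_four (fun i => Prod.ext (hinv i) (hm i)) fun w hw => Prod.ext ?_ ?_
    · rw [← MonoidHom.coe_fst, wprod, map_list_prod, List.map_map]
      exact hrel w hw
    · rw [← MonoidHom.coe_snd, wprod, map_list_prod, List.map_map]
      exact hmrel w hw)
  refine ⟨φ, fun j hj => ?_⟩
  have h6 : V.length = 6 := rfl
  rw [← hφ j (h6 ▸ hj), hmdef]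
  show _ = φ (π (FischerSolvable.Model.gen 4 V j))
  rw [pure_gen V hj]
  rfl

/-- A group acting as the projective unitary group gives a base. -/
theorem base_of_hom {n : ℕ} (h4 : n = 4) {φ : Cfsg.PSU n K4 2 →* G} (hinj : Function.Injective φ)
    (hmem : ∀ v, v ≠ 0 → hf n v v = 0 → φ (ptr v) ∈ D) : Nonempty (Base D) := by
  subst h4
  have hn : 0 < 4 := by norm_num
  refine ⟨⟨fun v => φ (ptr v), hmem, ?_, ?_, ?_, ?_⟩⟩
  · intro v c hc hv
    show φ (ptr (c • v)) = φ (ptr v)
    rw [ptr, ptr, tr_scalar hn hc hv]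
  · intro v w hv0 hw0 hv hw
    refine ⟨fun h => orth_of_commute hn hv hw hv0 (hinj ?_), fun h => ?_⟩
    · simpa only [map_mul] using h.eq
    · exact ((tr_commute hn hv hw h).map _).map φ
  · intro v w hv hw
    show φ (ptr (tv v w)) = φ (ptr v) * φ (ptr w) * φ (ptr v)
    rw [ptr, ptr, ptr, (FischerSolvable.Model.tr_conj hn hw hv).2, map_mul, map_mul, map_mul, map_mul]
  · intro L hL hfix
    have h := congrArg φ (prod_ptr hn hL hfix)
    rw [map_list_prod, List.map_map, map_one] at h
    exact h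

namespace Hyp

variable (hH : Hyp D) [Finite G] (h5 : ∀ p ∈ D, ∀ q ∈ nb D p, (Line D p q).ncard = 5)
include hH h5

theorem exists_base (hne : D.Nonempty) : Nonempty (Base D) := by
  obtain ⟨l, hl6, hlD, hrel, hnc⟩ := hH.exists_six h5 hne
  obtain ⟨φ, hφ⟩ := exists_psu_hom (genOf_invol fun y hy => TSet.sq hH.tset (hlD y hy)) hrel
  have h6 : FischerSolvable.MFour.vecs.length = 6 := rfl
  have hinj : Function.Injective φ := by
    haveI := FischerSolvable.isSimple_psu (n := 4) le_rfl
    rcases φ.normal_ker.eq_bot_or_eq_top with h | h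
    · exact (MonoidHom.ker_eq_bot_iff φ).1 h
    · refine absurd ?_ hnc
      rw [← hφ 0 (by rw [h6]; norm_num), ← hφ 1 (by rw [h6]; norm_num),
        MonoidHom.mem_ker.1 (h.ge (mem_top _))]
      exact Commute.one_left _
  let π : Cfsg.SU 4 K4 2 →* Cfsg.PSU 4 K4 2 := QuotientGroup.mk' _
  have hbase : ∀ c ∈ FischerSolvable.MFour.vecs,
      hf 4 (vec 4 c) (vec 4 c) = 0 ∧ (φ.comp π) (tr (vec 4 c)) ∈ D := by
    intro c hc
    refine ⟨four_vec_iso c hc, ?_⟩
    obtain ⟨j, hj, rfl⟩ := List.mem_iff_getElem.1 hc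
    have h := hφ j hj
    rw [List.getD_eq_getElem _ _ hj] at h
    show φ (ptr _) ∈ D
    rw [h]
    exact hlD _ (by
      rw [FischerSolvable.genOf, List.getD_eq_getElem _ _ (show j < l.length by omega)]
      exact List.getElem_mem _)
  have hall := orbit_mem (n := 4) (by norm_num) (φ := φ.comp π) (fun g hg p hp => by
      simpa [TSet.inv hH.tset hg] using hH.ctx.conj_mem g hp)
    hbase _ _ FischerSolvable.four_orbit hbase
  refine base_of_hom rfl hinj fun v hv0 hv => ?_
  obtain ⟨c, hc, rfl⟩ := FischerSolvable.exists_code 4 v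
  have hk := List.all_eq_true.1 FischerSolvable.four_cover c (List.mem_range.2 hc)
  simp only [Bool.or_eq_true, Nat.beq_eq, List.any_eq_true] at hk
  rcases hk with ((h | h) | h) | h
  · subst h
    exact absurd (funext fun i => by simp [vec, K4.ofDigit]; rfl) hv0
  · exact absurd hv (FischerSolvable.weight_four c hc h)
  · obtain ⟨j, hj, rfl⟩ := h
    exact (hall j (List.mem_append_left _ hj)).2
  · obtain ⟨p, hp, rfl⟩ := h
    exact (hall p.1 (List.mem_append_right _ (List.mem_map_of_mem hp))).2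

end Hyp

end Cfsg.Agent.FischerTwins
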