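import Cfsg.Agent.Lib.FischerTwins.Pairs
import Cfsg.Agent.Lib.FischerSolvable.Config

/-!
Six members satisfying the relators of U₄(2).
-/

set_option autoImplicit false
set_option maxRecDepth 20000

namespace Cfsg.Agent.FischerTwins

open Cfsg.Agent Cfsg.Agent.Fischer Subgroup Cfsg.Agent.CosetCert
open Cfsg.Agent.CosetData.FischerSolvable
open Cfsg.Agent.FischerSolvable (qq relFour genOf sq_of_commute cube_of_not)
open Cfsg.Agent.Fischer.OddCoreLocal (Ctx X)
open Cfsg.Agent.Fischer.LocalSymThree (nb nb_symm)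

variable {G : Type*} [Group G] {D : Set G}

namespace Hyp

variable (hH : Hyp D) [Finite G] (h5 : ∀ p ∈ D, ∀ q ∈ nb D p, (Line D p q).ncard = 5)
include hH

/-- The fifth point of a line as a word. -/
theorem fifth {x a b c w : G} (hx : x ∈ D) (ha : a ∈ nb D x) (hb : b ∈ Line D x a) (hc : c ∈ Line D x a)
    (hbx : b ≠ x) (hba : b ≠ a) (hcx : c ≠ x) (hca : c ≠ a) (hcb : c ≠ b) (hw : w ∈ nb D x)
    (haw : ¬ Commute a w) :
    w * c * b * a * w * a * b * c * w ∈ Line D x a ∧
      w * c * b * a * w * a * b * c * w ∉ ({x, a, b, c} : Set G) := by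
  have hD := hH.tset
  have hK : ∀ v ∈ Line D x a, v ≠ x → ¬ Commute w v := fun v hv hvx h =>
    hvx (hH.foot_unique hx ha hw.1 (right_mem_line ha.1) (fun e => haw e.symm) hv (left_mem_line hx) h
      hw.2.2.symm)
  have cl := fun {s t : G} (hs : s ∈ Line D x a) (ht : t ∈ Line D x a) => line_clique hx ha hs ht
  have hal : a ∈ Line D x a := right_mem_line ha.1
  obtain ⟨d, hd, hwd, hda, hdb, hdc, he⟩ := hH.quad hx ha hw.1 hal hb hc
    (hK a hal ha.2.1) (hK b hb hbx) (hK c hc hcx) hba.symm (Ne.symm hca) (Ne.symm hcb)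
  have hdx : d ≠ x := fun h => hwd (h ▸ hw.2.2.symm)
  have key : w * c * b * a * w * a * b * c * w = d := by
    have e1 : qq w a b = b * a * w * a * b := by
      rw [qq, (cl hal hb).eq, mul_inv_rev, TSet.inv hD ha.1, TSet.inv hD hb.1]
      simp only [mul_assoc]
    calc w * c * b * a * w * a * b * c * w = w * (c * qq w a b * c) * w := by
          rw [e1]; simp only [mul_assoc]
      _ = w * ((c * c) * (d * w * d) * (c * c)) * w := by
          rw [← he, qq, (cl hc hd).eq, mul_inv_rev, TSet.inv hD hc.1, TSet.inv hD hd.1,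
            show c * (d * c * w * (c * d)) * c = c * (d * c) * w * (c * d) * c by simp only [mul_assoc],
            (cl hd hc).eq]
          simp only [mul_assoc]
          rw [← mul_assoc c d (c * w), (cl hc hd).eq, mul_assoc]
      _ = w * (d * w * d) * w := by rw [TSet.sq hD hc.1, one_mul, mul_one]
      _ = (w * w) * d * (w * w) := by
          rw [← TSet.braid hD hw.1 hd.1 hwd]; simp only [mul_assoc]
      _ = d := by rw [TSet.sq hD hw.1, one_mul, mul_one]
  rw [key]
  exact ⟨hd, by simp [hdx, hda, hdb, hdc]⟩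

include h5

/-- Generators satisfying the relators, the first two not commuting. -/
theorem exists_six (hne : D.Nonempty) :
    ∃ l : List G, l.length = 6 ∧ (∀ y ∈ l, y ∈ D) ∧ (∀ v ∈ relFour, wprod (genOf l) v = 1) ∧
      ¬ Commute (genOf l 0) (genOf l 1) := by
  classical
  obtain ⟨x, hx⟩ := hne
  have hD := hH.tset
  obtain ⟨a, ha⟩ := hH.res x hx
  obtain ⟨g, hg, hxg⟩ := hH.exists_other_line ha.1 (nb_symm hx ha)
  have hag : Commute a g := hg.2.2
  have haT : a ∈ X D x g := mem_X_of_not hx hg.1 hxg ha.1 ha.2.2.symm hag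
  obtain ⟨w, hwT, haw⟩ := hH.X_partner hx hg.1 hxg haT
  have hw : w ∈ nb D x := hwT.1
  have hwg : Commute w g := hwT.2.2.2.symm
  have hL5 := h5 x hx a ha
  obtain ⟨b, hb, hbne⟩ := Set.exists_mem_notMem_of_ncard_lt_ncard
    (s := ({x, a} : Set G)) (t := Line D x a) (by
      rw [Set.ncard_pair ha.2.1.symm, hL5]; omega) (Set.toFinite _)
  simp only [Set.mem_insert_iff, Set.mem_singleton_iff, not_or] at hbne
  obtain ⟨hbx, hba⟩ := hbne
  obtain ⟨c, hc, hcne⟩ := Set.exists_mem_notMem_of_ncard_lt_ncard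
    (s := ({x, a, b} : Set G)) (t := Line D x a) (by
      refine lt_of_le_of_lt ((Set.ncard_insert_le _ _).trans (Nat.succ_le_succ (Set.ncard_insert_le _ _))) ?_
      simp [hL5]) (Set.toFinite _)
  simp only [Set.mem_insert_iff, Set.mem_singleton_iff, not_or] at hcne
  obtain ⟨hcx, hca, hcb⟩ := hcne
  have hal : a ∈ Line D x a := right_mem_line ha.1
  have hxl : x ∈ Line D x a := left_mem_line hx
  have cl := fun {s t : G} (hs : s ∈ Line D x a) (ht : t ∈ Line D x a) => line_clique hx ha hs ht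
  have hgK : ∀ v ∈ Line D x a, v ≠ a → ¬ Commute g v := fun v hv hva h =>
    hva (hH.foot_unique hx ha hg.1 hxl (fun e => hxg e.symm) hv hal h hag.symm)
  have hwK : ∀ v ∈ Line D x a, v ≠ x → ¬ Commute w v := fun v hv hvx h =>
    hvx (hH.foot_unique hx ha hw.1 hal (fun e => haw e.symm) hv hxl h hw.2.2.symm)
  obtain ⟨hd, hd'⟩ := hH.fifth hx ha hb hc hbx hba hcx hca hcb hw haw
  set d := w * c * b * a * w * a * b * c * w with hddef
  simp only [Set.mem_insert_iff, Set.mem_singleton_iff, not_or] at hd'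
  have h5' : ({x, a, b, c, d} : Set G).ncard = 5 := by
    rw [Set.ncard_insert_of_notMem (by simp [ha.2.1.symm, Ne.symm hbx, Ne.symm hcx, Ne.symm hd'.1]),
      Set.ncard_insert_of_notMem (by simp [Ne.symm hba, Ne.symm hca, Ne.symm hd'.2.1]),
      Set.ncard_insert_of_notMem (by simp [Ne.symm hcb, Ne.symm hd'.2.2.1]),
      Set.ncard_pair (Ne.symm hd'.2.2.2)]
  have hprod := hH.prod_five hx ha hL5 hxl hal hb hc hd h5'
  have hcube := @cube_of_not G _ D
  have hsq := @sq_of_commute G _ D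
  refine ⟨[x, g, b, w, a, c], rfl, by simp [hx, hg.1, hb.1, hw.1, ha.1, hc.1], ?_, hxg⟩
  intro v hv
  simp only [relFour, T6.base, List.mem_cons, List.not_mem_nil, or_false] at hv
  rcases hv with rfl | rfl | rfl | rfl | rfl | rfl | rfl | rfl | rfl | rfl | rfl | rfl | rfl |
      rfl | rfl | rfl <;>
    simp only [wprod, genOf, List.map_cons, List.map_nil, List.prod_cons, List.prod_nil, mul_one,
      List.getD_cons_zero, List.getD_cons_succ]
  · exact hcube hD hx hg.1 hxg
  · exact hsq hD hx hb.1 (cl hxl hb)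
  · exact hsq hD hx hw.1 hw.2.2
  · exact hsq hD hx ha.1 ha.2.2
  · exact hsq hD hx hc.1 (cl hxl hc)
  · exact hcube hD hg.1 hb.1 (hgK b hb hba)
  · exact hsq hD hg.1 hw.1 hwg.symm
  · exact hsq hD hg.1 ha.1 hag.symm
  · exact hcube hD hg.1 hc.1 (hgK c hc hca)
  · exact hcube hD hb.1 hw.1 fun h => hwK b hb hbx h.symm
  · exact hsq hD hb.1 ha.1 (cl hb hal)
  · exact hsq hD hb.1 hc.1 (cl hb hc)
  · exact hcube hD hw.1 ha.1 fun h => haw h.symm
  · exact hcube hD hw.1 hc.1 (hwK c hc hcx)
  · exact hsq hD ha.1 hc.1 (cl hal hc)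
  · simpa [hddef, mul_assoc] using hprod

end Hyp

end Cfsg.Agent.FischerTwins
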