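import Cfsg.Agent.Lib.FischerTwins.Two

/-!
Unit vectors and the vectors of weight two of one dimension more.
-/

set_option autoImplicit false

namespace Cfsg.Agent.FischerTwins

open Cfsg Cfsg.Agent.RigidGraph.He
open Cfsg.Agent.FischerSolvable.Model (tv)

variable {k : ℕ}

/-- A multiple of a unit vector. -/
def One (x : Fin k → K4) : Prop := ∃ j c, c ≠ 0 ∧ x = Pi.single j c

theorem one_single (j : Fin k) {c : K4} (hc : c ≠ 0) : One (Pi.single j c) := ⟨j, c, hc, rfl⟩

theorem One.self {x : Fin k → K4} (h : One x) : hf k x x = 1 := by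
  obtain ⟨j, c, hc, rfl⟩ := h
  rw [hf_single_left, Pi.single_eq_same, K4.cube_one c hc]

theorem One.smul {x : Fin k → K4} (h : One x) {a : K4} (ha : a ≠ 0) : One (a • x) := by
  obtain ⟨j, c, hc, rfl⟩ := h
  exact ⟨j, a * c, mul_ne_zero ha hc, by rw [← Pi.single_smul, smul_eq_mul]⟩

theorem One.zero_or {x : Fin k → K4} (h : One x) (z : Fin k) :
    x z = 0 ∨ ∃ c : K4, c ≠ 0 ∧ x = c • (Pi.single z 1 : Fin k → K4) := by
  obtain ⟨j, c, hc, rfl⟩ := h
  by_cases e : j = z
  · exact Or.inr ⟨c, hc, by rw [e, ← Pi.single_smul, smul_eq_mul, mul_one]⟩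
  · exact Or.inl (Pi.single_eq_of_ne (Ne.symm e) _)

theorem One.two_add {x : Fin k → K4} (h : One x) {z : Fin k} (hz : x z = 0) :
    Two (Pi.single z 1 + x : Fin k → K4) := by
  obtain ⟨j, c, hc, rfl⟩ := h
  have hjz : j ≠ z := fun e => hc (by rw [e, Pi.single_eq_same] at hz; exact hz)
  exact two_m2 hjz.symm one_ne_zero hc

theorem One.tv_two {x : Fin k → K4} (hx : One x) {t : Fin k → K4} (ht : Two t) : One (tv t x) := by
  obtain ⟨j, c, hc, rfl⟩ := hx
  obtain ⟨p, q, a, b, hpq, ha, hb, rfl⟩ := ht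
  by_cases hp : p = j
  · subst hp
    refine ⟨q, c * a ^ 2 * b, mul_ne_zero (mul_ne_zero hc (pow_ne_zero _ ha)) hb, funext fun l => ?_⟩
    rw [tv_eq, hf_single_left, m2_apply_left hpq]
    simp only [Pi.add_apply, Pi.smul_apply, smul_eq_mul]
    by_cases h1 : l = p
    · subst h1
      rw [Pi.single_eq_same, m2_apply_left hpq, Pi.single_eq_of_ne hpq, mul_assoc, mul_comm (a ^ 2),
        K4.cube_one a ha, mul_one, K4.add_self]
    · by_cases h2 : l = q
      · subst h2
        rw [Pi.single_eq_of_ne h1, m2_apply_right hpq, Pi.single_eq_same, zero_add]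
      · rw [Pi.single_eq_of_ne h1, m2_apply_other h1 h2, Pi.single_eq_of_ne h2, mul_zero, add_zero]
  by_cases hq : q = j
  · subst hq
    refine ⟨p, c * b ^ 2 * a, mul_ne_zero (mul_ne_zero hc (pow_ne_zero _ hb)) ha, funext fun l => ?_⟩
    rw [tv_eq, hf_single_left, m2_apply_right hpq]
    simp only [Pi.add_apply, Pi.smul_apply, smul_eq_mul]
    by_cases h1 : l = q
    · subst h1
      rw [Pi.single_eq_same, m2_apply_right hpq, Pi.single_eq_of_ne (Ne.symm hpq), mul_assoc,
        mul_comm (b ^ 2), K4.cube_one b hb, mul_one, K4.add_self]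
    · by_cases h2 : l = p
      · subst h2
        rw [Pi.single_eq_of_ne h1, m2_apply_left hpq, Pi.single_eq_same, zero_add]
      · rw [Pi.single_eq_of_ne h1, m2_apply_other h2 h1, Pi.single_eq_of_ne h2, mul_zero, add_zero]
  refine ⟨j, c, hc, tv_fix ?_⟩
  rw [hf_single_left, m2_apply_other (Ne.symm hp) (Ne.symm hq)]
  simp

/-- A unit vector is carried to any other by a transvection of weight two. -/
theorem tv_unit_move {j b : Fin k} (h : j ≠ b) {c c' : K4} (hc : c ≠ 0) :
    tv (m2 j b 1 (c' / c)) (Pi.single j c) = Pi.single b c' := by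
  funext l
  rw [tv_eq, hf_single_left, m2_apply_left h, one_pow, mul_one]
  simp only [Pi.add_apply, Pi.smul_apply, smul_eq_mul]
  by_cases h1 : l = j
  · subst h1
    rw [Pi.single_eq_same, m2_apply_left h, Pi.single_eq_of_ne h, mul_one, K4.add_self]
  by_cases h2 : l = b
  · subst h2
    rw [Pi.single_eq_of_ne h1, m2_apply_right h, Pi.single_eq_same, zero_add, mul_div_cancel₀ _ hc]
  rw [Pi.single_eq_of_ne h1, m2_apply_other h1 h2, Pi.single_eq_of_ne h2, mul_zero, add_zero]

/-- The last coordinate forgotten. -/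
def ini (v : Fin (k + 1) → K4) : Fin k → K4 := fun i => v i.castSucc

/-- A zero appended. -/
def up (v : Fin k → K4) : Fin (k + 1) → K4 := push Fin.castSucc v

/-- A one appended. -/
def nv (x : Fin k → K4) : Fin (k + 1) → K4 := up x + Pi.single (Fin.last k) 1

theorem up_castSucc (v : Fin k → K4) (i : Fin k) : up v i.castSucc = v i :=
  push_apply (Fin.castSucc_injective k) v i

theorem up_last (v : Fin k → K4) : up v (Fin.last k) = 0 :=
  push_apply_other (fun i => (Fin.castSucc_lt_last i).ne) v

theorem ini_up (v : Fin k → K4) : ini (up v) = v := funext (up_castSucc v)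

theorem up_ini {v : Fin (k + 1) → K4} (h : v (Fin.last k) = 0) : up (ini v) = v := by
  funext l
  induction l using Fin.lastCases with
  | last => rw [up_last, h]
  | cast i => exact up_castSucc _ i

theorem hf_up (u v : Fin k → K4) : hf (k + 1) (up u) (up v) = hf k u v :=
  hf_push_push (Fin.castSucc_injective k) u v

theorem nv_last (x : Fin k → K4) : nv x (Fin.last k) = 1 := by
  rw [nv, Pi.add_apply, up_last, Pi.single_eq_same, zero_add]

theorem ini_nv (x : Fin k → K4) : ini (nv x) = x := by
  funext i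
  rw [ini, nv, Pi.add_apply, up_castSucc, Pi.single_eq_of_ne (Fin.castSucc_lt_last i).ne, add_zero]

theorem hf_nv_up (x t : Fin k → K4) : hf (k + 1) (nv x) (up t) = hf k x t := by
  rw [nv, hf_add_left, hf_up, hf_single_left, up_last]
  simp

theorem hf_nv_nv (x y : Fin k → K4) : hf (k + 1) (nv x) (nv y) = hf k x y + 1 := by
  have h : hf (k + 1) (nv x) (Pi.single (Fin.last k) 1) = 1 := by
    rw [hf_symm, hf_single_left, nv_last]
    simp
  conv_lhs => rw [nv.eq_1 y]
  rw [hf_add_right, hf_nv_up, h]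

theorem tv_up (t v : Fin k → K4) : tv (up t) (up v) = up (tv t v) :=
  tv_push (Fin.castSucc_injective k) t v

theorem tv_up_nv (t x : Fin k → K4) : tv (up t) (nv x) = nv (tv t x) := by
  rw [tv_eq, hf_nv_up, tv_eq, nv, nv, up, up, up, push_add, push_smul]
  abel

theorem two_up {v : Fin k → K4} (h : Two v) : Two (up v) := two_push (Fin.castSucc_injective k) h

theorem two_nv {x : Fin k → K4} (h : One x) : Two (nv x) := by
  obtain ⟨j, c, hc, rfl⟩ := h
  rw [nv, up, push_single]
  exact two_m2 (Fin.castSucc_lt_last j).ne hc one_ne_zero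

/-- The two kinds of vectors of weight two. -/
theorem two_cases {v : Fin (k + 1) → K4} (h : Two v) :
    (∃ t, Two t ∧ v = up t) ∨ ∃ x, One x ∧ Par (nv x) v := by
  obtain ⟨i, j, a, b, hij, ha, hb, rfl⟩ := h
  have key : ∀ (i : Fin k) (a b : K4), a ≠ 0 → b ≠ 0 →
      ∃ x, One x ∧ Par (nv x) (m2 i.castSucc (Fin.last k) a b) := fun i a b ha hb =>
    ⟨Pi.single i (b⁻¹ * a), one_single i (mul_ne_zero (inv_ne_zero hb) ha), b, hb, by
      rw [nv, up, push_single, m2, smul_add, ← Pi.single_smul, ← Pi.single_smul, smul_eq_mul, smul_eq_mul,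
        ← mul_assoc, mul_inv_cancel₀ hb, one_mul, mul_one]⟩
  induction i using Fin.lastCases with
  | last =>
    induction j using Fin.lastCases with
    | last => exact absurd rfl hij
    | cast j =>
      right
      rw [m2_comm]
      exact key j b a hb ha
  | cast i =>
    induction j using Fin.lastCases with
    | last => exact Or.inr (key i a b ha hb)
    | cast j =>
      exact Or.inl ⟨m2 i j a b, two_m2 (fun e => hij (congrArg Fin.castSucc e)) ha hb, by
        rw [up, push_m2]⟩

end Cfsg.Agent.FischerTwins
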