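import Cfsg.Agent.Lib.FischerTwins.Whole
import Cfsg.Agent.Lib.FischerTwins.Units

/-!
A member with a non-isotropic vector extends a frame by one dimension.
-/

set_option autoImplicit false

namespace Cfsg.Agent.FischerTwins

open Cfsg Cfsg.Agent Cfsg.Agent.Fischer Subgroup Cfsg.Agent.RigidGraph.He
open Cfsg.Agent.FischerSolvable.Model (tv)
open Cfsg.Agent.Fischer.LocalSymThree (nb nb_symm)

variable {G : Type*} [Group G] {D : Set G}

namespace Frame

variable {B : Base D} {k : ℕ} (F : Frame B k)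

/-- The first unit vector. -/
noncomputable abbrev e0 : Fin k → K4 := Pi.single (Fin.castLE F.hk 0) 1

/-- The second unit vector. -/
noncomputable abbrev e1 : Fin k → K4 := Pi.single (Fin.castLE F.hk 1) 1

theorem e0_one : One F.e0 := one_single _ one_ne_zero

theorem e1_one : One F.e1 := one_single _ one_ne_zero

theorem e1_z : F.e1 (Fin.castLE F.hk 0) = 0 :=
  Pi.single_eq_of_ne (fun e => absurd (Fin.castLE_injective F.hk e) (by decide)) _

theorem e0_z : F.e0 (Fin.castLE F.hk 0) = 1 := Pi.single_eq_same _ _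

theorem hf_e0 (t : Fin k → K4) : hf k t F.e0 = t (Fin.castLE F.hk 0) := by
  rw [e0, hf_symm, hf_single_left, one_mul, K4.sq_sq]

/-- The transvection moving the first unit vector to `x`. -/
noncomputable def S (x : Fin k → K4) : G := F.M (F.e0 + x)

/-- The candidate at a multiple of the first unit vector. -/
noncomputable def Q (r : G) (δ : K4) (x : Fin k → K4) : G :=
  F.S x * (F.S (δ • x) * r * F.S (δ • x)) * F.S x

open Classical in
/-- The new member with old part `x`. -/
noncomputable def P (r : G) (x : Fin k → K4) : G :=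
  if x (Fin.castLE F.hk 0) = 0 then F.S x * r * F.S x else F.Q r (x (Fin.castLE F.hk 0)) F.e1

theorem P_zero (r : G) {x : Fin k → K4} (h : x (Fin.castLE F.hk 0) = 0) : F.P r x = F.S x * r * F.S x := by
  classical
  rw [P, if_pos h]

theorem P_mult (r : G) {c : K4} (hc : c ≠ 0) : F.P r (c • F.e0) = F.Q r c F.e1 := by
  classical
  have h : (c • F.e0) (Fin.castLE F.hk 0) = c := by
    rw [Pi.smul_apply, e0, Pi.single_eq_same, smul_eq_mul, mul_one]
  rw [P, if_neg (by rw [h]; exact hc), h]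

open Classical in
/-- The extended map. -/
noncomputable def Mx (r : G) (v : Fin (k + 1) → K4) : G :=
  if v (Fin.last k) = 0 then F.M (ini v) else F.P r ((v (Fin.last k))⁻¹ • ini v)

theorem Mx_up (r : G) (t : Fin k → K4) : F.Mx r (up t) = F.M t := by
  classical
  rw [Mx, if_pos (up_last t), ini_up]

theorem Mx_nv (r : G) {x : Fin k → K4} {v : Fin (k + 1) → K4} (h : Par (nv x) v) : F.Mx r v = F.P r x := by
  classical
  obtain ⟨c, hc, rfl⟩ := h
  have hl : (c • nv x) (Fin.last k) = c := by rw [Pi.smul_apply, nv_last, smul_eq_mul, mul_one]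
  rw [Mx, if_neg (by rw [hl]; exact hc), hl]
  congr 1
  funext i
  have := congrFun (ini_nv x) i
  simp only [ini, Pi.smul_apply, smul_eq_mul] at this ⊢
  rw [this, ← mul_assoc, inv_mul_cancel₀ hc, one_mul]

variable (hH : Hyp D) [Finite G] (h5 : ∀ p ∈ D, ∀ q ∈ nb D p, (Line D p q).ncard = 5)
variable {r : G} (hr : r ∈ D) (hre : Par F.e0 (F.proj r))
include hH h5 hr hre

theorem fix_r {t : Fin k → K4} (ht : Two t) (hz : t (Fin.castLE F.hk 0) = 0) :
    F.M t * r * F.M t = r := by
  have h : Commute r (F.M t) := by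
    rw [F.proj_spec hH h5 hr ht, hre.hf_right, F.hf_e0, hz]
  rw [← h.eq, mul_assoc, TSet.sq hH.tset (F.mem t ht), mul_one]

omit hr hre in
theorem conj_S {t x : Fin k → K4} (ht : Two t) (htz : t (Fin.castLE F.hk 0) = 0) (hx : One x)
    (hxz : x (Fin.castLE F.hk 0) = 0) :
    F.M t * F.S x * F.M t = F.S (tv t x) ∧ One (tv t x) ∧ tv t x (Fin.castLE F.hk 0) = 0 := by
  refine ⟨?_, hx.tv_two ht, ?_⟩
  · rw [S, ← F.conj t _ ht (hx.two_add hxz), tv_add, tv_fix (v := t) (x := F.e0), S]
    rw [hf_zero_iff, F.hf_e0, htz]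
  · rw [tv_eq, Pi.add_apply, Pi.smul_apply, hxz, htz, smul_zero, add_zero]

omit hr hre in
theorem S_mem {x : Fin k → K4} (hx : One x) (hxz : x (Fin.castLE F.hk 0) = 0) : F.S x ∈ D :=
  F.mem _ (hx.two_add hxz)

omit hr hre hH h5 [Finite G] in
theorem smul_z {x : Fin k → K4} (hxz : x (Fin.castLE F.hk 0) = 0) (c : K4) :
    (c • x) (Fin.castLE F.hk 0) = 0 := by rw [Pi.smul_apply, hxz, smul_zero]

theorem Q_fix {t x : Fin k → K4} (ht : Two t) (htz : t (Fin.castLE F.hk 0) = 0) (hx : One x)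
    (hxz : x (Fin.castLE F.hk 0) = 0) {δ : K4} (hδ : δ ≠ 0) :
    F.M t * F.Q r δ x * F.M t = F.Q r δ x := by
  have hD := hH.tset
  have hy := hx.smul hδ
  have hyz := F.smul_z hxz δ
  have h2x := hx.two_add hxz
  have h2y := hy.two_add hyz
  have hsx := F.S_mem hH h5 hx hxz
  have hsy := F.S_mem hH h5 hy hyz
  have h2u : Two (tv (F.e0 + x) t) := two_tv h2x ht
  have h2w : Two (tv (F.e0 + δ • x) (tv (F.e0 + x) t)) := two_tv h2y h2u
  have hz : tv (F.e0 + δ • x) (tv (F.e0 + x) t) (Fin.castLE F.hk 0) = 0 := by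
    have hte : hf k t F.e0 = 0 := by rw [F.hf_e0, htz]
    have hxe : hf k x F.e0 = 0 := by rw [F.hf_e0, hxz]
    have hee : hf k F.e0 F.e0 = 1 := F.e0_one.self
    have hu : tv (F.e0 + x) t = t + hf k t x • (F.e0 + x) := by
      rw [tv_eq, hf_add_right, hte, zero_add]
    have hcoef : hf k (tv (F.e0 + x) t) (F.e0 + δ • x) = hf k t x := by
      rw [hu, hf_add_left, hf_smul_left, hf_add_right, hf_add_right, hf_add_left, hf_add_left,
        hf_smul_right, hf_smul_right, hf_smul_right, hte, hxe, hee, hx.self, (hf_zero_iff _ _).1 hxe]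
      have : ∀ a d : K4, 0 + d * a + a * (1 + 0 + (d * 0 + d * 1)) = a := by decide
      exact this _ _
    rw [tv_eq, hcoef, hu]
    simp only [Pi.add_apply, Pi.smul_apply, hxz, htz, e0, Pi.single_eq_same, smul_eq_mul, mul_zero,
      add_zero, mul_one, zero_add, K4.add_self]
  have h := F.fix_r hH h5 hr hre h2w hz
  rw [F.conj _ _ h2y h2u, F.conj _ _ h2x ht] at h
  change F.S (δ • x) * (F.S x * F.M t * F.S x) * F.S (δ • x) * r *
    (F.S (δ • x) * (F.S x * F.M t * F.S x) * F.S (δ • x)) = r at h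
  have h2 := congrArg (fun z => F.S x * (F.S (δ • x) * z * F.S (δ • x)) * F.S x) h
  simp only [Q]
  conv_rhs => rw [← h2]
  simp only [← mul_assoc, mul_assoc _ (F.S (δ • x)) (F.S (δ • x)), TSet.sq hD hsy, mul_one,
    mul_assoc _ (F.S x) (F.S x), TSet.sq hD hsx, one_mul]

theorem Q_move {t x : Fin k → K4} (ht : Two t) (htz : t (Fin.castLE F.hk 0) = 0) (hx : One x)
    (hxz : x (Fin.castLE F.hk 0) = 0) {δ : K4} (hδ : δ ≠ 0) : F.Q r δ (tv t x) = F.Q r δ x := by
  have hD := hH.tset
  have hm := F.mem t ht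
  obtain ⟨e1, -, -⟩ := F.conj_S hH h5 ht htz hx hxz
  obtain ⟨e2, -, -⟩ := F.conj_S hH h5 ht htz (hx.smul hδ) (F.smul_z hxz δ)
  conv_rhs => rw [← F.Q_fix hH h5 hr hre ht htz hx hxz hδ]
  rw [Q, Q, ← tv_smul, ← e1, ← e2]
  conv_lhs => rw [show r = F.M t * r * F.M t from (F.fix_r hH h5 hr hre ht htz).symm]
  simp only [← mul_assoc, mul_assoc _ (F.M t) (F.M t), TSet.sq hD hm, mul_one]

theorem Q_indep {x : Fin k → K4} (hx : One x) (hxz : x (Fin.castLE F.hk 0) = 0) {δ : K4} (hδ : δ ≠ 0) :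
    F.Q r δ x = F.Q r δ F.e1 := by
  obtain ⟨j, c, hc, rfl⟩ := hx
  set z := Fin.castLE F.hk 0 with hz
  have hjz : j ≠ z := fun e => hc (by rw [e, Pi.single_eq_same] at hxz; exact hxz)
  set i := Fin.castLE F.hk 1 with hi
  have hiz : i ≠ z := fun e => absurd (Fin.castLE_injective F.hk e) (by decide)
  have step : ∀ {j b : Fin k}, j ≠ z → b ≠ z → j ≠ b → ∀ {c c' : K4}, c ≠ 0 → c' ≠ 0 →
      F.Q r δ (Pi.single b c') = F.Q r δ (Pi.single j c) := by
    intro j b hj hb hjb c c' hc hc'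
    have := F.Q_move hH h5 hr hre (two_m2 hjb one_ne_zero (div_ne_zero hc' hc))
      (m2_apply_other hj.symm hb.symm _ _) (one_single j hc) (Pi.single_eq_of_ne hj.symm _) hδ
    rwa [tv_unit_move hjb hc] at this
  by_cases hji : j = i
  · obtain ⟨b, hbz, hbi⟩ : ∃ b, b ≠ z ∧ b ≠ i :=
      ⟨Fin.castLE F.hk 2, fun e => absurd (Fin.castLE_injective F.hk e) (by decide),
        fun e => absurd (Fin.castLE_injective F.hk e) (by decide)⟩
    exact (step hjz hbz (hji ▸ Ne.symm hbi) hc one_ne_zero).symm.trans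
      (step hiz hbz (Ne.symm hbi) one_ne_zero one_ne_zero)
  · exact (step hjz hiz hji hc one_ne_zero).symm

theorem P_mem {x : Fin k → K4} (hx : One x) : F.P r x ∈ D ∧ Par x (F.proj (F.P r x)) := by
  have key : ∀ x, One x → x (Fin.castLE F.hk 0) = 0 →
      F.S x * r * F.S x ∈ D ∧ Par x (F.proj (F.S x * r * F.S x)) := by
    intro x hx hxz
    have hs := F.S_mem hH h5 hx hxz
    refine ⟨conj_D hH hs hr, ?_⟩
    have h := F.proj_conj_M hH h5 hr (hx.two_add hxz)
    have e : tv (F.e0 + x) F.e0 = x := by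
      rw [tv_eq, hf_add_right, F.e0_one.self,
        show hf k F.e0 x = 0 by rw [hf_zero_iff, F.hf_e0, hxz], add_zero, one_smul, ← add_assoc,
        add_self_vec, zero_add]
    have h' := (hre.tv (F.e0 + x)).trans h
    rwa [e] at h'
  rcases hx.zero_or (Fin.castLE F.hk 0) with hxz | ⟨c, hc, rfl⟩
  · rw [F.P_zero r hxz]; exact key x hx hxz
  · change F.P r (c • F.e0) ∈ D ∧ Par (c • F.e0) (F.proj (F.P r (c • F.e0)))
    rw [F.P_mult r hc]
    have h1 := F.e1_one
    obtain ⟨hm, hp⟩ := key _ (h1.smul hc) (F.smul_z F.e1_z c)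
    have hs := F.S_mem hH h5 h1 F.e1_z
    refine ⟨conj_D hH hs hm, ?_⟩
    have h := F.proj_conj_M hH h5 hm (h1.two_add F.e1_z)
    have e : tv (F.e0 + F.e1) (c • F.e1) = c • F.e0 := by
      rw [tv_smul, tv_eq, hf_add_right, F.e1_one.self,
        show hf k F.e1 F.e0 = 0 by rw [F.hf_e0, F.e1_z], zero_add, one_smul, add_comm F.e0,
        ← add_assoc, add_self_vec, zero_add]
    have h' := (hp.tv (F.e0 + F.e1)).trans h
    rwa [e] at h'

theorem P_equiv {t x : Fin k → K4} (ht : Two t) (hx : One x) :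
    F.M t * F.P r x * F.M t = F.P r (tv t x) := by
  have hD := hH.tset
  have hm := F.mem t ht
  by_cases htz : t (Fin.castLE F.hk 0) = 0
  · rcases hx.zero_or (Fin.castLE F.hk 0) with hxz | ⟨c, hc, rfl⟩
    · obtain ⟨e1, -, e3⟩ := F.conj_S hH h5 ht htz hx hxz
      rw [F.P_zero r hxz, F.P_zero r e3, ← e1]
      conv_rhs => rw [show r = F.M t * r * F.M t from (F.fix_r hH h5 hr hre ht htz).symm]
      simp only [← mul_assoc, mul_assoc _ (F.M t) (F.M t), TSet.sq hD hm, mul_one]
    · change F.M t * F.P r (c • F.e0) * F.M t = F.P r (tv t (c • F.e0))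
      rw [tv_smul, tv_fix (v := t) (x := F.e0) (by rw [hf_zero_iff, F.hf_e0, htz]), F.P_mult r hc,
        F.Q_fix hH h5 hr hre ht htz F.e1_one F.e1_z hc]
  · -- `t` is a multiple of a sum of the first unit vector and another
    obtain ⟨y, hy, hyz, hty⟩ : ∃ y, One y ∧ y (Fin.castLE F.hk 0) = 0 ∧ Par (F.e0 + y) t := by
      obtain ⟨p, q, a, b, hpq, ha, hb, rfl⟩ := ht
      have mk : ∀ (q : Fin k) (a b : K4), Fin.castLE F.hk 0 ≠ q → a ≠ 0 → b ≠ 0 →
          ∃ y, One y ∧ y (Fin.castLE F.hk 0) = 0 ∧ Par (F.e0 + y) (m2 (Fin.castLE F.hk 0) q a b) :=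
        fun q a b hq ha hb => ⟨Pi.single q (a⁻¹ * b), one_single q (mul_ne_zero (inv_ne_zero ha) hb),
          Pi.single_eq_of_ne hq _, a, ha, by
            rw [e0, m2, smul_add, ← Pi.single_smul, ← Pi.single_smul, smul_eq_mul, smul_eq_mul, mul_one,
              ← mul_assoc, mul_inv_cancel₀ ha, one_mul]⟩
      by_cases h1 : p = Fin.castLE F.hk 0
      · subst h1; exact mk q a b hpq ha hb
      by_cases h2 : q = Fin.castLE F.hk 0
      · subst h2; rw [m2_comm]; exact mk p b a hpq.symm hb ha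
      exact absurd (m2_apply_other (Ne.symm h1) (Ne.symm h2) a b) htz
    rw [F.scalar' (hy.two_add hyz) hty]
    obtain ⟨c, hc, rfl⟩ := hty
    rw [tv_scalar hc]
    change F.S y * F.P r x * F.S y = _
    have hs := F.S_mem hH h5 hy hyz
    have hey : hf k F.e0 y = 0 := by rw [hf_zero_iff, F.hf_e0, hyz]
    have hmove : ∀ δ : K4, tv (F.e0 + y) (δ • F.e0) = δ • y := fun δ => by
      rw [tv_smul, tv_eq, hf_add_right, F.e0_one.self, hey, add_zero, one_smul, ← add_assoc, add_self_vec,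
        zero_add]
    have hone : ∀ δ : K4, δ ≠ 0 → F.S y * F.P r (δ • F.e0) * F.S y = F.P r (δ • y) := by
      intro δ hδ
      rw [F.P_mult r hδ, ← F.Q_indep hH h5 hr hre hy hyz hδ, F.P_zero r (F.smul_z hyz δ), Q]
      simp only [← mul_assoc, mul_assoc _ (F.S y) (F.S y), TSet.sq hD hs, mul_one, one_mul]
    rcases hx.zero_or (Fin.castLE F.hk 0) with hxz | ⟨δ, hδ, rfl⟩
    swap
    · change F.S y * F.P r (δ • F.e0) * F.S y = F.P r (tv (F.e0 + y) (δ • F.e0))
      rw [hmove, hone δ hδ]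
    by_cases hxy : hf k x y = 0
    · have hfix : tv (F.e0 + y) x = x := tv_fix (by rw [hf_add_right, F.hf_e0, hxz, hxy, add_zero])
      rw [hfix, F.P_zero r hxz]
      have hsx := F.S_mem hH h5 hx hxz
      have h2 := two_tv (hx.two_add hxz) (hy.two_add hyz)
      have hz : tv (F.e0 + x) (F.e0 + y) (Fin.castLE F.hk 0) = 0 := by
        rw [tv_eq, hf_add_left, hf_add_right, hf_add_right, F.e0_one.self,
          show hf k F.e0 x = 0 by rw [hf_zero_iff, F.hf_e0, hxz], F.hf_e0, hyz,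
          (hf_zero_iff _ _).1 hxy]
        simp only [Pi.add_apply, Pi.smul_apply, e0, Pi.single_eq_same, hxz, hyz, add_zero, one_smul,
          K4.add_self]
      have h := F.fix_r hH h5 hr hre h2 hz
      rw [F.conj _ _ (hx.two_add hxz) (hy.two_add hyz)] at h
      change F.S x * F.S y * F.S x * r * (F.S x * F.S y * F.S x) = r at h
      conv_rhs => rw [← h]
      simp only [← mul_assoc, mul_assoc _ (F.S x) (F.S x), TSet.sq hD hsx, one_mul, mul_one]
    · -- `x` is a multiple of `y`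
      obtain ⟨j, a, ha, rfl⟩ := hx
      obtain ⟨i, b, hb, rfl⟩ := hy
      have hji : j = i := by
        by_contra e
        exact hxy (by rw [hf_single_left, Pi.single_eq_of_ne e]; simp)
      subst hji
      have e : (Pi.single j a : Fin k → K4) = (a / b) • Pi.single j b := by
        rw [← Pi.single_smul, smul_eq_mul, div_mul_cancel₀ _ hb]
      have hδ : a / b ≠ 0 := div_ne_zero ha hb
      rw [e, ← hmove, tv_tv ((one_single j hb).two_add hyz).iso, hmove, ← hone _ hδ]
      simp only [← mul_assoc, TSet.sq hD hs, one_mul]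
      rw [mul_assoc, TSet.sq hD hs, mul_one]

theorem old_new {t x : Fin k → K4} (ht : Two t) (hx : One x) :
    (Commute (F.M t) (F.P r x) ↔ hf k t x = 0) ∧ (Commute (F.P r x) (F.M t) ↔ hf k t x = 0) := by
  obtain ⟨hm, hp⟩ := F.P_mem hH h5 hr hre hx
  have h : Commute (F.P r x) (F.M t) ↔ hf k t x = 0 := by rw [F.proj_spec hH h5 hm ht, hp.hf_right]
  exact ⟨⟨fun e => h.1 e.symm, fun e => (h.2 e).symm⟩, h⟩

theorem Mx_equiv {t : Fin k → K4} (ht : Two t) {v : Fin (k + 1) → K4} (hv : Two v) :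
    F.Mx r (tv (up t) v) = F.M t * F.Mx r v * F.M t := by
  rcases two_cases hv with ⟨s, hs, rfl⟩ | ⟨x, hx, hp⟩
  · rw [tv_up, Mx_up, Mx_up, F.conj t s ht hs]
  · have hp' := hp.tv (up t)
    rw [tv_up_nv] at hp'
    rw [F.Mx_nv r hp', F.Mx_nv r hp, F.P_equiv hH h5 hr hre ht hx]

theorem new_pair : ∀ x y, One x → One y →
    (Commute (F.P r x) (F.P r y) ↔ hf k x y + 1 = 0) ∧
      F.Mx r (tv (nv x) (nv y)) = F.P r x * F.P r y * F.P r x := by
  have hD := hH.tset
  have move : ∀ t x y, Two t → One x → One y →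
      ((Commute (F.P r x) (F.P r y) ↔ hf k x y + 1 = 0) ∧
        F.Mx r (tv (nv x) (nv y)) = F.P r x * F.P r y * F.P r x) →
      (Commute (F.P r (tv t x)) (F.P r (tv t y)) ↔ hf k (tv t x) (tv t y) + 1 = 0) ∧
        F.Mx r (tv (nv (tv t x)) (nv (tv t y))) =
          F.P r (tv t x) * F.P r (tv t y) * F.P r (tv t x) := by
    intro t x y ht hx hy ⟨h1, h2⟩
    have hm := F.mem t ht
    rw [← F.P_equiv hH h5 hr hre ht hx, ← F.P_equiv hH h5 hr hre ht hy, tv_iso ht.iso]
    refine ⟨?_, ?_⟩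
    · rw [← h1]
      have := commute_conj_iff (F.M t) (F.P r x) (F.P r y)
      rwa [TSet.inv hD hm] at this
    · have e : tv (up t) (tv (nv x) (nv y)) = tv (nv (tv t x)) (nv (tv t y)) := by
        rw [← tv_up_nv, ← tv_up_nv, tv_eq (tv (up t) (nv x)), tv_iso (two_up ht).iso, ← tv_smul, ← tv_add,
          ← tv_eq]
      rw [← e, F.Mx_equiv hH h5 hr hre ht (two_tv (two_nv hx) (two_nv hy)), h2]
      simp only [← mul_assoc, mul_assoc _ (F.M t) (F.M t), TSet.sq hD hm, mul_one]
  -- the first at the first unit vector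
  have base : ∀ y, One y → (Commute (F.P r F.e0) (F.P r y) ↔ hf k F.e0 y + 1 = 0) ∧
      F.Mx r (tv (nv F.e0) (nv y)) = F.P r F.e0 * F.P r y * F.P r F.e0 := by
    have hP0 : F.P r F.e0 = r := by
      have := F.P_mult r (c := 1) one_ne_zero
      rw [one_smul] at this
      rw [this, Q, one_smul]
      have hs := F.S_mem hH h5 F.e1_one F.e1_z
      rw [show F.S F.e1 * (F.S F.e1 * r * F.S F.e1) * F.S F.e1 =
        (F.S F.e1 * F.S F.e1) * r * (F.S F.e1 * F.S F.e1) by simp only [mul_assoc],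
        TSet.sq hD hs, one_mul, mul_one]
    intro y hy
    rcases hy.zero_or (Fin.castLE F.hk 0) with hyz | ⟨δ, hδ, rfl⟩
    · have hey : hf k F.e0 y = 0 := by rw [hf_zero_iff, F.hf_e0, hyz]
      have hs := F.S_mem hH h5 hy hyz
      have hrs : ¬ Commute r (F.S y) := by
        intro h
        rw [S, F.proj_spec hH h5 hr (hy.two_add hyz), hre.hf_right, F.hf_e0, Pi.add_apply, hyz,
          Pi.single_eq_same, add_zero] at h
        exact one_ne_zero h
      have hb : r * (F.S y * r * F.S y) * r = F.S y := by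
        rw [TSet.braid hD hs hr (fun h => hrs h.symm),
          show r * (r * F.S y * r) * r = (r * r) * F.S y * (r * r) by simp only [mul_assoc],
          TSet.sq hD hr, one_mul, mul_one]
      rw [hP0, F.P_zero r hyz, hey, zero_add]
      refine ⟨iff_of_false (fun h => hrs ?_) one_ne_zero, ?_⟩
      · have : r * (F.S y * r * F.S y) * r = F.S y * r * F.S y := by
          rw [h.eq, mul_assoc, TSet.sq hD hr, mul_one]
        rw [hb] at this
        have e2 : F.S y = r := by
          calc F.S y = F.S y * (r * (r * 1)) := by rw [mul_one, TSet.sq hD hr, mul_one]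
            _ = F.S y * r * (F.S y * F.S y) * r := by
                rw [TSet.sq hD hs]; simp only [mul_assoc, mul_one]
            _ = (F.S y * r * F.S y) * F.S y * r := by simp only [mul_assoc]
            _ = r := by rw [← this, TSet.sq hD hs, one_mul]
        rw [e2]
      · have e : tv (nv F.e0) (nv y) = up (F.e0 + y) := by
          rw [tv_eq, hf_nv_nv, F.hf_e0, hyz, zero_add, one_smul, nv, nv, up, up, up, push_add]
          calc push Fin.castSucc y + Pi.single (Fin.last k) 1 +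
                (push Fin.castSucc F.e0 + Pi.single (Fin.last k) (1 : K4))
              = push Fin.castSucc F.e0 + push Fin.castSucc y +
                (Pi.single (Fin.last k) 1 + Pi.single (Fin.last k) 1) := by abel
            _ = _ := by rw [add_self_vec, add_zero]
        rw [e, Mx_up, hb]
        rfl
    · change (Commute (F.P r F.e0) (F.P r (δ • F.e0)) ↔ hf k F.e0 (δ • F.e0) + 1 = 0) ∧
        F.Mx r (tv (nv F.e0) (nv (δ • F.e0))) = F.P r F.e0 * F.P r (δ • F.e0) * F.P r F.e0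
      rw [hP0, hf_smul_right, F.e0_one.self, mul_one]
      by_cases h1 : δ = 1
      · subst h1
        rw [one_smul, hP0]
        refine ⟨iff_of_true (Commute.refl r) (by decide), ?_⟩
        rw [tv_fix (by rw [hf_nv_nv, F.e0_one.self, K4.add_self]), F.Mx_nv r (Par.refl _), hP0,
          mul_assoc, TSet.sq hD hr, mul_one]
      have hne : δ ^ 2 + 1 ≠ 0 := (show ∀ d : K4, d ≠ 0 → d ≠ 1 → d ^ 2 + 1 ≠ 0 by decide) δ hδ h1
      set x := F.e1 with hxdef
      have hx := F.e1_one
      have hxz := F.e1_z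
      rw [← hxdef] at hx hxz
      have hy := hx.smul hδ
      have hyz := F.smul_z hxz δ
      have hsx := F.S_mem hH h5 hx hxz
      have hsy := F.S_mem hH h5 hy hyz
      have rS : ∀ {u : Fin k → K4}, Two u → (Commute r (F.M u) ↔ u (Fin.castLE F.hk 0) = 0) := fun hu => by
        rw [F.proj_spec hH h5 hr hu, hre.hf_right, F.hf_e0]
      have hcoef : hf k (F.e0 + δ • x) (F.e0 + x) = 1 + δ := by
        rw [hf_add_left, hf_add_right, hf_smul_left, hf_add_right, F.e0_one.self, hx.self, F.hf_e0, hxz,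
          show hf k F.e0 x = 0 by rw [hf_zero_iff, F.hf_e0, hxz]]
        simp
      have hab : ¬ Commute (F.S (δ • x)) (F.S x) := fun h => by
        rw [S, S, F.comm _ _ (hy.two_add hyz) (hx.two_add hxz), hcoef] at h
        exact (show ∀ d : K4, d ≠ 1 → 1 + d ≠ 0 by decide) δ h1 h
      obtain ⟨hp1, hp2⟩ := hH.plane hr hsy hsx
        (fun h => by
          rw [S, rS (hy.two_add hyz), Pi.add_apply, hyz, Pi.single_eq_same, add_zero] at h
          exact one_ne_zero h)
        (fun h => by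
          rw [S, rS (hx.two_add hxz), Pi.add_apply, hxz, Pi.single_eq_same, add_zero] at h
          exact one_ne_zero h)
        hab
        (fun h => by
          rw [S, S, ← F.conj _ _ (hx.two_add hxz) (hy.two_add hyz),
            rS (two_tv (hx.two_add hxz) (hy.two_add hyz)), tv_eq, hcoef] at h
          simp only [Pi.add_apply, Pi.smul_apply, hxz, Pi.single_eq_same, smul_eq_mul,
            add_zero, mul_one, mul_zero] at h
          exact hδ ((show ∀ d : K4, 1 + (1 + d) = d by decide) δ ▸ h))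
      have hQ : F.P r (δ • F.e0) = F.S x * (F.S (δ • x) * r * F.S (δ • x)) * F.S x := F.P_mult r hδ
      refine ⟨iff_of_false (by rw [hQ]; exact hp1) hne, ?_⟩
      have hd3 : δ ^ 2 * δ = 1 := by rw [mul_comm]; exact K4.cube_one δ hδ
      have e : Par (nv ((δ ^ 2) • F.e0)) (tv (nv F.e0) (nv (δ • F.e0))) := by
        refine ⟨δ, hδ, ?_⟩
        rw [tv_eq, hf_nv_nv, hf_smul_left, F.e0_one.self, mul_one, nv, nv, nv, up, up, up, push_smul,
          push_smul]
        funext l
        simp only [Pi.add_apply, Pi.smul_apply, smul_eq_mul]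
        generalize push Fin.castSucc F.e0 l = a
        generalize (Pi.single (Fin.last k) (1 : K4) : Fin (k + 1) → K4) l = b
        exact (show ∀ d a b : K4, d ≠ 0 → d * a + b + (d + 1) * (a + b) = d * (d ^ 2 * a + b) by decide)
          δ a b hδ
      rw [F.Mx_nv r e, F.P_mult r (pow_ne_zero 2 hδ),
        ← F.Q_indep hH h5 hr hre hy hyz (pow_ne_zero 2 hδ), hQ, hp2, Q, smul_smul, hd3, one_smul]
  intro x y hx hy
  rcases hx.zero_or (Fin.castLE F.hk 0) with hxz | ⟨c, hc, rfl⟩
  · have ht := hx.two_add hxz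
    have e : tv (F.e0 + x) F.e0 = x := by
      rw [tv_eq, hf_add_right, F.e0_one.self,
        show hf k F.e0 x = 0 by rw [hf_zero_iff, F.hf_e0, hxz], add_zero, one_smul, ← add_assoc,
        add_self_vec, zero_add]
    have := move _ _ _ ht F.e0_one (hy.tv_two ht) (base _ (hy.tv_two ht))
    change (Commute (F.P r (tv (F.e0 + x) F.e0)) _ ↔ _) ∧ _ at this
    erw [e, tv_tv ht.iso] at this
    exact this
  · change (Commute (F.P r (c • F.e0)) (F.P r y) ↔ hf k (c • F.e0) y + 1 = 0) ∧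
      F.Mx r (tv (nv (c • F.e0)) (nv y)) = F.P r (c • F.e0) * F.P r y * F.P r (c • F.e0)
    have h1 := F.e1_one
    have hc1 := h1.smul hc
    have t1 := h1.two_add F.e1_z
    have t2 := hc1.two_add (F.smul_z F.e1_z c)
    have ea : tv (F.e0 + c • F.e1) F.e0 = c • F.e1 := by
      rw [tv_eq, hf_add_right, F.e0_one.self, hf_smul_right,
        show hf k F.e0 F.e1 = 0 by rw [hf_zero_iff, F.hf_e0, F.e1_z], mul_zero, add_zero, one_smul,
        ← add_assoc, add_self_vec, zero_add]
    have eb : tv (F.e0 + F.e1) (c • F.e1) = c • F.e0 := by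
      rw [tv_smul, tv_eq, hf_add_right, F.e1_one.self,
        show hf k F.e1 F.e0 = 0 by rw [F.hf_e0, F.e1_z], zero_add, one_smul, add_comm F.e0,
        ← add_assoc, add_self_vec, zero_add]
    have hy1 := hy.tv_two t1
    have hy2 := hy1.tv_two t2
    have m1 := move _ _ _ t2 F.e0_one hy2 (base _ hy2)
    erw [ea, tv_tv t2.iso] at m1
    have m2 := move _ _ _ t1 hc1 hy1 m1
    erw [eb, tv_tv t1.iso] at m2
    exact m2

theorem exists_step : Nonempty (Frame B (k + 1)) := by
  have hD := hH.tset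
  have hk1 : 4 ≤ k + 1 := Nat.le_succ_of_le F.hk
  have hcast : Fin.castLE hk1 = Fin.castSucc ∘ Fin.castLE F.hk := funext fun i => Fin.ext rfl
  have hpush : ∀ u : Fin 4 → K4, push (Fin.castLE hk1) u = up (push (Fin.castLE F.hk) u) := by
    intro u
    rw [hcast, up, push, push]
    have : ∀ s : Finset (Fin 4), (∑ i ∈ s, Pi.single ((Fin.castSucc ∘ Fin.castLE F.hk) i) (u i)) =
        push Fin.castSucc (∑ i ∈ s, Pi.single (Fin.castLE F.hk i) (u i)) := by
      classical
      intro s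
      induction s using Finset.induction_on with
      | empty =>
        funext l
        simp [push]
      | insert a s ha ih =>
        rw [Finset.sum_insert ha, Finset.sum_insert ha, ih, push_add, push_single]
        rfl
    exact this Finset.univ
  refine ⟨⟨hk1, F.Mx r, ?_, ?_, ?_, ?_, ?_, ?_⟩⟩
  · intro v hv
    rcases two_cases hv with ⟨t, ht, rfl⟩ | ⟨x, hx, hp⟩
    · rw [Mx_up]; exact F.mem t ht
    · rw [F.Mx_nv r hp]; exact (F.P_mem hH h5 hr hre hx).1
  · intro v c hv hc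
    rcases two_cases hv with ⟨t, ht, rfl⟩ | ⟨x, hx, hp⟩
    · rw [up, ← push_smul]
      change F.Mx r (up (c • t)) = F.Mx r (up t)
      rw [Mx_up, Mx_up, F.scalar t c ht hc]
    · rw [F.Mx_nv r hp, F.Mx_nv r (hp.trans ⟨c, hc, rfl⟩)]
  · intro v w hv hw
    rcases two_cases hv with ⟨t, ht, rfl⟩ | ⟨x, hx, hp⟩ <;>
      rcases two_cases hw with ⟨s, hs, rfl⟩ | ⟨y, hy, hq⟩
    · rw [Mx_up, Mx_up, hf_up, F.comm t s ht hs]
    · rw [Mx_up, F.Mx_nv r hq, (F.old_new hH h5 hr hre ht hy).1, hq.hf_right, hf_zero_iff (up t),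
        hf_nv_up, hf_zero_iff]
    · rw [Mx_up, F.Mx_nv r hp, (F.old_new hH h5 hr hre hs hx).2, hp.hf_left, hf_nv_up, hf_zero_iff]
    · rw [F.Mx_nv r hp, F.Mx_nv r hq, (F.new_pair hH h5 hr hre x y hx hy).1, hp.hf_left, hq.hf_right,
        hf_nv_nv]
  · intro v w hv hw
    rcases two_cases hv with ⟨t, ht, rfl⟩ | ⟨x, hx, hp⟩
    · rw [Mx_up]; exact F.Mx_equiv hH h5 hr hre ht hw
    obtain ⟨c, hc, rfl⟩ := hp
    rw [tv_scalar hc, F.Mx_nv r (v := c • nv x) ⟨c, hc, rfl⟩]
    have hPm := (F.P_mem hH h5 hr hre hx).1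
    rcases two_cases hw with ⟨s, hs, rfl⟩ | ⟨y, hy, hq⟩
    · rw [Mx_up]
      have hon := (F.old_new hH h5 hr hre hs hx).2
      by_cases h : hf k s x = 0
      · have h' : hf (k + 1) (up s) (nv x) = 0 := by rw [hf_zero_iff, hf_nv_up, hf_zero_iff]; exact h
        rw [tv_fix h', Mx_up, (hon.2 h).eq, mul_assoc, TSet.sq hD hPm, mul_one]
      · have hne : hf (k + 1) (up s) (nv x) ≠ 0 := by rw [Ne, hf_zero_iff, hf_nv_up, hf_zero_iff]; exact h
        have hpar : Par (nv (tv s x)) (tv (nv x) (up s)) := by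
          refine ⟨hf (k + 1) (up s) (nv x), hne, ?_⟩
          rw [← tv_up_nv, tv_swap hne]
        rw [F.Mx_nv r hpar, ← F.P_equiv hH h5 hr hre hs hx,
          TSet.braid hD (F.mem s hs) hPm fun e => h ((F.old_new hH h5 hr hre hs hx).1.1 e)]
    · obtain ⟨e, he, rfl⟩ := hq
      rw [F.Mx_nv r (v := e • nv y) ⟨e, he, rfl⟩, ← (F.new_pair hH h5 hr hre x y hx hy).2, tv_smul]
      have h2 : Two (tv (nv x) (nv y)) := two_tv (two_nv hx) (two_nv hy)
      rcases two_cases h2 with ⟨t, ht, he'⟩ | ⟨z, hz, hz'⟩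
      · rw [he', up, ← push_smul]
        change F.Mx r (up (e • t)) = F.Mx r (up t)
        rw [Mx_up, Mx_up, F.scalar t e ht he]
      · rw [F.Mx_nv r hz', F.Mx_nv r (hz'.trans ⟨e, he, rfl⟩)]
  · intro u hu
    rw [hpush, Mx_up, F.base u hu]
  · intro m hm
    have hw : wvec hk1 = up (wvec F.hk) := hpush ones
    rw [hw]
    rcases two_cases hm with ⟨t, ht, rfl⟩ | ⟨x, hx, hp⟩
    · rw [Mx_up, hf_up, F.wcomm t ht]
    · obtain ⟨hPm, hpp⟩ := F.P_mem hH h5 hr hre hx
      rw [F.Mx_nv r hp, hp.hf_left, hf_nv_up]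
      refine ⟨fun h => ?_, fun h => ?_⟩
      · rw [hf_zero_iff, ← hpp.hf_right]
        exact (F.proj_W hH h5 hPm).1 h.symm
      · refine ((F.proj_W hH h5 hPm).2 ?_).symm
        rw [hpp.hf_right, hf_zero_iff]
        exact h

omit hr hre in
/-- A member with a non-isotropic vector gives a larger frame. -/
theorem exists_succ {d : G} (hd : d ∈ D) (h : hf k (F.proj d) (F.proj d) ≠ 0) :
    Nonempty (Frame B (k + 1)) := by
  obtain ⟨L, hL, hp⟩ := exists_word_single F.hk h
  exact F.exists_step hH h5 (F.el_mem hH.ctx.tg (L := L) d hd) (hp.trans (F.proj_el hH h5 L hL d hd))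

end Frame

end Cfsg.Agent.FischerTwins
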