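import Cfsg.Agent.Lib.FischerTwins.Extend
import Cfsg.Agent.Lib.FischerSolvable.Instances

/-!
A maximal frame identifies the group with a projective unitary group.
-/

set_option autoImplicit false
set_option linter.style.haveILetI false

namespace Cfsg.Agent.FischerTwins

open Cfsg Cfsg.Agent Cfsg.Agent.Fischer Subgroup Cfsg.Agent.RigidGraph.He
open Cfsg.Agent.FischerSolvable.Model (tv tr mv mv_mul mv_one mv_tr mv_ext)
open Cfsg.Agent.Fischer.LocalSymThree (nb nb_symm)

variable {G : Type*} [Group G] {D : Set G}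

/-- The special unitary group is generated by the transvections along isotropic vectors. -/
theorem su_closure {n : ℕ} (hn : 4 ≤ n) :
    Subgroup.closure {A : Cfsg.SU n K4 2 | ∃ v, v ≠ 0 ∧ hf n v v = 0 ∧ A = tr v} = ⊤ := by
  obtain ⟨σ, hσ, hf'⟩ := FischerSolvable.Model.exists_form (n := n) (by omega)
  rw [eq_top_iff, ← UnitaryStd.closure_eq_top hf' (by omega) (fun h => absurd h (by omega)),
    Subgroup.closure_le]
  rintro A ⟨v, c, hv, hA⟩
  have hone : ∀ w : Fin n → K4, ∀ d : K4, d = 0 ∨ w = 0 →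
      (A : Matrix.SpecialLinearGroup (Fin n) K4).1 = Cfsg.unitaryTransvection n 2 w d → A = 1 := by
    intro w d h hw
    exact Subtype.ext (Subtype.ext (by rw [hw]; rcases h with rfl | rfl <;> simp [Cfsg.unitaryTransvection]))
  rcases eq_or_ne v 0 with rfl | hv0
  · rw [SetLike.mem_coe, hone 0 c (Or.inr rfl) hA]
    exact one_mem _
  have hc := UnitaryStd.anti_of_mem hf' A hv hv0 hA
  have hc2 : ∀ c : K4, c ^ 2 = -c → c = 0 ∨ c = 1 := by decide
  rcases hc2 c ((hσ c).symm.trans hc) with rfl | rfl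
  · rw [SetLike.mem_coe, hone v 0 (Or.inl rfl) hA]
    exact one_mem _
  refine Subgroup.subset_closure ⟨v, hv0, hv, mv_ext fun x => ?_⟩
  rw [mv_tr (by omega) hv, mv, hA, UnitaryStd.unitaryTransvection_mulVec, one_mul]
  rfl

namespace Frame

variable {B : Base D} {k : ℕ} (F : Frame B k)

include F in
theorem le_card [Finite G] : k ≤ Nat.card G + 1 := by
  classical
  set z : Fin k := Fin.castLE F.hk 0 with hz
  have hinj : Function.Injective fun j : {j : Fin k // j ≠ z} => F.M (m2 z j.1 1 1) := by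
    rintro ⟨j, hj⟩ ⟨l, hl⟩ e
    by_contra hne
    have hjl : j ≠ l := fun h => hne (Subtype.ext h)
    have h1 := two_m2 hj.symm (one_ne_zero (α := K4)) (one_ne_zero (α := K4))
    have h2 := two_m2 hl.symm (one_ne_zero (α := K4)) (one_ne_zero (α := K4))
    have e' : F.M (m2 z j 1 1) = F.M (m2 z l 1 1) := e
    have hc : Commute (F.M (m2 z j 1 1)) (F.M (m2 z l 1 1)) := by
      rw [e']
    rw [F.comm _ _ h1 h2, hf_m2, m2_apply_left hl.symm, m2_apply_other hj hjl, one_mul, one_mul,
      one_pow, zero_pow (by norm_num), add_zero] at hc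
    exact one_ne_zero hc
  have := Nat.card_le_card_of_injective _ hinj
  rw [Nat.card_eq_fintype_card (α := {j : Fin k // j ≠ z}), Fintype.card_subtype_compl,
    Fintype.card_subtype_eq, Fintype.card_fin] at this
  omega

open Classical in
/-- The member at a point. -/
noncomputable def ptOf (p : Fin k → K4) : G := if h : ∃ x, F.IsPt p x then h.choose else 1

variable (hH : Hyp D) [Finite G] (h5 : ∀ p ∈ D, ∀ q ∈ nb D p, (Line D p q).ncard = 5)
variable (hall : ∀ d ∈ D, F.IsPt (F.proj d) d)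
variable (hnz : ∀ d ∈ D, F.proj d ≠ 0)
variable (hiso : ∀ d ∈ D, hf k (F.proj d) (F.proj d) = 0)
include hH h5

theorem ptOf_spec {p : Fin k → K4} (hp0 : p ≠ 0) (hp : hf k p p = 0) : F.IsPt p (F.ptOf p) := by
  classical
  have h := F.exists_pt hH h5 hp0 hp
  rw [ptOf, dif_pos h]
  exact h.choose_spec

include hall

omit h5 in
theorem eq_of_par {p : Fin k → K4} {x d : G} (hx : F.IsPt p x) (hd : d ∈ D) (h : Par p (F.proj d)) :
    x = d := by
  refine hH.eq_of_same hx.mem hd fun u hu => ?_
  rw [show Commute x u ↔ Commute u x from ⟨fun e => e.symm, fun e => e.symm⟩, hx.comm u hu,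
    show Commute d u ↔ Commute u d from ⟨fun e => e.symm, fun e => e.symm⟩, (hall d hd).comm u hu,
    h.hf_left]

include hnz hiso

/-- The group is a projective unitary group. -/
theorem equiv_psu (hne : D.Nonempty) : Nonempty (G ≃* Cfsg.PSU k K4 2) := by
  classical
  have hn : 0 < k := lt_of_lt_of_le (by norm_num) F.hk
  have hiso' : ∀ (A : Cfsg.SU k K4 2) (x : Fin k → K4), hf k x x = 0 → hf k (mv A x) (mv A x) = 0 :=
    fun A x hx => (A.2 x x).trans hx
  have hmv0 : ∀ (A : Cfsg.SU k K4 2), mv A (0 : Fin k → K4) = 0 := fun A => Matrix.mulVec_zero _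
  have hne' : ∀ (A : Cfsg.SU k K4 2) (x : Fin k → K4), x ≠ 0 → mv A x ≠ 0 := fun A x hx e => hx <| by
    rw [← mv_one x, ← inv_mul_cancel A, mv_mul, e, hmv0]
  have hpar : ∀ (A : Cfsg.SU k K4 2) (x y : Fin k → K4), Par x y → Par (mv A x) (mv A y) := by
    rintro A x y ⟨c, hc, rfl⟩
    exact ⟨c, hc, Matrix.mulVec_smul _ c x⟩
  have hspec : ∀ (A : Cfsg.SU k K4 2), ∀ d ∈ D, F.IsPt (mv A (F.proj d)) (F.ptOf (mv A (F.proj d))) :=
    fun A d hd => F.ptOf_spec hH h5 (hne' A _ (hnz d hd)) (hiso' A _ (hiso d hd))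
  have huniq : ∀ {p : Fin k → K4} {x d : G}, F.IsPt p x → d ∈ D → Par p (F.proj d) → x = d :=
    fun hx hd h => F.eq_of_par hH hall hx hd h
  letI iA : MulAction (Cfsg.SU k K4 2) D :=
    { smul := fun A d => ⟨F.ptOf (mv A (F.proj d)), (hspec A d d.2).mem⟩
      one_smul := fun d => Subtype.ext <| huniq (hspec 1 d d.2) d.2 (by rw [mv_one]; exact Par.refl _)
      mul_smul := fun A A' d => Subtype.ext <| by
        have h1 := hspec A' d d.2
        have h2 := hspec A _ h1.mem
        refine huniq (hspec (A * A') d d.2) h2.mem ?_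
        rw [mv_mul]
        exact (hpar A _ _ h1.vec).trans h2.vec }
  letI iG : MulAction G D :=
    { smul := fun g d => ⟨g * d * g⁻¹, hH.ctx.conj_mem g d.2⟩
      one_smul := fun d => Subtype.ext (show 1 * (d : G) * 1⁻¹ = d by simp)
      mul_smul := fun g g' d => Subtype.ext
        (show g * g' * d * (g * g')⁻¹ = g * (g' * d * g'⁻¹) * g⁻¹ by group) }
  let ρ : Cfsg.SU k K4 2 →* Equiv.Perm D := MulAction.toPermHom _ _
  let c : G →* Equiv.Perm D := MulAction.toPermHom _ _
  have hc : Function.Injective c := by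
    rw [injective_iff_map_eq_one]
    intro g hg
    have : g ∈ center G := mem_center_of_commute_gen hH.ctx.tg.2.2 fun d hd => by
      have e : g * d * g⁻¹ = d := congrArg (fun π : Equiv.Perm D => (π ⟨d, hd⟩ : G)) hg
      exact mul_inv_eq_iff_eq_mul.1 e
    rwa [hH.cz, mem_bot] at this
  have key : ∀ {p : Fin k → K4} {x : G}, hf k p p = 0 → F.IsPt p x → ρ (tr p) = c x := by
    intro p x hp hx
    refine Equiv.ext fun d => Subtype.ext ?_
    show F.ptOf (mv (tr p) (F.proj d)) = x * d * x⁻¹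
    refine huniq (hspec (tr p) d d.2) (hH.ctx.conj_mem x d.2) ?_
    rw [mv_tr hn hp, TSet.inv hH.tset hx.mem]
    exact hx.conj d d.2
  have hrange : ∀ A, ρ A ∈ c.range := by
    intro A
    have hA := (su_closure (n := k) F.hk).ge (mem_top A)
    induction hA using Subgroup.closure_induction with
    | mem A hA =>
      obtain ⟨v, hv0, hv, rfl⟩ := hA
      exact ⟨F.ptOf v, (key hv (F.ptOf_spec hH h5 hv0 hv)).symm⟩
    | one => rw [map_one]; exact one_mem _
    | mul x y _ _ hx hy => rw [map_mul]; exact mul_mem hx hy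
    | inv x _ hx => rw [map_inv]; exact inv_mem hx
  let θ : Cfsg.SU k K4 2 →* G :=
    (MonoidHom.ofInjective hc).symm.toMonoidHom.comp (ρ.codRestrict c.range hrange)
  have hθ : ∀ A, c (θ A) = ρ A := fun A =>
    congrArg Subtype.val ((MonoidHom.ofInjective hc).apply_symm_apply ⟨ρ A, hrange A⟩)
  have hsurj : Function.Surjective θ := by
    rw [← MonoidHom.range_eq_top, eq_top_iff, ← hH.ctx.tg.2.2, Subgroup.closure_le]
    intro d hd
    exact ⟨tr (F.proj d), hc (by rw [hθ, key (hiso d hd) (hall d hd)])⟩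
  have hker : center (Cfsg.SU k K4 2) ≤ θ.ker := fun z hz => by
    have : θ z ∈ center G := mem_center_iff.2 fun g => by
      obtain ⟨A, rfl⟩ := hsurj g
      rw [← map_mul, ← map_mul, mem_center_iff.1 hz A]
    rwa [hH.cz, mem_bot] at this
  haveI := FischerSolvable.isSimple_psu F.hk
  refine FischerSolvable.equiv_of_simple (fun hab => ?_) (f := QuotientGroup.lift _ θ hker)
    (QuotientGroup.lift_surjective_of_surjective _ θ hsurj hker)
  obtain ⟨d, hd⟩ := hne
  have : d ∈ center G := mem_center_iff.2 fun g => hab g d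
  rw [hH.cz, mem_bot] at this
  exact TSet.ne_one hH.tset hd this

end Frame

/-- Groups with lines of five points are projective unitary groups. -/
theorem Hyp.unitary [Finite G] (hH : Hyp D) (h5 : ∀ p ∈ D, ∀ q ∈ nb D p, (Line D p q).ncard = 5)
    (hne : D.Nonempty) : ∃ n : ℕ, Nonempty (G ≃* Cfsg.PSU n K4 2) := by
  classical
  obtain ⟨B⟩ := hH.exists_base h5 hne
  set S : Set ℕ := {k | Nonempty (Frame B k)} with hS
  have hbdd : BddAbove S := ⟨Nat.card G + 1, fun k ⟨F⟩ => F.le_card⟩
  have hmem : sSup S ∈ S := Nat.sSup_mem ⟨4, ⟨B.frame⟩⟩ hbdd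
  obtain ⟨F⟩ := hmem
  have hnone : ∀ d ∈ D, hf (sSup S) (F.proj d) (F.proj d) = 0 := by
    intro d hd
    by_contra h
    have := le_csSup hbdd (F.exists_succ hH h5 hd h)
    omega
  exact ⟨_, F.equiv_psu hH h5 (F.all_points hH h5 hnone) (F.proj_ne_zero hH h5 hnone) hnone hne⟩

end Cfsg.Agent.FischerTwins
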