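import Cfsg.Agent.Lib.FischerTwins.WordProof

/-!
Derivations in the group of five 3-transpositions used for the feet.
-/

set_option autoImplicit false
set_option maxRecDepth 100000

namespace Cfsg.Agent.FischerTwins.FootData

noncomputable section

/-- the relators, latest first -/
def base : List (List ℕ) := [
  [1, 2, 3, 4, 3, 2, 1, 2, 3, 4, 3, 2, 1, 2, 3, 4, 3, 2],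
  [3, 4, 3, 4, 3, 4],
  [2, 4, 2, 4, 2, 4],
  [2, 3, 2, 3],
  [1, 4, 1, 4, 1, 4],
  [1, 3, 1, 3, 1, 3],
  [1, 2, 1, 2],
  [0, 4, 0, 4],
  [0, 3, 0, 3],
  [0, 2, 0, 2],
  [0, 1, 0, 1, 0, 1]]

/-- the additional relators of the colliding case, latest first -/
def extra : List (List ℕ) := [
  [0, 1, 0, 4, 3, 1, 0, 4, 1, 3, 1, 4, 1, 3, 1, 4, 0, 1, 3, 4, 0, 1, 0, 4],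
  [0, 1, 0, 4, 3, 1, 0, 4, 1, 3, 1, 0, 1, 3, 1, 4, 0, 1, 3, 4, 0, 1],
  [1, 0, 1, 0, 4, 3, 1, 0, 4, 1, 3, 1, 2, 3, 4, 3, 2, 1, 3, 1, 4, 0, 1, 3, 4, 0, 1, 0, 1, 0, 1, 0,
  4, 3, 1, 0, 4, 1, 3, 1, 2, 3, 4, 3, 2, 1, 3, 1, 4, 0, 1, 3, 4, 0, 1, 0, 1, 0, 1, 0, 4, 3, 1, 0,
  4, 1, 3, 1, 2, 3, 4, 3, 2, 1, 3, 1, 4, 0, 1, 3, 4, 0, 1, 0]]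

/-- derivation gx, part 0 -/
def gx0 : List (List (ℕ × List ℕ) × List ℕ) := [
  ([(12, []), (19, [])], [1, 2, 1, 0, 2, 0]),
  ([(0, []), (22, [0, 2]), (15, [0])], [1, 2, 0, 1, 0, 2, 1, 0]),
  ([(24, []), (22, [1])], [0, 1, 0, 1, 2, 0, 2, 1]),
  ([(26, []), (22, [1])], [0, 1, 0, 1, 3, 0, 3, 1]),
  ([(26, [0, 1]), (5, [])], [0, 1, 0, 2, 1, 0, 2, 1]),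
  ([(5, []), (16, [0, 1, 0, 1])], [1, 2, 0, 3, 2, 3, 1, 0, 1, 0]),
  ([(4, []), (26, [1, 3])], [0, 1, 0, 1, 3, 4, 0, 4, 3, 1]),
  ([(18, [1, 3, 2]), (21, [1])], [1, 3, 4, 2, 4, 2, 4, 3, 2, 1]),
  ([(32, [1, 2]), (30, [1, 2, 3])], [1, 2, 0, 3, 4, 0, 4, 3, 2, 1]),
  ([(0, []), (36, [1, 2, 3, 4]), (3, [])], [1, 2, 0, 3, 4, 2, 0, 4, 2, 4, 3, 1]),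
  ([(2, []), (36, [1, 2, 3, 4])], [1, 2, 0, 3, 4, 3, 0, 3, 4, 3, 2, 1]),
  ([(6, []), (28, [1, 2, 3, 4])], [1, 3, 4, 2, 4, 3, 2, 3, 4, 3, 2, 1]),
  ([(2, []), (42, [1, 2, 3, 4, 3])], [1, 2, 0, 3, 4, 3, 2, 0, 2, 3, 4, 3, 2, 1]),
  ([(36, [1, 2, 3, 4]), (38, [1, 2, 3, 4, 3])], [1, 2, 3, 4, 1, 3, 1, 3, 2, 1, 2, 3, 4, 3, 2, 1]),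
  ([(1, []), (38, [1, 2, 3, 4])], [1, 2, 3, 4, 3, 2, 1, 2, 1, 3, 4, 3, 2, 1]),
  ([(0, []), (30, [1, 2, 3, 4, 3]), (7, [])], [1, 2, 3, 4, 3, 2, 1, 3, 4, 3, 2, 1, 2, 3, 4, 3, 2,
  1, 2, 3, 2, 4, 3, 1]),
  ([(6, []), (48, [1, 2, 3, 4, 3, 2]), (9, []), (13, [])], [1, 2, 0, 3, 4, 3, 2, 3, 2, 4, 3, 0, 2,
  1]),
  ([(50, [0, 1]), (48, [0, 1, 3])], [0, 1, 0, 3, 4, 0, 4, 3, 1, 0]),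
  ([(40, [0, 1, 3, 2]), (43, [0, 1])], [0, 1, 3, 4, 2, 4, 2, 4, 3, 2, 1, 0]),
  ([(0, []), (44, [0, 1, 2, 3, 4])], [0, 1, 3, 4, 2, 4, 3, 2, 3, 4, 3, 2, 1, 0]),
  ([(50, [0, 1, 2, 3, 4]), (52, [0, 1, 2, 3, 4, 3])], [0, 1, 2, 3, 4, 1, 3, 1, 3, 2, 1, 2, 3, 4, 3,
  2, 1, 0]),
  ([(1, []), (52, [0, 1, 2, 3, 4])], [0, 1, 2, 3, 4, 3, 2, 1, 2, 1, 3, 4, 3, 2, 1, 0]),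
  ([(0, []), (44, [0, 1, 2, 3, 4, 3]), (5, [])], [0, 1, 2, 3, 4, 3, 2, 1, 3, 4, 3, 2, 1, 2, 3, 4,
  3, 2, 1, 2, 3, 2, 4, 3, 1, 0]),
  ([(36, []), (46, [1, 2, 0]), (41, [])], [0, 1, 0, 3, 4, 3, 2, 1, 2, 3, 4, 3, 2, 1, 2, 3, 4, 3, 1,
  0, 1, 0]),
  ([(12, []), (64, [0, 1, 3, 4])], [0, 1, 0, 3, 4, 3, 0, 3, 4, 3, 1, 0]),
  ([(4, []), (56, [0, 1, 3, 4])], [0, 1, 2, 3, 4, 3, 2, 1, 3, 4, 3, 2, 1, 2, 3, 4, 3, 2, 1, 3, 4,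
  3, 1, 0]),
  ([(62, [0, 1, 3, 4]), (1, [])], [0, 1, 3, 4, 1, 3, 1, 3, 2, 3, 4, 3, 2, 1, 2, 3, 4, 3, 1, 2, 3,
  4, 3, 2, 1, 0]),
  ([(1, []), (64, [0, 1, 3, 4])], [0, 1, 2, 3, 4, 3, 2, 1, 3, 4, 3, 2, 1, 2, 3, 4, 3, 2, 1, 3, 4,
  3, 1, 0]),
  ([(6, []), (74, [0, 1, 3, 4, 3])], [0, 1, 0, 3, 4, 3, 2, 0, 2, 3, 4, 3, 1, 0]),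
  ([(2, []), (70, [0, 1, 3, 4, 3])], [0, 1, 2, 3, 4, 3, 2, 1, 3, 4, 3, 2, 1, 2, 3, 4, 3, 1, 2, 3,
  4, 3, 1, 0]),
  ([(1, []), (4, [])], [0, 1, 3, 4, 3, 2, 1, 2, 1, 3, 4, 3, 1, 0]),
  ([(12, []), (82, [0, 1, 3, 4, 3]), (1, [])], [0, 1, 0, 3, 4, 3, 1, 0, 1, 0, 2, 1, 2, 3, 4, 3, 1,
  0]),
  ([(6, []), (84, [0, 1, 3, 4, 3, 2])], [0, 1, 0, 3, 4, 3, 2, 1, 0, 1, 0, 1, 2, 3, 4, 3, 1, 0]),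
  ([(0, []), (82, [0, 1, 3, 4, 3, 2, 1]), (7, [])], [0, 1, 0, 3, 4, 3, 2, 1, 0, 1, 3, 0, 4, 3, 2,
  1, 2, 3, 4, 3, 1, 2, 3, 4, 3, 2, 1, 0]),
  ([(74, [0, 1, 3, 4, 3, 2, 1]), (9, [])], [0, 1, 3, 4, 3, 2, 1, 2, 3, 2, 4, 3, 2, 1, 2, 3, 4, 3,
  1, 2, 3, 4, 3, 2, 1, 0]),
  ([(6, []), (86, [0, 1, 3, 4, 3, 2, 1, 2])], [0, 1, 0, 3, 4, 3, 1, 0, 1, 3, 0, 3, 2, 1, 2, 3, 4,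
  3, 1, 0]),
  ([(0, []), (90, [0, 1, 3, 4, 3, 2, 1, 2, 3]), (2, []), (5, [])], [0, 1, 0, 3, 4, 3, 1, 0, 1, 3,
  2, 3, 1, 0, 1, 2, 3, 4, 3, 0, 1, 0]),
  ([(60, []), (92, [1, 3, 4])], [0, 1, 0, 1, 3, 4, 2, 0, 2, 4, 3, 1]),
  ([(62, []), (92, [1, 3, 4])], [0, 1, 0, 1, 3, 4, 3, 0, 3, 4, 3, 1]),
  ([(46, []), (84, [1, 3, 4])], [1, 2, 3, 4, 3, 2, 1, 3, 4, 3, 2, 1, 2, 3, 4, 3, 2, 1, 3, 4, 3,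
  1]),
  ([(1, []), (48, [])], [1, 3, 4, 3, 2, 3, 2, 4, 3, 1]),
  ([(34, []), (4, []), (100, [1, 3, 4, 3])], [0, 1, 0, 3, 4, 3, 2, 1, 2, 3, 4, 3, 2, 1, 0, 2, 3, 4,
  3, 1]),
  ([(0, []), (100, [1, 3, 4, 3, 2]), (2, []), (9, [])], [0, 1, 0, 3, 4, 3, 2, 1, 2, 3, 4, 3, 2, 1,
  3, 2, 4, 3, 1, 0, 1, 0]),
  ([(90, [0, 1, 0, 1, 3, 2]), (75, [])], [0, 1, 0, 1, 3, 4, 2, 4, 2, 4, 3, 0, 2, 1]),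
  ([(96, [0, 1, 0, 3, 4, 3, 1]), (100, [0, 1, 0, 3, 4, 3])], [0, 1, 0, 3, 4, 3, 4, 1, 4, 1, 4, 2,
  1, 2, 3, 4, 3, 0, 1, 0]),
  ([(103, [1, 2, 0, 3, 4, 3]), (90, [1, 2, 0, 3, 4, 3]), (56, []), (3, []), (5, []), (42, [])], [1,
  2, 0, 3, 4, 3, 2, 1, 3, 4, 3, 2, 1, 2, 3, 4, 3, 2, 1, 3, 4, 3, 1, 0, 1, 0]),
  ([(0, []), (104, [0, 1, 0, 1, 3, 4, 3]), (45, [])], [1, 2, 0, 3, 4, 3, 2, 1, 3, 4, 3, 2, 1, 2, 3,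
  4, 3, 2, 3, 4, 3, 2, 1, 2, 3, 4, 3, 0, 1, 0]),
  ([(3, []), (0, [])], [0, 1, 0, 1, 3, 4, 3, 1, 3, 4, 3, 2, 1, 2, 3, 4, 3, 0, 1, 0]),
  ([(104, [0, 1, 0, 1, 3, 4, 3, 1]), (0, [])], [0, 1, 0, 1, 3, 4, 3, 4, 1, 4, 1, 4, 3, 4, 3, 2, 1,
  2, 3, 4, 3, 0, 1, 0]),
  ([(110, [0, 1, 0, 3, 4, 3]), (114, [0, 1, 0, 3, 4, 3, 2, 1, 2])], [0, 1, 0, 3, 4, 3, 1, 0, 3, 0,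
  3, 2, 1, 2, 3, 4, 3, 0, 1, 0])]

/-- derivation gx, part 1 -/
def gx1 : List (List (ℕ × List ℕ) × List ℕ) := [
  ([(112, [0, 1, 0, 3, 4, 3]), (114, [0, 1, 0, 3, 4, 3, 2, 1, 2]), (11, [])], [0, 1, 0, 3, 4, 3, 1,
  0, 4, 0, 1, 4, 1, 4, 3, 4, 3, 0, 1, 0]),
  ([(2, []), (120, [0, 1, 0, 3, 4, 3, 2, 1, 2, 3]), (108, [0, 1, 0, 3, 4, 3, 2, 1]), (119, [0, 1,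
  0, 3, 4, 3, 2, 1])], [0, 1, 0, 3, 4, 3, 1, 0, 3, 2, 3, 0, 1, 2, 3, 4, 3, 0, 1, 0]),
  ([(4, []), (118, [0, 1, 0, 3, 4, 3, 2, 1, 2, 3])], [0, 1, 0, 3, 4, 3, 1, 0, 3, 4, 0, 4, 3, 2, 1,
  2, 3, 4, 3, 0, 1, 0]),
  ([(0, []), (122, [0, 1, 0, 3, 4, 3, 2, 1, 2, 3, 4]), (11, [])], [0, 1, 0, 3, 4, 3, 1, 0, 3, 4, 3,
  0, 1, 3, 4, 3, 1, 0, 1, 0]),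
  ([(12, []), (122, [0, 1, 0, 3, 4, 3, 2, 1, 2, 3, 4, 3]), (11, [])], [0, 1, 0, 1, 3, 4, 3, 1, 0,
  4, 0, 1, 4, 1, 4, 3, 4, 3, 1, 0, 1, 0]),
  ([(3, []), (112, [0, 1, 0, 3, 4, 3, 1, 0])], [0, 1, 0, 1, 3, 4, 3, 1, 0, 4, 3, 4, 0, 1, 3, 4, 3,
  0, 1, 0]),
  ([(124, [0, 1, 0, 3, 4, 3, 2, 1, 0, 1, 3]), (39, [])], [0, 1, 0, 3, 4, 3, 2, 1, 0, 1, 3, 1, 2, 1,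
  3, 1, 0, 1, 3, 4, 3, 0, 1, 0]),
  ([(125, [0, 1, 0, 3, 4, 3, 1, 0]), (116, [0, 1, 0, 3, 4, 3, 1, 0, 1, 3, 1]), (123, [0, 1, 0, 3,
  4, 3, 1, 0, 1, 3, 1])], [0, 1, 0, 3, 4, 3, 1, 0, 3, 1, 4, 3, 4, 3, 1, 4, 1, 4, 3, 1, 0, 1, 3, 4,
  3, 0, 1, 0]),
  ([(2, []), (122, [0, 1, 0, 3, 4, 3, 1, 0, 1, 3, 1]), (126, [0, 1, 0, 3, 4, 3, 1, 0])], [0, 1, 0,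
  3, 4, 3, 2, 1, 0, 1, 3, 1, 3, 2, 1, 3, 0, 1, 3, 4, 3, 0, 1, 0]),
  ([(132, [0, 1, 0, 3, 4, 3, 4, 1]), (138, [0, 1, 0, 3, 4, 3, 4, 1, 4]), (17, [])], [0, 1, 0, 3, 4,
  3, 4, 1, 0, 4, 1, 0, 1, 4, 0, 1, 3, 4, 3, 0, 1, 0]),
  ([(134, [0, 1, 0, 1, 3, 4, 3, 4, 1]), (140, [0, 1, 0, 1, 3, 4, 3, 4, 1, 4]), (11, [])], [0, 1, 0,
  1, 3, 4, 3, 4, 1, 0, 4, 1, 0, 1, 4, 0, 1, 3, 4, 3, 1, 0, 1, 0]),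
  ([(6, []), (130, [0, 1, 0, 3, 4, 3, 1, 0, 1, 3, 1]), (132, [0, 1, 0, 3, 4, 3, 1, 0]), (5, []),
  (132, [0, 1, 0, 3, 4, 3, 2, 1, 0]), (122, [0, 1, 0, 3, 4, 3, 2, 1, 0, 3]), (19, []), (11, [])],
  [0, 1, 0, 3, 4, 3, 1, 0, 3, 1, 4, 3, 4, 2, 1, 2, 3, 4, 3, 2, 1, 2, 4, 0, 1, 3, 4, 3, 1, 0, 1,
  0]),
  ([(134, [0, 1, 0, 3, 4, 3, 1, 0, 4]), (13, [])], [0, 1, 0, 3, 4, 3, 1, 0, 4, 1, 3, 1, 3, 1, 4, 0,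
  1, 3, 4, 3, 1, 0, 1, 0]),
  ([(2, []), (139, [0, 1, 0, 1, 3, 4, 3, 1, 0, 4])], [0, 1, 0, 3, 4, 3, 1, 0, 3, 1, 4, 3, 4, 2, 1,
  2, 3, 4, 3, 1, 4, 0, 1, 3, 4, 3, 1, 0, 1, 0]),
  ([(2, []), (1, [])], [0, 1, 0, 3, 4, 3, 1, 0, 4, 1, 3, 1, 4, 3, 2, 1, 2, 4, 3, 4, 1, 3, 0, 1, 3,
  4, 3, 0, 1, 0]),
  ([(1, []), (4, [])], [0, 1, 0, 3, 4, 3, 1, 0, 3, 1, 4, 3, 4, 2, 1, 2, 3, 4, 3, 1, 4, 0, 1, 3, 4,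
  3, 1, 0, 1, 0]),
  ([(12, []), (148, [0, 1, 0, 3, 4, 3, 1, 0, 4, 1])], [0, 1, 0, 3, 4, 3, 4, 1, 0, 4, 1, 3, 0, 3, 1,
  4, 0, 1, 3, 4, 3, 0, 1, 0]),
  ([(12, []), (150, [0, 1, 0, 1, 3, 4, 3, 1, 0, 4, 1]), (3, [])], [0, 1, 0, 1, 3, 4, 3, 4, 1, 0, 4,
  1, 3, 0, 4, 3, 2, 1, 2, 4, 3, 4, 1, 3, 0, 1, 3, 4, 3, 0, 1, 0]),
  ([(0, []), (156, [0, 1, 0, 3, 4, 3, 1, 0, 3, 1, 4, 3, 4, 2, 1, 2, 3, 4]), (7, []), (3, [])], [0,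
  1, 0, 1, 3, 4, 3, 4, 1, 0, 4, 1, 3, 1, 0, 1, 3, 1, 4, 0, 1, 4, 3, 4, 3, 0, 1, 0]),
  ([(141, [0, 1, 0]), (1, []), (140, [0, 1, 0, 1]), (158, [])], [0, 1, 0, 4, 3, 1, 0, 4, 1, 3, 1,
  0, 1, 3, 1, 4, 0, 1, 3, 4, 0, 1])]

/-- derivation gx -/
def gx : List (List (ℕ × List ℕ) × List ℕ) := gx0 ++ gx1

/-- derivation gb, part 0 -/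
def gb0 : List (List (ℕ × List ℕ) × List ℕ) := [
  ([(14, []), (5, [])], [0, 4, 0, 2, 4, 2, 4, 2]),
  ([(10, []), (7, [])], [1, 4, 1, 4, 1, 2, 4, 2, 4, 2]),
  ([(22, []), (18, [2])], [0, 2, 4, 0, 4, 2]),
  ([(0, []), (24, [2, 4])], [0, 2, 4, 2, 0, 2, 4, 2]),
  ([(0, []), (22, [2, 4, 2])], [0, 2, 4, 2, 4, 0, 4, 2, 4, 2]),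
  ([(0, []), (28, [2, 4, 2, 4]), (9, [])], [0, 2, 4, 2, 4, 2, 4, 0]),
  ([(10, []), (32, [2, 4, 2, 4, 2]), (9, [])], [0, 4, 1, 0, 1, 0, 4, 1, 4, 1]),
  ([(26, [0, 4]), (3, [])], [0, 4, 1, 2, 1, 4, 2, 4, 2, 0]),
  ([(36, []), (30, [1])], [0, 1, 0, 1, 4, 0, 4, 1]),
  ([(0, []), (38, [1, 4])], [0, 1, 0, 1, 4, 1, 0, 1, 0, 1, 4, 1]),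
  ([(0, []), (34, [1, 4, 1]), (7, [])], [0, 1, 0, 1, 4, 1, 0, 1, 4, 1, 0, 1, 4, 0]),
  ([(35, [0]), (26, [0, 1])], [0, 2, 1, 4, 2, 4, 2, 4, 1, 0]),
  ([(42, [0, 1]), (36, [0])], [0, 1, 0, 2, 0, 1, 2, 0]),
  ([(1, []), (30, [0, 1, 0])], [0, 2, 1, 0, 4, 2, 4, 2, 4, 0, 1, 0]),
  ([(41, [0, 2, 4]), (32, [0, 2, 4, 1]), (37, [0, 2])], [0, 2, 4, 2, 1, 4, 2, 4, 2, 1, 4, 1, 2,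
  0]),
  ([(38, [0]), (14, []), (34, [0, 2, 4, 2, 4, 1]), (39, [0, 2, 4, 2])], [0, 1, 4, 1, 2, 4, 2, 1, 4,
  1, 2, 4, 2, 0]),
  ([(50, [0, 2, 4, 2, 4, 1]), (17, [])], [0, 2, 4, 2, 4, 1, 0, 2, 0, 1, 4, 0]),
  ([(48, [0, 2, 4, 2, 4, 1]), (43, [0, 2, 4, 2])], [0, 2, 4, 2, 4, 1, 0, 4, 0, 1, 4, 1, 2, 4, 2,
  0]),
  ([(3, []), (40, [0, 2, 4, 2, 4, 1, 0])], [0, 4, 1, 0, 4, 2, 4, 2, 4, 0, 1, 4, 2, 4, 2, 0]),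
  ([(52, [0, 4, 1]), (47, [0])], [0, 4, 1, 0, 4, 0, 1, 4, 1, 0]),
  ([(18, []), (48, [0, 4, 1, 0])], [0, 1, 0, 1, 4, 1, 0, 4, 1, 4, 0, 1, 4, 0]),
  ([(14, []), (56, [0, 1]), (60, [0, 1, 4]), (19, [])], [0, 2, 1, 0, 4, 2, 4, 0, 4, 2, 4, 1, 2,
  0]),
  ([(58, [0, 1]), (60, [0, 1, 4])], [0, 1, 0, 4, 3, 0, 3, 4, 1, 0]),
  ([(54, [0, 1, 0]), (60, [0, 1]), (66, [0, 1, 4]), (7, []), (5, [])], [0, 1, 0, 1, 4, 1, 4, 0, 4,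
  0, 1, 4, 1, 0, 1, 0]),
  ([(60, [0, 1, 4]), (25, [])], [0, 1, 4, 1, 2, 1, 4, 2, 4, 1, 2, 0]),
  ([(26, []), (56, [0, 1, 4])], [0, 2, 1, 4, 2, 4, 3, 2, 3, 4, 1, 0]),
  ([(12, []), (70, [0, 1, 4, 1])], [0, 4, 1, 0, 4, 2, 0, 2, 1, 4, 1, 0]),
  ([(14, []), (70, [0, 1, 4, 1])], [0, 4, 1, 0, 4, 3, 0, 3, 1, 4, 1, 0]),
  ([(26, []), (68, [0, 2, 1, 4])], [0, 2, 4, 2, 1, 4, 2, 4, 1, 2, 4, 1, 2, 0]),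
  ([(28, []), (64, [0, 2, 1, 4, 1])], [0, 2, 4, 2, 1, 4, 2, 4, 3, 2, 3, 1, 4, 1, 2, 0]),
  ([(73, [0, 1, 0, 1, 4]), (64, [0, 1, 0, 1, 4, 1])], [0, 1, 0, 1, 4, 2, 1, 4, 2, 4, 2, 4, 1, 4, 1,
  0, 1, 0]),
  ([(80, [0, 1, 0, 1, 4, 1]), (74, [0, 1, 0, 1, 4])], [0, 1, 0, 1, 4, 1, 0, 2, 0, 1, 2, 4, 1, 0, 1,
  0]),
  ([(1, []), (68, [0, 1, 0, 1, 4, 1, 0])], [0, 1, 0, 1, 4, 2, 1, 0, 4, 2, 4, 2, 4, 0, 1, 4, 1, 0,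
  1, 0]),
  ([(76, [0, 1, 4]), (15, []), (66, [0, 2, 1, 4, 2, 3, 2, 1]), (72, [0, 2, 1, 4]), (77, [0, 2, 1,
  4])], [0, 1, 4, 1, 3, 1, 3, 2, 3, 4, 3, 2, 1, 2, 3, 4, 3, 2, 3, 1, 3, 1, 4, 1, 2, 0]),
  ([(9, []), (10, []), (78, [0, 2, 1, 4, 2]), (74, [0, 2, 1, 4])], [0, 2, 1, 4, 1, 3, 2, 1, 3, 1,
  2, 3, 4, 1, 2, 0]),
  ([(26, []), (90, [0, 2, 1, 4, 2, 4]), (21, []), (17, [])], [0, 2, 1, 0, 4, 2, 4, 1, 0, 1, 2, 4,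
  0, 1, 4, 0]),
  ([(79, [0, 1, 4, 1]), (22, []), (82, [0, 2, 1, 4, 2, 4]), (20, [])], [0, 1, 4, 1, 3, 2, 1, 3, 1,
  2, 3, 4, 1, 0]),
  ([(46, []), (87, [0, 1, 0, 4]), (83, [0, 1, 0]), (13, [])], [0, 2, 1, 0, 4, 2, 4, 1, 4, 2, 4, 1,
  2, 4, 1, 0, 1, 0]),
  ([(48, []), (82, [0, 1, 0, 4])], [0, 2, 1, 0, 4, 2, 4, 3, 2, 3, 4, 0, 1, 0]),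
  ([(86, [0, 1, 0]), (88, [0, 1, 0, 4])], [0, 1, 0, 1, 4, 1, 4, 3, 1, 3, 1, 3, 4, 0, 1, 0]),
  ([(0, []), (34, []), (100, [0, 1, 4, 3]), (91, [0, 1, 4])], [0, 1, 0, 1, 4, 1, 4, 3, 1, 3, 0, 1,
  0, 3, 1, 3, 1, 4, 1, 0]),
  ([(92, [0, 1, 4]), (94, [0, 1, 4, 3])], [0, 1, 4, 1, 3, 1, 3, 2, 1, 2, 3, 4, 1, 0]),
  ([(1, []), (3, [])], [0, 1, 4, 3, 2, 1, 2, 0, 1, 0, 3, 1, 3, 4, 1, 4, 1, 0, 1, 0]),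
  ([(86, [0, 1, 4, 3, 2, 1, 3, 2, 1]), (13, [])], [0, 1, 4, 3, 2, 1, 4, 3, 2, 1, 2, 3, 4, 3, 2, 1,
  2, 3, 4, 3, 2, 1, 2, 1, 2, 3, 1, 4, 1, 0]),
  ([(14, []), (95, [0, 1, 4, 3, 2, 1])], [0, 1, 4, 1, 3, 2, 1, 2, 3, 2, 1, 2, 3, 4, 1, 0]),
  ([(2, []), (0, []), (7, [])], [0, 1, 4, 3, 2, 1, 4, 3, 2, 1, 2, 3, 4, 3, 2, 1, 2, 3, 4, 3, 2, 3,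
  1, 4, 1, 0]),
  ([(0, []), (99, [0, 1, 4, 1])], [0, 1, 4, 3, 2, 1, 4, 3, 2, 1, 2, 3, 4, 3, 2, 1, 2, 3, 4, 2, 1,
  4, 1, 0]),
  ([(9, []), (110, [0, 1, 4, 3, 2, 1, 2])], [0, 1, 0, 1, 4, 1, 4, 3, 1, 3, 0, 1, 3, 0, 3, 2, 1, 2,
  3, 4, 1, 0]),
  ([(0, []), (116, [0, 1, 4, 3, 2, 1, 2, 3]), (13, []), (41, [])], [0, 1, 0, 1, 4, 1, 4, 3, 1, 3,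
  0, 1, 3, 1, 0, 1, 3, 4, 0, 1, 4, 0]),
  ([(23, []), (108, [0, 2, 1, 0, 4, 2, 4]), (20, [])], [0, 1, 0, 1, 4, 2, 1, 4, 2, 4, 3, 1, 3, 1,
  2, 3, 4, 0, 1, 0])]

/-- derivation gb, part 1 -/
def gb1 : List (List (ℕ × List ℕ) × List ℕ) := [
  ([(20, []), (112, [0, 1, 0, 4, 3])], [0, 1, 0, 1, 4, 1, 4, 3, 1, 3, 2, 1, 2, 3, 4, 0, 1, 0]),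
  ([(2, []), (1, [])], [0, 1, 0, 1, 4, 2, 1, 4, 2, 4, 3, 1, 3, 2, 3, 1, 3, 4, 1, 4, 1, 0, 1, 0]),
  ([(3, []), (24, [])], [0, 1, 0, 4, 3, 2, 1, 2, 1, 3, 4, 0, 1, 0]),
  ([(3, []), (6, [])], [0, 1, 0, 1, 4, 1, 4, 3, 1, 3, 2, 1, 2, 3, 4, 0, 1, 0]),
  ([(108, [0, 1, 0, 4, 3, 2, 1, 3, 2, 1]), (1, [])], [0, 1, 0, 4, 3, 2, 1, 4, 3, 2, 1, 2, 3, 4, 3,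
  2, 1, 2, 3, 4, 3, 2, 1, 2, 3, 2, 3, 1, 3, 4, 1, 4, 1, 0, 1, 0]),
  ([(126, [0, 1, 0, 4, 3, 2, 1]), (3, [])], [0, 1, 0, 4, 3, 2, 1, 0, 3, 0, 3, 2, 3, 1, 3, 4, 1, 4,
  1, 0, 1, 0]),
  ([(2, []), (4, []), (119, [0, 1, 0, 4, 3, 2, 1])], [0, 1, 0, 4, 3, 2, 1, 4, 3, 2, 1, 2, 3, 4, 3,
  2, 1, 2, 3, 4, 3, 2, 1, 3, 2, 1, 2, 3, 4, 0, 1, 0]),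
  ([(0, []), (13, [])], [0, 1, 0, 4, 3, 2, 1, 4, 3, 2, 1, 2, 3, 4, 3, 2, 1, 2, 3, 4, 3, 2, 3, 4, 1,
  4, 1, 0, 1, 0]),
  ([(3, []), (6, [])], [0, 1, 0, 4, 3, 2, 1, 2, 3, 2, 3, 2, 3, 1, 3, 4, 1, 4, 1, 0, 1, 0]),
  ([(16, []), (132, [0, 1, 0, 4, 3, 2, 1, 2]), (17, [])], [0, 1, 0, 1, 4, 1, 4, 3, 1, 3, 0, 4, 0,
  4, 3, 1, 3, 4, 1, 4, 1, 0, 1, 0]),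
  ([(18, []), (136, [0, 1, 0, 4, 3, 2, 1, 2])], [0, 1, 0, 1, 4, 1, 4, 3, 1, 3, 0, 3, 0, 3, 2, 1, 2,
  3, 4, 0, 1, 0]),
  ([(124, [0, 1, 0, 4, 3, 2, 1, 2]), (21, [])], [0, 1, 0, 4, 3, 2, 1, 2, 3, 4, 3, 4, 3, 4, 3, 1, 3,
  4, 1, 4, 1, 0, 1, 0]),
  ([(2, []), (142, [0, 1, 0, 4, 3, 2, 1, 2, 3]), (6, []), (13, [])], [0, 1, 0, 1, 4, 1, 4, 3, 1, 3,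
  0, 3, 2, 3, 0, 1, 2, 3, 4, 0, 1, 0]),
  ([(4, []), (140, [0, 1, 0, 4, 3, 2, 1, 2, 3])], [0, 1, 0, 1, 4, 1, 4, 3, 1, 3, 0, 3, 4, 0, 4, 3,
  2, 1, 2, 3, 4, 0, 1, 0]),
  ([(6, []), (148, [0, 1, 0, 4, 3, 2, 1, 2, 3]), (27, [])], [0, 1, 0, 1, 4, 1, 4, 3, 1, 3, 0, 3, 1,
  0, 1, 0, 3, 4, 1, 4, 1, 0, 1, 0]),
  ([(28, []), (142, [0, 1, 0, 4, 3, 2, 1, 2, 3])], [0, 1, 0, 1, 4, 1, 4, 3, 2, 1, 2, 3, 2, 1, 2, 3,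
  4, 0, 1, 0]),
  ([(15, []), (1, [])], [0, 1, 0, 1, 4, 1, 4, 3, 1, 3, 2, 3, 1, 2, 3, 4, 1, 4, 1, 0, 1, 0]),
  ([(30, []), (0, [])], [0, 1, 0, 1, 4, 2, 1, 4, 2, 4, 3, 2, 3, 4, 1, 4, 1, 0, 1, 0]),
  ([(3, []), (25, [])], [0, 1, 0, 1, 4, 1, 4, 3, 2, 1, 0, 3, 0, 1, 2, 3, 4, 0, 1, 0]),
  ([(36, []), (7, [])], [0, 1, 0, 1, 4, 1, 4, 3, 1, 2, 1, 2, 3, 4, 1, 4, 1, 0, 1, 0]),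
  ([(24, []), (5, [])], [0, 1, 0, 4, 3, 2, 1, 4, 3, 2, 1, 2, 3, 4, 3, 2, 1, 2, 3, 2, 4, 1, 2, 4, 1,
  0, 1, 0]),
  ([(3, []), (23, [])], [0, 1, 0, 1, 4, 1, 4, 3, 2, 1, 2, 3, 4, 0, 4, 0, 3, 1, 3, 4, 1, 4, 1, 0, 1,
  0]),
  ([(3, []), (28, [])], [0, 1, 0, 1, 4, 2, 1, 4, 2, 4, 3, 2, 3, 4, 1, 4, 1, 0, 1, 0]),
  ([(7, []), (23, [])], [0, 1, 0, 1, 4, 1, 4, 3, 2, 1, 2, 3, 4, 3, 4, 3, 4, 3, 2, 1, 2, 3, 4, 0, 1,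
  0]),
  ([(20, []), (164, [0, 1, 0, 4, 3, 2, 1, 2, 3, 4])], [0, 1, 0, 1, 4, 1, 4, 3, 1, 3, 0, 3, 4, 3, 0,
  3, 4, 3, 2, 1, 2, 3, 4, 0, 1, 0]),
  ([(0, []), (164, [0, 1, 0, 4, 3, 2, 1, 2, 3, 4, 3]), (3, [])], [0, 1, 0, 1, 4, 1, 4, 3, 1, 3, 0,
  3, 4, 3, 4, 0, 3, 4, 3, 2, 1, 2, 3, 4, 1, 4, 1, 0, 1, 0]),
  ([(76, []), (90, []), (171, [0, 1, 0, 1, 4, 1, 4]), (104, []), (87, [])], [0, 2, 1, 0, 4, 2, 4,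
  1, 0, 4, 2, 4, 0, 1, 2, 4, 1, 0, 1, 0]),
  ([(1, []), (82, [])], [0, 1, 0, 1, 4, 2, 1, 0, 4, 2, 4, 1, 2, 4, 0, 1, 4, 0]),
  ([(3, []), (80, [])], [0, 1, 0, 1, 4, 2, 1, 0, 4, 2, 4, 0, 4, 2, 4, 1, 2, 4, 1, 0, 1, 0]),
  ([(28, []), (175, [0, 1, 0, 1, 4, 1, 4]), (110, [])], [0, 1, 0, 1, 4, 1, 4, 3, 1, 3, 0, 3, 1, 0,
  1, 3, 4, 0, 1, 4, 1, 0, 1, 0]),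
  ([(92, []), (170, [0, 2, 1, 4]), (172, [0, 2, 1, 4, 3])], [0, 1, 4, 1, 3, 1, 3, 2, 3, 4, 3, 2, 1,
  2, 3, 4, 3, 1, 2, 3, 4, 1, 2, 0]),
  ([(95, []), (0, [])], [0, 2, 1, 4, 1, 3, 1, 3, 2, 1, 2, 3, 4, 1, 2, 0]),
  ([(164, [0, 2, 1, 4, 3, 2, 1, 3, 2, 1]), (95, [])], [0, 2, 1, 4, 3, 2, 1, 4, 3, 2, 1, 2, 3, 4, 3,
  2, 1, 2, 3, 4, 3, 2, 1, 2, 1, 2, 3, 1, 4, 1, 2, 0]),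
  ([(96, []), (173, [0, 2, 1, 4, 3, 2, 1])], [0, 2, 1, 4, 1, 3, 2, 1, 2, 3, 2, 1, 2, 3, 4, 1, 2,
  0]),
  ([(2, []), (0, []), (5, [])], [0, 2, 1, 4, 3, 2, 1, 4, 3, 2, 1, 2, 3, 4, 3, 2, 1, 2, 3, 4, 3, 2,
  3, 1, 4, 1, 2, 0]),
  ([(0, []), (111, [])], [0, 2, 1, 4, 3, 2, 1, 4, 3, 2, 1, 2, 3, 4, 3, 2, 1, 2, 3, 2, 4, 1, 2, 4,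
  2, 0]),
  ([(186, [0, 2, 4, 2, 1]), (188, [0, 2, 4, 2, 1, 4])], [0, 2, 4, 2, 1, 0, 4, 3, 0, 3, 4, 1, 2, 4,
  2, 0]),
  ([(2, []), (180, [0, 2, 4, 2, 1, 4])], [0, 2, 1, 4, 3, 2, 1, 4, 3, 2, 1, 2, 3, 4, 3, 2, 1, 3, 4,
  1, 2, 4, 2, 0]),
  ([(186, [0, 2, 4, 2, 1, 4]), (1, [])], [0, 2, 4, 2, 1, 4, 1, 3, 1, 3, 2, 3, 4, 3, 2, 1, 2, 3, 4,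
  1, 2, 3, 4, 1, 2, 0]),
  ([(142, []), (194, [0, 2, 4, 2, 1, 4, 1])], [0, 2, 4, 2, 4, 1, 0, 4, 3, 0, 3, 1, 4, 1, 2, 4, 2,
  0]),
  ([(86, []), (148, []), (186, [0, 2, 4, 2, 1, 4, 1])], [0, 1, 4, 3, 2, 1, 4, 3, 2, 1, 2, 3, 4, 3,
  2, 1, 3, 1, 4, 1, 2, 4, 2, 0]),
  ([(0, []), (4, [])], [0, 1, 4, 3, 2, 1, 4, 3, 2, 1, 2, 3, 4, 3, 2, 3, 2, 3, 4, 3, 2, 1, 2, 3, 4,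
  1, 2, 3, 4, 1, 2, 0]),
  ([(192, [0, 2, 4, 2, 1, 0]), (194, [0, 2, 4, 2, 1, 0, 4])], [0, 2, 4, 2, 1, 0, 1, 4, 1, 4, 3, 1,
  3, 1, 3, 4, 0, 1, 2, 4, 2, 0]),
  ([(0, []), (12, []), (206, [0, 2, 4, 2, 1, 4, 3]), (11, [])], [0, 2, 4, 2, 1, 0, 1, 4, 1, 4, 3,
  1, 3, 0, 1, 0, 2, 3, 4, 3, 2, 1, 2, 3, 4, 1, 2, 3, 4, 1, 2, 0]),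
  ([(12, []), (200, [0, 2, 4, 2, 1, 4, 3])], [0, 2, 1, 4, 3, 2, 1, 4, 3, 2, 1, 2, 3, 4, 3, 1, 2, 3,
  4, 1, 2, 4, 2, 0]),
  ([(6, []), (0, [])], [0, 1, 4, 3, 2, 1, 4, 3, 2, 1, 2, 3, 4, 3, 2, 3, 2, 1, 2, 3, 4, 1, 2, 4, 2,
  0]),
  ([(3, []), (5, [])], [0, 2, 4, 2, 1, 4, 3, 2, 1, 2, 0, 1, 0, 3, 1, 3, 4, 1, 4, 1, 0, 1, 2, 4, 2,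
  0]),
  ([(3, []), (12, [])], [0, 2, 4, 2, 1, 4, 3, 2, 1, 2, 3, 1, 3, 1, 4, 1, 2, 4, 2, 0]),
  ([(3, []), (212, [0, 2, 4, 2, 1, 4, 3, 2, 1, 2])], [0, 2, 4, 2, 1, 0, 1, 4, 1, 4, 3, 1, 3, 0, 1,
  3, 0, 3, 2, 1, 2, 3, 4, 1, 2, 4, 2, 0]),
  ([(0, []), (218, [0, 2, 4, 2, 1, 4, 3, 2, 1, 2, 3]), (2, []), (19, [])], [0, 2, 4, 2, 1, 0, 1, 4,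
  1, 4, 3, 1, 3, 0, 1, 3, 1, 0, 1, 3, 4, 0, 1, 4, 2, 4, 2, 0])]

/-- derivation gb, part 2 -/
def gb2 : List (List (ℕ × List ℕ) × List ℕ) := [
  ([(162, []), (206, [0, 2, 4, 2, 4, 1, 0, 4])], [0, 4, 1, 0, 4, 2, 4, 3, 2, 3, 4, 0, 1, 4, 2, 4,
  2, 0]),
  ([(42, []), (160, []), (212, [0, 4, 1, 0, 4]), (105, [])], [0, 1, 0, 1, 4, 1, 4, 3, 1, 3, 0, 3,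
  1, 0, 3, 0, 1, 3, 1, 0, 3, 1, 3, 4, 1, 4, 1, 0, 1, 0]),
  ([(4, []), (3, []), (204, [0, 4, 1, 0, 4, 2, 3, 2, 1]), (210, [0, 4, 1, 0, 4]), (107, [])], [0,
  2, 4, 2, 1, 0, 1, 4, 1, 4, 3, 1, 3, 0, 1, 3, 1, 0, 2, 3, 4, 3, 2, 1, 2, 3, 4, 3, 2, 0, 1, 3, 1,
  0, 3, 1, 3, 4, 1, 4, 1, 0, 1, 0]),
  ([(50, []), (216, [0, 4, 1, 0, 4, 2]), (212, [0, 4, 1, 0, 4])], [0, 1, 0, 1, 4, 2, 1, 0, 4, 2, 4,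
  3, 1, 3, 1, 2, 3, 4, 0, 1, 4, 0]),
  ([(2, []), (110, []), (220, [0, 4, 1, 0, 4, 3])], [0, 2, 4, 2, 1, 0, 1, 4, 1, 4, 3, 1, 3, 0, 1,
  3, 1, 0, 2, 3, 4, 3, 2, 1, 2, 3, 4, 3, 1, 2, 3, 4, 0, 1, 4, 0]),
  ([(2, []), (1, [])], [0, 1, 0, 1, 4, 2, 1, 0, 4, 2, 4, 3, 1, 4, 3, 2, 1, 2, 3, 4, 3, 2, 0, 1, 3,
  1, 0, 3, 1, 3, 4, 1, 4, 1, 0, 1, 2, 4, 2, 0]),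
  ([(7, []), (2, [])], [0, 1, 0, 1, 4, 1, 4, 3, 1, 3, 0, 1, 3, 1, 0, 2, 1, 2, 3, 4, 0, 1, 4, 0]),
  ([(3, []), (6, [])], [0, 2, 4, 2, 1, 0, 1, 4, 1, 4, 3, 1, 3, 0, 1, 3, 1, 0, 2, 3, 4, 3, 2, 1, 2,
  3, 4, 3, 1, 2, 3, 4, 0, 1, 4, 0]),
  ([(3, []), (118, [])], [0, 4, 1, 0, 4, 3, 2, 1, 2, 1, 3, 4, 0, 1, 4, 0]),
  ([(14, []), (4, [])], [0, 1, 0, 1, 4, 1, 4, 3, 1, 3, 0, 3, 1, 0, 3, 2, 1, 2, 3, 4, 0, 1, 4, 0]),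
  ([(1, []), (60, [])], [0, 4, 1, 0, 4, 3, 2, 1, 2, 3, 1, 3, 4, 0, 1, 4, 1, 0, 1, 0]),
  ([(222, [0, 4, 1, 0, 4, 3, 2, 1, 3, 2, 1]), (7, [])], [0, 4, 1, 0, 4, 3, 2, 1, 4, 3, 2, 1, 2, 3,
  4, 3, 2, 1, 2, 3, 4, 3, 2, 1, 2, 4, 3, 2, 1, 2, 3, 4, 3, 2, 0, 1, 3, 1, 0, 3, 1, 3, 4, 1, 4, 1,
  0, 1, 2, 4, 2, 0]),
  ([(240, [0, 4, 1, 0, 4, 3, 2, 1]), (9, [])], [0, 4, 1, 0, 4, 3, 2, 1, 0, 3, 0, 4, 3, 2, 1, 2, 3,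
  4, 3, 2, 0, 1, 3, 1, 0, 3, 1, 3, 4, 1, 4, 1, 0, 1, 2, 4, 2, 0]),
  ([(2, []), (10, []), (233, [0, 4, 1, 0, 4, 3, 2, 1])], [0, 4, 1, 0, 4, 3, 2, 1, 4, 3, 2, 1, 2, 3,
  4, 3, 2, 1, 2, 3, 4, 3, 2, 1, 3, 2, 1, 2, 3, 4, 0, 1, 4, 0]),
  ([(0, []), (6, [])], [0, 4, 1, 0, 4, 3, 2, 1, 4, 3, 2, 1, 2, 3, 4, 3, 2, 1, 2, 3, 4, 3, 2, 3, 4,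
  0, 1, 4, 1, 0, 1, 0]),
  ([(3, []), (6, [])], [0, 4, 1, 0, 4, 3, 2, 1, 2, 3, 2, 4, 3, 2, 1, 2, 3, 4, 3, 2, 0, 1, 3, 1, 0,
  3, 1, 3, 4, 1, 4, 1, 0, 1, 2, 4, 2, 0]),
  ([(18, []), (246, [0, 4, 1, 0, 4, 3, 2, 1, 2]), (19, [])], [0, 1, 0, 1, 4, 1, 4, 3, 1, 3, 0, 1,
  3, 1, 4, 0, 4, 0, 1, 3, 1, 0, 3, 1, 3, 4, 1, 4, 1, 0, 1, 0]),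
  ([(20, []), (250, [0, 4, 1, 0, 4, 3, 2, 1, 2]), (15, [])], [0, 1, 0, 1, 4, 1, 4, 3, 1, 3, 0, 1,
  3, 1, 3, 1, 3, 0, 3, 1, 3, 4, 1, 4, 1, 0, 1, 0]),
  ([(238, [0, 4, 1, 0, 4, 3, 2, 1, 2]), (23, [])], [0, 4, 1, 0, 4, 3, 2, 1, 2, 3, 4, 3, 4, 3, 4, 0,
  1, 3, 1, 0, 3, 1, 3, 4, 1, 4, 1, 0, 1, 0]),
  ([(18, []), (256, [0, 4, 1, 0, 4, 3, 2, 1, 2, 3]), (6, []), (13, [])], [0, 1, 0, 1, 4, 1, 4, 3,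
  1, 3, 0, 3, 1, 2, 3, 0, 1, 2, 3, 4, 0, 1, 4, 0]),
  ([(20, []), (254, [0, 4, 1, 0, 4, 3, 2, 1, 2, 3])], [0, 1, 0, 1, 4, 1, 4, 3, 1, 3, 0, 3, 1, 4, 0,
  4, 3, 2, 1, 2, 3, 4, 0, 1, 4, 0]),
  ([(21, []), (254, [0, 4, 1, 0, 4, 3, 2, 1, 2, 3])], [0, 1, 0, 1, 4, 1, 0, 4, 3, 2, 1, 2, 3, 2, 1,
  2, 3, 4, 0, 1, 4, 0]),
  ([(13, []), (1, [])], [0, 2, 4, 2, 1, 0, 1, 4, 1, 4, 3, 1, 3, 0, 1, 3, 1, 0, 2, 3, 4, 3, 2, 1, 2,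
  3, 4, 1, 2, 3, 4, 0, 1, 4, 1, 0, 1, 0]),
  ([(34, []), (0, [])], [0, 1, 0, 1, 4, 2, 1, 0, 4, 2, 4, 3, 2, 3, 4, 0, 1, 4, 1, 0, 1, 0]),
  ([(3, []), (23, [])], [0, 1, 0, 1, 4, 1, 0, 4, 3, 2, 1, 0, 3, 0, 1, 2, 3, 4, 0, 1, 4, 0]),
  ([(36, []), (7, [])], [0, 1, 0, 1, 4, 1, 4, 3, 1, 3, 0, 1, 3, 1, 0, 3, 2, 1, 2, 3, 4, 0, 1, 4, 1,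
  0, 1, 0]),
  ([(22, []), (5, [])], [0, 4, 1, 0, 4, 3, 2, 1, 4, 3, 2, 1, 2, 3, 4, 3, 2, 1, 2, 3, 2, 4, 0, 1, 2,
  4, 1, 0, 1, 0]),
  ([(3, []), (21, [])], [0, 1, 0, 1, 4, 1, 0, 4, 3, 2, 1, 2, 3, 4, 0, 4, 1, 3, 1, 0, 3, 1, 3, 4, 1,
  4, 1, 0, 1, 0]),
  ([(3, []), (26, [])], [0, 1, 0, 1, 4, 2, 1, 0, 4, 2, 4, 3, 2, 3, 4, 0, 1, 4, 1, 0, 1, 0]),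
  ([(7, []), (21, [])], [0, 1, 0, 1, 4, 1, 0, 4, 3, 2, 1, 2, 3, 4, 3, 4, 3, 4, 3, 2, 1, 2, 3, 4, 0,
  1, 4, 0]),
  ([(18, []), (276, [0, 4, 1, 0, 4, 3, 2, 1, 2, 3, 4])], [0, 1, 0, 1, 4, 1, 4, 3, 1, 3, 0, 3, 1, 4,
  3, 0, 3, 4, 3, 2, 1, 2, 3, 4, 0, 1, 4, 0]),
  ([(0, []), (276, [0, 4, 1, 0, 4, 3, 2, 1, 2, 3, 4, 3]), (3, [])], [0, 1, 0, 1, 4, 1, 4, 3, 1, 3,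
  0, 3, 1, 4, 3, 4, 0, 3, 4, 3, 2, 1, 2, 3, 4, 0, 1, 4, 1, 0, 1, 0]),
  ([(7, []), (106, []), (280, [0, 1, 0, 1, 4, 2, 1, 4, 2, 4]), (118, [])], [0, 1, 0, 1, 4, 1, 0, 4,
  3, 2, 0, 2, 3, 4, 1, 4, 1, 0, 1, 0]),
  ([(17, []), (0, []), (286, [0, 1, 0, 1, 4, 1, 4, 3, 2]), (128, [])], [0, 4, 1, 0, 4, 3, 2, 1, 0,
  3, 1, 3, 0, 1, 2, 3, 4, 0, 1, 0]),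
  ([(125, []), (284, [0, 1, 0, 1, 4, 1, 4, 3, 2, 1, 2, 3, 4]), (117, [])], [0, 1, 0, 1, 4, 1, 4, 3,
  1, 3, 0, 4, 3, 4, 3, 4, 3, 0, 3, 1, 3, 4, 1, 4, 1, 0, 1, 0]),
  ([(15, []), (286, [0, 1, 0, 1, 4, 1, 0, 4, 3, 2, 1, 2, 3, 4]), (7, [])], [0, 1, 0, 1, 4, 1, 4, 3,
  1, 3, 0, 1, 3, 1, 4, 3, 4, 3, 4, 1, 3, 0, 3, 1, 3, 4, 1, 4, 1, 0, 1, 0]),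
  ([(3, []), (272, [0, 1, 0, 1, 4, 1, 4, 3, 1, 3, 0, 3, 2, 1]), (146, []), (5, []), (33, []), (37,
  []), (0, [])], [0, 1, 0, 1, 4, 1, 4, 3, 1, 3, 0, 3, 4, 3, 4, 2, 1, 2, 3, 4, 3, 2, 1, 2, 4, 3, 4,
  1, 3, 0, 3, 1, 3, 4, 1, 4, 1, 0, 1, 0]),
  ([(284, [0, 1, 0, 1, 4, 1, 4, 3, 1, 3, 0, 4]), (4, [])], [0, 1, 0, 1, 4, 1, 4, 3, 1, 3, 0, 4, 1,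
  3, 1, 3, 1, 4, 3, 4, 3, 0, 3, 1, 3, 4, 1, 4, 1, 0, 1, 0]),
  ([(0, []), (288, [0, 1, 0, 1, 4, 1, 4, 3, 1, 3, 0, 3, 4, 3, 4])], [0, 1, 0, 1, 4, 1, 4, 3, 1, 3,
  0, 4, 1, 3, 1, 3, 2, 1, 2, 4, 3, 4, 3, 0, 3, 1, 3, 4, 1, 4, 1, 0, 1, 0]),
  ([(288, [0, 1, 0, 1, 4, 1, 4, 3, 1, 3, 0, 1, 3, 1, 4]), (6, [])], [0, 1, 0, 1, 4, 1, 4, 3, 1, 3,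
  0, 1, 3, 1, 4, 1, 3, 1, 3, 1, 4, 3, 4, 1, 3, 0, 3, 1, 3, 4, 1, 4, 1, 0, 1, 0]),
  ([(6, []), (293, [0, 1, 0, 1, 4, 1, 4, 3, 1, 3, 0, 3, 1, 4, 3, 4])], [0, 1, 0, 1, 4, 1, 4, 3, 1,
  3, 0, 3, 4, 3, 4, 2, 1, 2, 3, 4, 3, 1, 4, 3, 4, 1, 3, 0, 3, 1, 3, 4, 1, 4, 1, 0, 1, 0]),
  ([(2, []), (1, [])], [0, 1, 0, 1, 4, 1, 4, 3, 1, 3, 0, 1, 3, 1, 4, 1, 3, 1, 4, 3, 2, 1, 2, 4, 3,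
  4, 3, 0, 3, 1, 3, 4, 1, 4, 1, 0, 1, 0]),
  ([(179, []), (183, []), (6, []), (1, []), (70, []), (66, []), (282, []), (288, [])], [0, 1, 0, 4,
  3, 1, 0, 4, 1, 3, 1, 4, 1, 3, 1, 4, 0, 1, 3, 4, 0, 1, 0, 4])]

/-- derivation gb -/
def gb : List (List (ℕ × List ℕ) × List ℕ) := gb0 ++ gb1 ++ gb2

/-- derivation xu, part 0 -/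
def xu0 : List (List (ℕ × List ℕ) × List ℕ) := [
  ([(20, []), (1, [])], [0, 4, 1, 0, 4, 3, 1, 0, 4, 1, 3, 1, 4, 1, 3, 1, 4, 0, 1, 3, 4, 0, 1, 0]),
  ([(4, []), (29, [])], [0, 1, 0, 4, 3, 1, 0, 4, 1, 3, 1, 0, 1, 3, 1, 4, 0, 1, 3, 4, 1, 0, 1, 0]),
  ([(30, []), (8, [])], [0, 1, 4, 3, 1, 0, 4, 1, 3, 1, 2, 3, 4, 3, 2, 1, 3, 1, 4, 0, 1, 3, 4, 0, 1,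
  0, 1, 0, 1, 0, 4, 3, 1, 0, 4, 1, 3, 1, 2, 3, 4, 3, 2, 1, 3, 1, 4, 0, 1, 3, 4, 0, 1, 0, 1, 0, 1,
  0, 4, 3, 1, 0, 4, 1, 3, 1, 2, 3, 4, 3, 2, 1, 3, 1, 4, 0, 1, 3, 4, 0, 1, 0]),
  ([(32, []), (22, []), (29, [])], [0, 1, 0, 1, 0, 3, 1, 3, 1, 0, 3, 0]),
  ([(8, []), (22, [1]), (35, [])], [0, 1, 0, 4, 3, 1, 0, 4, 1, 3, 1, 4, 1, 3, 1, 4, 0, 1, 3, 4, 0,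
  1, 0, 1, 4, 1, 4, 0, 1, 0, 1, 0]),
  ([(32, []), (18, []), (11, [])], [0, 3, 0, 4, 3, 4, 3, 0, 1, 0, 4, 3, 1, 0, 4, 1, 3, 1, 4, 1, 3,
  1, 4, 0, 1, 3, 4, 0, 1, 0]),
  ([(8, []), (38, []), (12, [0]), (10, [])], [0, 1, 0, 4, 3, 1, 0, 4, 1, 3, 1, 0, 4, 1, 3, 1, 4, 0,
  1, 3, 4, 0, 1, 0, 1, 0, 4, 3, 1, 0, 4, 1, 3, 1, 4, 1, 3, 1, 4, 0, 1, 3, 4, 0, 1, 0]),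
  ([(4, []), (18, [0]), (41, []), (11, [])], [0, 1, 0, 4, 3, 1, 0, 4, 1, 3, 1, 4, 1, 3, 1, 4, 0, 1,
  3, 4, 0, 1, 0, 1, 4, 1, 3, 1, 0, 4, 1, 3, 1, 2, 3, 4, 3, 2, 1, 3, 1, 4, 0, 1, 3, 4, 0, 1, 0, 1,
  0, 1, 0, 4, 3, 1, 0, 4, 1, 3, 1, 2, 3, 4, 3, 2, 1, 3, 1, 4, 0, 1, 3, 4, 0, 1, 0, 1, 0, 1, 0, 4,
  3, 1, 0, 4, 1, 3, 1, 2, 3, 4, 3, 2, 0, 1, 3, 1, 4, 0, 1, 3, 4, 0, 1, 0]),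
  ([(15, []), (30, [0, 1])], [0, 1, 0, 4, 3, 1, 0, 4, 1, 3, 1, 4, 1, 3, 1, 4, 0, 1, 3, 4, 0, 4, 1,
  4, 1, 0]),
  ([(26, [0]), (16, [])], [0, 3, 4, 3, 4, 3, 1, 0, 4, 3, 1, 0, 4, 1, 3, 1, 4, 1, 3, 1, 4, 0, 1, 3,
  4, 0, 1, 0]),
  ([(12, []), (20, [0, 3])], [0, 1, 0, 1, 0, 3, 1, 3, 0, 4, 3, 1, 0, 4, 1, 3, 1, 4, 1, 3, 1, 4, 0,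
  1, 3, 4, 0, 1, 0, 4, 3, 0]),
  ([(14, []), (48, [0, 3]), (39, [0])], [0, 1, 0, 1, 0, 3, 1, 3, 0, 1, 0, 3, 1, 3, 1, 0]),
  ([(2, []), (45, [0, 3])], [0, 1, 0, 1, 0, 3, 1, 3, 0, 4, 3, 1, 0, 4, 1, 3, 1, 4, 1, 3, 1, 4, 0,
  1, 3, 4, 0, 1, 4, 0, 3, 0]),
  ([(1, []), (4, [])], [0, 3, 0, 4, 0, 4, 3, 0]),
  ([(20, []), (30, [0, 3]), (45, [0]), (5, [])], [0, 1, 0, 1, 0, 3, 1, 3, 0, 4, 3, 1, 0, 4, 1, 3,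
  1, 0, 1, 3, 1, 4, 0, 1, 3, 4, 1, 0, 3, 1, 3, 0, 1, 0, 1, 0]),
  ([(36, [0]), (42, [0]), (40, [0, 3])], [0, 1, 2, 3, 4, 3, 2, 1, 2, 3, 4, 3, 2, 1, 2, 3, 2, 4, 2,
  4, 3, 0]),
  ([(8, []), (48, [0]), (36, [0, 3]), (25, [])], [0, 1, 0, 1, 0, 3, 1, 3, 4, 3, 1, 0, 4, 1, 3, 1,
  2, 3, 4, 3, 2, 1, 3, 1, 4, 0, 1, 3, 4, 0, 1, 0, 1, 0, 1, 0, 4, 3, 1, 0, 4, 1, 3, 1, 2, 3, 4, 3,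
  2, 1, 3, 1, 4, 0, 1, 3, 4, 0, 1, 0, 1, 0, 1, 0, 4, 3, 1, 0, 4, 1, 3, 1, 2, 3, 4, 3, 2, 1, 3, 1,
  4, 0, 1, 3, 4, 0, 3, 1, 3, 0, 1, 0, 1, 0]),
  ([(48, [0, 3, 1]), (51, [0])], [0, 3, 4, 1, 4, 1, 4, 3, 1, 3, 1, 0]),
  ([(6, []), (12, []), (52, [0]), (36, [0, 3, 0]), (8, [])], [0, 1, 0, 1, 0, 3, 1, 3, 0, 4, 3, 1,
  0, 4, 1, 3, 1, 0, 4, 1, 3, 1, 4, 0, 1, 3, 4, 0, 1, 4, 3, 0]),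
  ([(2, []), (15, []), (30, []), (42, [0, 3, 0]), (55, [0]), (15, []), (9, [])], [0, 3, 4, 1, 4, 1,
  3, 1, 0, 4, 1, 3, 1, 2, 3, 4, 3, 2, 1, 3, 1, 4, 0, 1, 3, 4, 0, 1, 0, 1, 0, 1, 0, 4, 3, 1, 0, 4,
  1, 3, 1, 2, 3, 4, 3, 2, 1, 3, 1, 4, 0, 1, 3, 4, 0, 1, 0, 1, 0, 1, 0, 4, 3, 1, 0, 4, 1, 3, 1, 2,
  3, 4, 3, 2, 0, 1, 3, 1, 4, 0, 1, 3, 4, 0, 3, 1, 3, 0, 1, 0, 1, 0]),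
  ([(14, []), (54, [0, 3, 0, 1]), (33, [])], [0, 1, 0, 1, 0, 3, 1, 3, 0, 4, 3, 1, 0, 4, 1, 3, 1, 4,
  1, 3, 1, 4, 0, 1, 3, 4, 0, 4, 1, 4, 3, 1, 3, 0, 1, 0, 1, 0]),
  ([(32, []), (42, [0, 1])], [0, 1, 0, 4, 3, 1, 0, 4, 1, 3, 1, 4, 1, 3, 1, 4, 0, 1, 3, 4, 0, 1, 0,
  1, 4, 1, 3, 1, 0, 4, 1, 3, 1, 4, 1, 3, 1, 4, 0, 1, 3, 4, 0, 1, 0, 4, 1, 0]),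
  ([(0, []), (65, [0, 1])], [0, 1, 0, 4, 3, 1, 0, 4, 1, 3, 1, 4, 1, 3, 1, 4, 0, 1, 3, 4, 0, 1, 0,
  1, 4, 1, 3, 1, 0, 4, 1, 3, 1, 4, 1, 3, 1, 4, 0, 1, 3, 4, 0, 1, 4, 0, 1, 0]),
  ([(1, []), (2, [])], [0, 1, 0, 4, 0, 4, 1, 0]),
  ([(38, []), (50, [0, 1]), (49, []), (37, [])], [0, 1, 0, 4, 3, 1, 0, 4, 1, 3, 1, 4, 1, 3, 1, 4,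
  0, 1, 3, 4, 0, 1, 0, 1, 4, 1, 3, 1, 0, 4, 1, 3, 1, 0, 1, 3, 1, 4, 0, 1, 4, 3, 4, 0, 3, 0]),
  ([(0, []), (38, []), (50, []), (50, [0, 1, 0]), (2, []), (33, [])], [0, 1, 0, 4, 3, 1, 0, 4, 1,
  3, 1, 4, 1, 3, 1, 4, 0, 1, 3, 4, 0, 1, 0, 1, 4, 1, 3, 1, 0, 4, 1, 3, 1, 0, 4, 1, 3, 1, 4, 0, 1,
  3, 4, 0, 4, 0, 4, 3, 1, 0, 4, 1, 3, 1, 4, 1, 3, 1, 4, 0, 1, 3, 4, 0, 1, 0]),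
  ([(32, []), (51, []), (79, []), (56, [0, 1, 0]), (53, []), (41, []), (3, [])], [0, 3, 4, 3, 4, 1,
  0, 4, 1, 3, 1, 2, 3, 4, 3, 2, 1, 3, 1, 4, 0, 1, 3, 4, 0, 1, 0, 1, 0, 1, 0, 4, 3, 1, 0, 4, 1, 3,
  1, 2, 3, 4, 3, 2, 1, 3, 1, 4, 0, 1, 3, 4, 0, 1, 0, 1, 0, 1, 0, 4, 3, 1, 0, 4, 1, 3, 1, 2, 3, 4,
  3, 2, 0, 1, 3, 1, 4, 0, 1, 3, 1, 4, 1, 0, 1, 0, 4, 3, 1, 0, 4, 1, 3, 1, 4, 1, 3, 1, 4, 0, 1, 3,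
  4, 0, 1, 0]),
  ([(7, []), (76, [0, 1, 0, 4])], [0, 1, 4, 3, 0, 3, 4, 0, 1, 0]),
  ([(4, []), (38, []), (9, []), (58, [0, 1, 0, 4]), (11, [])], [0, 1, 0, 4, 3, 1, 0, 4, 1, 3, 1, 4,
  1, 3, 1, 4, 0, 1, 3, 4, 0, 1, 0, 1, 4, 1, 3, 1, 0, 4, 1, 3, 1, 0, 4, 0, 4, 1, 3, 1, 4, 0, 1, 3,
  1, 4, 1, 0, 1, 0, 4, 3, 1, 0, 4, 1, 3, 1, 4, 1, 3, 1, 4, 0, 1, 3, 4, 0, 1, 0]),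
  ([(12, []), (74, [0, 1, 0, 4])], [0, 1, 0, 4, 3, 1, 0, 4, 1, 3, 1, 4, 1, 3, 1, 4, 0, 1, 3, 4, 0,
  1, 0, 1, 4, 1, 3, 1, 0, 4, 1, 3, 1, 4, 1, 3, 1, 4, 0, 1, 3, 4, 0, 3, 1, 3, 1, 3, 4, 0, 1, 0]),
  ([(4, []), (86, [0, 1, 0, 4, 3])], [0, 1, 4, 3, 1, 0, 1, 0, 1, 3, 4, 0, 1, 0]),
  ([(6, []), (64, [0, 1, 0, 4, 3])], [0, 1, 4, 3, 1, 0, 4, 3, 1, 0, 4, 1, 3, 1, 0, 1, 3, 1, 4, 0,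
  1, 3, 4, 0, 1, 3, 4, 0, 1, 0]),
  ([(2, []), (68, [0, 1, 0, 4, 3]), (9, [])], [0, 1, 4, 3, 1, 4, 3, 1, 0, 4, 1, 3, 1, 2, 3, 4, 3,
  2, 1, 3, 1, 4, 0, 1, 3, 4, 0, 1, 0, 1, 0, 1, 0, 4, 3, 1, 0, 4, 1, 3, 1, 2, 3, 4, 3, 2, 1, 3, 1,
  4, 0, 1, 3, 4, 0, 1, 0, 1, 0, 1, 0, 4, 3, 1, 0, 4, 1, 3, 1, 2, 3, 4, 3, 2, 1, 3, 1, 4, 0, 1, 3,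
  4, 0, 1, 3, 4, 1, 0]),
  ([(74, [0, 1, 0]), (80, [0, 1, 0, 4, 3, 1])], [0, 1, 0, 3, 4, 3, 1, 4, 1, 4, 1, 3, 4, 0, 1, 0]),
  ([(6, []), (68, [0, 1, 0, 4, 3, 1]), (1, [])], [0, 1, 4, 3, 1, 4, 3, 1, 0, 4, 1, 3, 1, 4, 1, 3,
  1, 4, 0, 1, 3, 4, 0, 1, 0, 1, 4, 1, 3, 4, 3, 0, 1, 0]),
  ([(0, []), (2, []), (91, [0, 1, 0, 4, 3, 1])], [0, 1, 4, 3, 1, 4, 3, 1, 0, 4, 1, 3, 1, 4, 1, 3,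
  1, 4, 0, 1, 3, 4, 0, 1, 4, 0, 1, 3, 4, 0, 1, 0]),
  ([(12, []), (80, [0, 1, 0, 4, 3, 1]), (5, [])], [0, 1, 0, 4, 3, 1, 0, 4, 1, 3, 1, 4, 1, 3, 1, 4,
  0, 1, 3, 4, 0, 1, 0, 1, 4, 1, 3, 1, 0, 4, 1, 3, 1, 4, 1, 3, 1, 4, 0, 1, 3, 4, 0, 3, 1, 4, 3, 4,
  3, 1, 4, 1, 3, 4, 3, 0, 1, 0]),
  ([(88, [0, 1, 0, 4, 3, 1, 0, 1]), (13, [])], [0, 1, 0, 4, 3, 1, 0, 4, 1, 4, 1, 4, 0, 1, 3, 4, 1,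
  0]),
  ([(92, [0, 1, 0, 4, 3, 1, 0, 4]), (13, [])], [0, 1, 0, 4, 3, 1, 0, 4, 1, 3, 1, 3, 0, 4, 1, 3, 1,
  0, 1, 3, 1, 4, 0, 1, 3, 4, 0, 1, 3, 4, 1, 0]),
  ([(6, []), (100, [0, 1, 0, 4, 3, 1, 0, 4, 1])], [0, 1, 4, 3, 1, 4, 3, 1, 0, 4, 1, 3, 1, 4, 1, 3,
  1, 4, 0, 1, 3, 4, 3, 0, 3, 1, 4, 0, 1, 3, 4, 0, 1, 0]),
  ([(90, [0, 1, 0, 4, 3, 1, 0, 4, 1]), (4, [])], [0, 1, 0, 4, 3, 1, 0, 4, 1, 2, 4, 2, 4, 2, 1, 4,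
  0, 1, 3, 4, 1, 0]),
  ([(90, [0, 1, 0, 4, 3, 1, 0, 4, 1]), (6, [])], [0, 1, 0, 4, 3, 1, 0, 4, 1, 3, 4, 3, 4, 3, 1, 4,
  0, 1, 3, 4, 1, 0]),
  ([(4, []), (110, [0, 1, 0, 4, 3, 1, 0, 4, 1, 3])], [0, 1, 4, 3, 1, 4, 3, 1, 0, 4, 1, 3, 1, 4, 1,
  3, 1, 4, 0, 1, 3, 4, 3, 1, 0, 1, 0, 1, 3, 1, 4, 0, 1, 3, 4, 0, 1, 0]),
  ([(0, []), (1, []), (6, []), (88, [0, 1, 0, 4, 3, 1, 0, 4, 1, 3])], [0, 1, 4, 3, 1, 4, 3, 1, 0,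
  4, 1, 3, 1, 4, 1, 3, 1, 4, 0, 1, 3, 4, 3, 1, 0, 4, 3, 1, 0, 4, 1, 3, 1, 0, 1, 3, 1, 4, 0, 1, 3,
  4, 0, 1, 3, 1, 4, 0, 1, 3, 4, 0, 1, 0]),
  ([(82, []), (106, [0, 1, 0, 4, 3, 1, 0, 4, 1, 3]), (101, [0, 1, 0, 4, 3, 1, 0, 4, 1])], [0, 1, 4,
  3, 1, 0, 4, 1, 3, 1, 2, 3, 4, 3, 2, 1, 3, 1, 4, 0, 1, 3, 4, 0, 1, 0, 1, 0, 1, 0, 4, 3, 1, 0, 4,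
  1, 3, 1, 2, 3, 4, 3, 2, 1, 3, 1, 4, 0, 1, 3, 4, 0, 1, 0, 1, 0, 1, 0, 4, 3, 1, 0, 4, 1, 3, 1, 2,
  3, 4, 3, 1, 3, 2, 1, 4, 0, 1, 3, 4, 0, 1, 0]),
  ([(112, [0, 1, 0, 4, 3, 1, 0, 4, 1, 3, 1]), (12, [])], [0, 1, 0, 4, 3, 1, 0, 4, 1, 3, 1, 0, 3, 4,
  1, 3, 1, 0, 1, 3, 1, 4, 0, 1, 3, 4, 0, 1, 3, 4, 1, 0]),
  ([(6, []), (92, [0, 1, 0, 4, 3, 1, 0, 4, 1, 3, 1])], [0, 1, 4, 3, 1, 4, 3, 1, 0, 4, 1, 3, 1, 4,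
  1, 3, 1, 4, 0, 1, 3, 4, 3, 1, 4, 3, 1, 0, 4, 1, 3, 1, 4, 1, 3, 1, 4, 0, 1, 3, 4, 0, 1, 0, 4, 1,
  3, 1, 4, 0, 1, 3, 4, 0, 1, 0]),
  ([(78, []), (118, [0, 1, 0, 4, 3, 1, 0, 4, 1, 3, 1]), (89, [])], [0, 1, 0, 4, 3, 1, 0, 4, 1, 3,
  1, 4, 1, 3, 1, 4, 0, 1, 3, 4, 0, 1, 0, 1, 4, 1, 3, 1, 0, 4, 1, 3, 1, 2, 3, 4, 3, 2, 1, 3, 1, 4,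
  0, 1, 3, 4, 0, 1, 0, 1, 0, 1, 0, 4, 3, 1, 0, 4, 1, 3, 1, 2, 3, 4, 3, 2, 1, 3, 1, 4, 0, 1, 3, 4,
  0, 1, 0, 1, 0, 1, 0, 4, 3, 1, 0, 4, 1, 3, 1, 2, 3, 4, 3, 0, 3, 4, 3, 2, 1, 3, 1, 4, 0, 1, 3, 4,
  0, 1, 0, 1, 0, 1, 0, 4, 3, 1, 0, 4, 1, 3, 1, 2, 3, 4, 3, 2, 1, 3, 1, 4, 0, 1, 3, 4, 0, 1, 0, 1,
  0, 1, 0, 4, 3, 1, 0, 4, 1, 3, 1, 2, 3, 4, 3, 2, 1, 3, 1, 4, 0, 1, 3, 4, 1, 0]),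
  ([(2, []), (117, [0, 1, 0, 4, 3, 1, 0, 4, 1, 3, 1])], [0, 1, 4, 3, 1, 4, 3, 1, 0, 4, 1, 3, 1, 4,
  1, 3, 1, 4, 0, 1, 3, 4, 3, 1, 4, 3, 1, 0, 4, 1, 3, 1, 4, 1, 3, 1, 4, 0, 1, 3, 4, 0, 1, 4, 0, 1,
  3, 1, 4, 0, 1, 3, 4, 0, 1, 0]),
  ([(1, []), (4, [])], [0, 1, 0, 4, 3, 1, 0, 4, 1, 3, 1, 0, 4, 0, 4, 1, 3, 1, 4, 0, 1, 3, 4, 0, 1,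
  0])]

/-- derivation xu, part 1 -/
def xu1 : List (List (ℕ × List ℕ) × List ℕ) := [
  ([(23, []), (108, [0, 1, 0, 4, 3, 1, 0, 4, 1, 3, 1])], [0, 1, 4, 3, 1, 0, 4, 3, 1, 0, 4, 1, 3, 1,
  0, 1, 3, 1, 4, 0, 4, 3, 4, 3, 4, 1, 3, 1, 4, 0, 1, 3, 4, 0, 1, 0]),
  ([(14, []), (2, []), (124, [0, 1, 0, 4, 3, 1, 0, 4, 1, 3, 1, 4]), (1, [])], [0, 1, 4, 3, 1, 4, 3,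
  1, 0, 4, 1, 3, 1, 4, 1, 3, 1, 4, 0, 1, 3, 4, 3, 1, 0, 4, 3, 1, 0, 4, 1, 3, 1, 0, 1, 3, 1, 4, 0,
  1, 0, 4, 3, 4, 0, 4, 1, 3, 1, 0, 1, 3, 1, 4, 0, 1, 3, 4, 0, 1, 3, 4, 1, 0]),
  ([(6, []), (4, []), (130, [0, 1, 0, 4, 3, 1, 0, 4, 1, 3, 1, 4])], [0, 1, 4, 3, 1, 4, 3, 1, 0, 4,
  1, 3, 1, 4, 1, 3, 1, 4, 0, 1, 3, 4, 3, 1, 4, 3, 1, 0, 4, 1, 3, 1, 4, 1, 3, 1, 4, 0, 1, 3, 4, 1,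
  0, 1, 4, 1, 3, 1, 4, 0, 1, 3, 4, 0, 1, 0]),
  ([(122, [0, 1, 0, 4, 3, 1, 0, 4, 1, 3, 1, 4]), (5, [])], [0, 1, 0, 4, 3, 1, 0, 4, 1, 3, 1, 4, 1,
  3, 1, 3, 1, 4, 3, 4, 0, 4, 1, 3, 1, 0, 1, 3, 1, 4, 0, 1, 3, 4, 0, 1, 3, 4, 1, 0]),
  ([(2, []), (130, [0, 1, 0, 4, 3, 1, 0, 4, 1, 3, 1, 4, 1])], [0, 1, 4, 3, 1, 4, 3, 1, 0, 4, 1, 3,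
  1, 4, 1, 3, 1, 4, 0, 1, 3, 4, 3, 1, 4, 3, 1, 0, 4, 1, 3, 1, 4, 1, 3, 1, 4, 0, 1, 3, 4, 1, 3, 0,
  3, 1, 4, 1, 3, 1, 4, 0, 1, 3, 4, 0, 1, 0]),
  ([(13, []), (4, []), (112, [0, 1, 0, 4, 3, 1, 0, 4, 1, 3, 1, 4, 1]), (11, []), (18, [])], [0, 1,
  0, 4, 3, 1, 0, 4, 1, 3, 1, 0, 4, 1, 4, 3, 1, 0, 4, 1, 3, 1, 0, 1, 3, 1, 4, 0, 1, 4, 1, 3, 1, 0,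
  1, 3, 1, 4, 0, 1, 3, 4, 0, 1, 3, 4, 1, 0]),
  ([(2, []), (138, [0, 1, 0, 4, 3, 1, 0, 4, 1, 3, 1, 4, 1, 3])], [0, 1, 4, 3, 1, 4, 3, 1, 0, 4, 1,
  3, 1, 4, 1, 3, 1, 4, 0, 1, 3, 4, 3, 1, 4, 3, 1, 0, 4, 1, 3, 1, 4, 1, 3, 1, 4, 0, 1, 3, 4, 1, 3,
  1, 0, 1, 0, 1, 3, 1, 4, 1, 3, 1, 4, 0, 1, 3, 4, 0, 1, 0]),
  ([(0, []), (114, [0, 1, 0, 4, 3, 1, 0, 4, 1, 3, 1, 4, 1, 3, 1])], [0, 1, 4, 3, 1, 4, 3, 1, 0, 4,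
  1, 3, 1, 4, 1, 3, 1, 4, 0, 1, 3, 4, 3, 1, 4, 3, 1, 0, 4, 1, 3, 1, 4, 1, 3, 1, 4, 0, 1, 3, 4, 1,
  3, 1, 4, 3, 1, 0, 4, 1, 3, 1, 4, 1, 3, 1, 4, 0, 1, 3, 4, 0, 1, 0, 4, 1, 3, 1, 4, 1, 3, 1, 4, 0,
  1, 3, 4, 0, 1, 0]),
  ([(0, []), (142, [0, 1, 0, 4, 3, 1, 0, 4, 1, 3, 1, 4, 1, 3, 1, 4]), (131, [0, 1, 0, 4, 3, 1, 0,
  4, 1, 3, 1, 4, 1, 3, 1])], [0, 1, 4, 3, 1, 4, 3, 1, 0, 4, 1, 3, 1, 4, 1, 3, 1, 4, 0, 1, 3, 4, 3,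
  1, 4, 3, 1, 0, 4, 1, 3, 1, 4, 1, 3, 1, 4, 0, 1, 3, 4, 1, 3, 1, 4, 3, 1, 0, 4, 1, 3, 1, 4, 1, 3,
  1, 4, 0, 1, 3, 4, 1, 0, 4, 1, 4, 3, 1, 4, 1, 3, 1, 4, 0, 1, 3, 4, 0, 1, 0]),
  ([(2, []), (140, [0, 1, 0, 4, 3, 1, 0, 4, 1, 3, 1, 4, 1, 3, 1, 4, 0, 1])], [0, 1, 4, 3, 1, 4, 3,
  1, 0, 4, 1, 3, 1, 4, 1, 3, 1, 4, 0, 1, 3, 4, 3, 1, 4, 3, 1, 0, 4, 1, 3, 1, 4, 1, 3, 1, 4, 0, 1,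
  3, 4, 1, 3, 1, 4, 3, 1, 0, 4, 1, 3, 1, 4, 1, 3, 1, 4, 0, 1, 3, 4, 3, 0, 3, 1, 0, 4, 1, 3, 1, 4,
  1, 3, 1, 4, 0, 1, 3, 4, 0, 1, 0]),
  ([(3, []), (4, []), (122, [0, 1, 0, 4, 3, 1, 0, 4, 1, 3, 1, 4, 1, 3, 1, 4, 0, 1]), (12, []), (17,
  [])], [0, 1, 0, 4, 3, 1, 0, 4, 1, 3, 1, 4, 1, 3, 4, 1, 3, 1, 0, 4, 1, 3, 1, 0, 1, 3, 1, 4, 1, 0,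
  4, 1, 3, 1, 0, 1, 3, 1, 4, 0, 1, 3, 4, 0, 1, 3, 4, 3, 1, 0, 4, 1, 3, 1, 4, 1, 3, 1, 4, 0, 1, 3,
  4, 1, 3, 4, 1, 0]),
  ([(2, []), (122, [0, 1, 0, 4, 3, 1, 0, 4, 1, 3, 1, 4, 1, 3, 1, 4, 0, 1, 3]), (122, []), (145,
  []), (115, [])], [0, 1, 4, 3, 1, 4, 3, 1, 0, 4, 1, 3, 1, 4, 1, 3, 1, 4, 0, 1, 3, 4, 3, 1, 4, 3,
  1, 0, 4, 1, 3, 1, 4, 1, 3, 1, 4, 0, 1, 3, 4, 1, 3, 1, 4, 3, 1, 0, 4, 1, 3, 1, 4, 1, 3, 1, 4, 0,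
  1, 3, 4, 3, 1, 0, 4, 3, 1, 0, 4, 1, 3, 1, 4, 1, 3, 1, 4, 0, 3, 1, 3, 0, 1, 0, 1, 0]),
  ([(151, [0, 1, 0, 4, 3, 1, 0, 4, 1, 3, 1, 4, 1, 3, 1, 4, 0, 1, 3, 4]), (111, [])], [0, 1, 0, 4,
  3, 1, 0, 4, 1, 3, 1, 4, 1, 3, 1, 4, 0, 1, 3, 4, 1, 4, 3, 1, 0, 4, 1, 3, 1, 4, 0, 1, 3, 1, 4, 0,
  1, 3, 4, 0, 1, 0]),
  ([(2, []), (118, []), (148, []), (127, []), (128, [0, 1, 0, 4, 3, 1, 0, 4, 1, 3, 1, 4, 1, 3, 1,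
  4, 0, 1, 3, 4]), (0, []), (112, [])], [0, 1, 4, 3, 1, 4, 3, 1, 0, 4, 1, 3, 1, 4, 1, 3, 1, 4, 0,
  1, 3, 4, 3, 1, 4, 3, 1, 0, 4, 1, 3, 1, 4, 1, 3, 1, 4, 0, 1, 3, 4, 1, 3, 1, 4, 3, 1, 0, 4, 1, 3,
  1, 4, 1, 3, 1, 4, 0, 1, 3, 4, 3, 1, 0, 4, 3, 1, 0, 4, 1, 3, 1, 4, 0, 1, 3, 1, 4, 0, 1, 3, 4, 1,
  0, 1, 0, 4, 3, 1, 0, 4, 1, 3, 1, 4, 1, 3, 1, 4, 0, 1, 3, 4, 0, 1, 0]),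
  ([(116, []), (150, [0, 1, 0, 4, 3, 1, 0, 4, 1, 3, 1, 4, 1, 3, 1, 4, 0, 1, 3, 4, 0, 1]), (109,
  [])], [0, 3, 0, 4, 3, 4, 0, 4, 3, 4, 3, 0]),
  ([(148, [0]), (136, [0, 2])], [0, 1, 3, 4, 3, 2, 1, 2, 3, 4, 3, 2, 1, 2, 3, 4, 3, 0]),
  ([(112, []), (131, []), (159, []), (132, [0, 1, 0, 1]), (129, [])], [0, 3, 4, 3, 4, 1, 0, 4, 1,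
  3, 1, 4, 1, 3, 1, 4, 0, 1, 3, 4, 0, 1, 0, 3, 1, 0, 4, 1, 3, 1, 0, 1, 3, 1, 4, 0, 1, 3, 4, 0, 1,
  0]),
  ([(0, []), (130, []), (155, [0, 1, 0, 1]), (125, [])], [0, 3, 4, 3, 4, 1, 0, 4, 1, 3, 1, 4, 1, 3,
  1, 4, 0, 1, 3, 4, 0, 4, 1, 0, 1, 0, 4, 3, 1, 0, 4, 1, 3, 1, 4, 1, 3, 1, 4, 0, 1, 3, 4, 0, 1, 0]),
  ([(1, []), (2, [])], [0, 1, 0, 4, 3, 1, 0, 4, 1, 3, 1, 4, 1, 3, 1, 4, 0, 1, 3, 4, 0, 1, 0, 1, 4,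
  1, 0, 3, 1, 0, 4, 1, 3, 1, 0, 1, 3, 1, 4, 0, 1, 3, 4, 0, 1, 0]),
  ([(118, []), (137, []), (165, []), (140, [0, 1, 0, 1])], [0, 3, 4, 3, 4, 1, 0, 4, 1, 3, 1, 0, 1,
  3, 1, 4, 0, 1, 3, 4, 1, 0]),
  ([(124, []), (152, [0, 1, 0, 4, 3, 1, 0, 4, 1, 3, 1, 0]), (48, [])], [0, 1, 0, 4, 3, 1, 0, 4, 1,
  3, 1, 4, 1, 3, 1, 4, 0, 1, 3, 4, 0, 1, 0, 1, 4, 1, 3, 1, 0, 4, 1, 3, 1, 2, 3, 4, 3, 2, 1, 3, 1,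
  4, 0, 1, 3, 4, 0, 1, 0, 1, 0, 1, 0, 4, 3, 1, 0, 4, 1, 3, 1, 2, 3, 4, 3, 2, 1, 3, 1, 4, 0, 1, 3,
  4, 0, 1, 0, 1, 0, 1, 0, 4, 3, 1, 0, 4, 1, 3, 1, 2, 3, 4, 2, 4, 1, 3, 1, 0, 1, 3, 1, 4, 0, 1, 3,
  4, 0, 1, 3, 4, 1, 0]),
  ([(158, [0, 1, 0, 4, 3, 1, 0, 4, 1, 3, 1, 0]), (50, []), (31, [])], [0, 1, 0, 4, 3, 1, 0, 4, 1,
  3, 1, 0, 1, 3, 1, 3, 0, 4, 1, 3, 1, 0, 1, 3, 1, 4, 0, 1, 3, 4, 1, 4, 0, 1, 3, 1, 4, 0, 1, 3, 4,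
  0, 1, 0]),
  ([(162, [0, 1, 0, 4, 3, 1, 0, 4, 1, 3, 1, 0]), (129, [])], [0, 1, 0, 4, 3, 1, 0, 4, 1, 3, 1, 0,
  1, 2, 1, 3, 4, 3, 2, 1, 3, 1, 4, 0, 1, 3, 4, 0, 1, 0, 1, 0, 1, 0, 4, 3, 1, 0, 4, 1, 3, 1, 2, 3,
  4, 3, 2, 1, 3, 1, 4, 0, 1, 3, 4, 0, 1, 0, 1, 0, 1, 0, 4, 3, 1, 0, 4, 1, 3, 1, 2, 3, 4, 3, 2, 1,
  3, 1, 4, 0, 1, 3, 1, 4, 1, 0, 1, 0, 4, 3, 1, 0, 4, 1, 3, 1, 4, 1, 3, 1, 4, 0, 1, 3, 4, 0, 1, 0]),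
  ([(152, [0, 1, 0, 4, 3, 1, 0, 4, 1, 3, 1, 0]), (131, [])], [0, 1, 0, 4, 3, 1, 0, 4, 1, 3, 1, 0,
  1, 2, 3, 4, 3, 2, 1, 2, 3, 4, 3, 2, 3, 1, 4, 0, 1, 3, 4, 0, 1, 0, 1, 0, 1, 0, 4, 3, 1, 0, 4, 1,
  3, 1, 2, 3, 4, 3, 2, 1, 3, 1, 4, 0, 1, 3, 4, 0, 1, 0, 1, 0, 1, 0, 4, 3, 1, 0, 4, 1, 3, 1, 2, 3,
  4, 3, 2, 1, 3, 1, 4, 0, 1, 3, 1, 4, 1, 0, 1, 0, 4, 3, 1, 0, 4, 1, 3, 1, 4, 1, 3, 1, 4, 0, 1, 3,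
  4, 0, 1, 0]),
  ([(57, []), (156, [0, 1, 0, 4, 3, 1, 0, 4, 1, 3, 1, 0]), (61, []), (27, [])], [0, 1, 4, 3, 1, 0,
  4, 3, 1, 0, 4, 1, 3, 1, 0, 1, 3, 1, 3, 1, 3, 1, 0, 1, 3, 1, 4, 0, 1, 3, 1, 4, 3, 1, 4, 1, 3, 1,
  4, 0, 1, 3, 4, 0, 1, 0]),
  ([(64, []), (172, [0, 1, 0, 4, 3, 1, 0, 4, 1, 3, 1, 0, 1])], [0, 1, 4, 3, 1, 4, 3, 1, 0, 4, 1, 3,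
  1, 4, 1, 3, 1, 4, 0, 1, 3, 4, 3, 1, 3, 0, 3, 1, 0, 1, 3, 1, 4, 0, 1, 3, 4, 0, 1, 0]),
  ([(160, [0, 1, 0, 4, 3, 1, 0, 4, 1, 3, 1, 0, 1]), (67, [])], [0, 1, 0, 4, 3, 1, 0, 4, 1, 3, 1, 0,
  1, 3, 4, 3, 4, 3, 4, 0, 1, 3, 4, 3, 1, 0, 4, 1, 3, 1, 4, 1, 3, 1, 4, 0, 1, 3, 4, 1, 3, 4, 1, 0]),
  ([(2, []), (180, [0, 1, 0, 4, 3, 1, 0, 4, 1, 3, 1, 0, 1, 3])], [0, 1, 4, 3, 1, 4, 3, 1, 0, 4, 1,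
  3, 1, 4, 1, 3, 1, 4, 0, 1, 3, 4, 3, 1, 3, 1, 0, 1, 0, 1, 3, 1, 0, 1, 3, 1, 4, 0, 1, 3, 4, 0, 1,
  0]),
  ([(4, []), (158, [0, 1, 0, 4, 3, 1, 0, 4, 1, 3, 1, 0, 1, 3]), (1, [])], [0, 1, 4, 3, 1, 4, 3, 1,
  0, 4, 1, 3, 1, 4, 1, 3, 1, 4, 0, 1, 3, 4, 3, 1, 3, 1, 0, 4, 3, 1, 0, 4, 1, 3, 1, 0, 1, 3, 1, 4,
  0, 1, 3, 4, 1, 0, 1, 3, 1, 3, 4, 3, 1, 0, 4, 1, 3, 1, 4, 1, 3, 1, 4, 0, 1, 3, 4, 1, 3, 4, 1, 0]),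
  ([(170, [0, 1, 0, 4, 3, 1, 0, 4, 1, 3, 1, 0, 1]), (168, [0, 1, 0, 4, 3, 1, 0, 4, 1, 3, 1, 0, 1,
  3])], [0, 1, 0, 4, 3, 1, 0, 4, 1, 3, 1, 0, 1, 2, 3, 4, 2, 4, 2, 4, 3, 1, 0, 1, 3, 1, 4, 0, 1, 3,
  4, 0, 1, 0]),
  ([(4, []), (182, [0, 1, 0, 4, 3, 1, 0, 4, 1, 3, 1, 0, 1, 3, 1]), (16, [])], [0, 1, 4, 3, 1, 4, 3,
  1, 0, 4, 1, 3, 1, 4, 1, 3, 1, 4, 0, 1, 3, 4, 3, 1, 3, 1, 0, 1, 3, 4, 1, 3, 1, 0, 1, 3, 1, 4, 0,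
  1, 3, 4, 1, 4, 0, 1, 3, 1, 4, 0, 1, 3, 4, 0, 1, 0]),
  ([(6, []), (162, [0, 1, 0, 4, 3, 1, 0, 4, 1, 3, 1, 0, 1, 3, 1])], [0, 1, 4, 3, 1, 4, 3, 1, 0, 4,
  1, 3, 1, 4, 1, 3, 1, 4, 0, 1, 3, 4, 3, 1, 3, 1, 4, 3, 1, 0, 4, 1, 3, 1, 4, 1, 3, 1, 4, 0, 1, 3,
  4, 0, 1, 0, 4, 1, 3, 1, 0, 1, 3, 1, 4, 0, 1, 3, 4, 0, 1, 0]),
  ([(6, []), (8, []), (184, [0, 1, 0, 4, 3, 1, 0, 4, 1, 3, 1, 0, 1, 3, 1])], [0, 1, 4, 3, 1, 4, 3,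
  1, 0, 4, 1, 3, 1, 4, 1, 3, 1, 4, 0, 1, 3, 4, 3, 1, 3, 1, 0, 4, 3, 1, 0, 4, 1, 3, 1, 0, 1, 3, 1,
  4, 0, 1, 3, 0, 4, 1, 3, 1, 0, 1, 3, 1, 4, 0, 1, 3, 4, 0, 1, 0]),
  ([(1, []), (8, [])], [0, 1, 0, 4, 3, 1, 0, 4, 1, 3, 1, 0, 1, 3, 1, 4, 0, 4, 1, 0, 1, 3, 1, 3, 4,
  3, 1, 0, 4, 1, 3, 1, 4, 1, 3, 1, 4, 0, 1, 3, 4, 1, 3, 4, 1, 0]),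
  ([(4, []), (194, [0, 1, 0, 4, 3, 1, 0, 4, 1, 3, 1, 0, 1, 3, 1, 4]), (183, [0, 1, 0, 4, 3, 1, 0,
  4, 1, 3, 1, 0, 1, 3, 1])], [0, 1, 4, 3, 1, 4, 3, 1, 0, 4, 1, 3, 1, 4, 1, 3, 1, 4, 0, 1, 3, 4, 3,
  1, 3, 1, 4, 3, 1, 0, 4, 1, 3, 1, 4, 1, 3, 1, 4, 0, 1, 3, 4, 1, 0, 4, 1, 4, 3, 1, 0, 1, 3, 1, 4,
  0, 1, 3, 4, 0, 1, 0]),
  ([(6, []), (192, [0, 1, 0, 4, 3, 1, 0, 4, 1, 3, 1, 0, 1, 3, 1, 4, 0, 1]), (33, [])], [0, 1, 4, 3,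
  1, 4, 3, 1, 0, 4, 1, 3, 1, 4, 1, 3, 1, 4, 0, 1, 3, 4, 3, 1, 3, 1, 4, 3, 1, 0, 4, 1, 3, 1, 4, 1,
  3, 1, 4, 0, 1, 3, 4, 3, 1, 4, 1, 0, 1, 0, 4, 3, 1, 0, 4, 1, 3, 1, 4, 1, 3, 1, 4, 0, 1, 3, 4, 0,
  1, 0]),
  ([(1, []), (8, [])], [0, 1, 0, 4, 3, 1, 0, 4, 1, 3, 1, 4, 1, 3, 1, 4, 0, 1, 3, 4, 0, 1, 0, 1, 4,
  1, 3, 0, 1, 0, 4, 1, 3, 1, 0, 1, 3, 1, 4, 0, 1, 3, 4, 0, 1, 0]),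
  ([(5, []), (2, [])], [0, 1, 0, 4, 3, 1, 0, 4, 1, 3, 1, 0, 1, 3, 4, 1, 4, 0, 1, 3, 1, 4, 1, 0, 1,
  0, 4, 3, 1, 0, 4, 1, 3, 1, 4, 1, 3, 1, 4, 0, 1, 3, 4, 0, 1, 0]),
  ([(1, []), (190, [0, 1, 0, 4, 3, 1, 0, 4, 1, 3, 1, 0, 1, 3, 1])], [0, 1, 0, 4, 3, 1, 0, 4, 1, 3,
  1, 4, 1, 3, 1, 4, 0, 1, 3, 4, 0, 1, 0, 1, 4, 1, 3, 1, 0, 1, 4, 1, 3, 1, 0, 1, 3, 1, 4, 0, 1, 3,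
  4, 0, 1, 0]),
  ([(3, []), (19, [])], [0, 1, 0, 4, 3, 1, 0, 4, 1, 3, 1, 4, 1, 3, 1, 4, 0, 1, 3, 4, 0, 1, 0, 1, 4,
  1, 3, 1, 0, 4, 1, 2, 4, 2, 4, 3, 2, 1, 0, 1, 3, 1, 4, 0, 1, 3, 4, 0, 1, 0]),
  ([(5, []), (26, [])], [0, 1, 0, 4, 3, 1, 0, 4, 1, 3, 1, 4, 1, 3, 1, 4, 0, 1, 3, 4, 0, 1, 0, 1, 4,
  1, 3, 1, 0, 4, 1, 3, 4, 3, 4, 0, 1, 3, 4, 3, 1, 0, 4, 1, 3, 1, 4, 1, 3, 1, 4, 0, 1, 3, 4, 1, 3,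
  4, 1, 0]),
  ([(6, []), (8, []), (184, [0, 1, 0, 4, 3, 1, 0, 4, 1, 3, 1, 0, 1, 3, 1, 4, 0, 1]), (38, []), (70,
  [])], [0, 1, 0, 4, 3, 1, 0, 4, 1, 3, 1, 0, 1, 3, 4, 1, 3, 1, 0, 4, 1, 3, 1, 0, 1, 3, 1, 4, 0, 4,
  1, 3, 1, 0, 1, 3, 1, 4, 0, 1, 3, 4, 0, 1, 3, 4, 1, 0]),
  ([(110, []), (116, []), (123, []), (188, [0, 1, 4, 3]), (128, []), (121, [])], [0, 1, 0, 4, 3, 1,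
  0, 4, 1, 3, 1, 4, 1, 3, 1, 4, 0, 1, 3, 4, 0, 1, 0, 1, 4, 1, 3, 1, 0, 4, 1, 3, 1, 4, 1, 3, 1, 4,
  0, 1, 3, 4, 0, 3, 1, 4, 3, 4, 1, 0, 4, 1, 3, 1, 2, 3, 4, 3, 2, 1, 3, 1, 4, 0, 1, 3, 4, 0, 1, 0,
  1, 0, 1, 0, 4, 3, 1, 0, 4, 1, 3, 1, 2, 3, 4, 3, 2, 1, 3, 1, 4, 0, 1, 3, 4, 0, 1, 0, 1, 0, 1, 0,
  4, 3, 1, 0, 4, 1, 3, 1, 2, 3, 4, 3, 2, 0, 1, 3, 1, 4, 0, 1, 3, 4, 0, 1, 3, 4, 1, 0]),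
  ([(104, []), (198, [0, 1, 4, 3, 1, 0, 4, 1])], [0, 1, 0, 4, 3, 1, 0, 4, 1, 2, 4, 2, 4, 3, 2, 3,
  1, 4, 0, 1, 3, 4, 1, 0]),
  ([(206, [0, 1, 4, 3, 1, 0, 4, 1, 3]), (1, [])], [0, 1, 4, 3, 1, 0, 4, 1, 3, 1, 2, 1, 3, 4, 2, 4,
  2, 1, 4, 0, 1, 3, 4, 0, 1, 0]),
  ([(50, []), (212, [0, 1, 4, 3, 1, 0, 4, 1, 3, 1]), (206, [0, 1, 4, 3, 1, 0, 4])], [0, 3, 4, 3, 4,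
  1, 0, 4, 1, 3, 1, 3, 0, 1, 3, 4, 0, 1, 3, 4, 1, 0]),
  ([(52, []), (216, [0, 1, 4, 3, 1, 0, 4, 1, 3, 1])], [0, 3, 4, 3, 4, 1, 0, 4, 1, 3, 1, 2, 0, 2, 1,
  3, 1, 4, 0, 1, 3, 4, 1, 0]),
  ([(206, [0, 1, 4, 3, 1, 0, 4, 1, 3, 1]), (210, [0, 1, 4, 3, 1, 0, 4])], [0, 1, 4, 3, 1, 0, 4, 1,
  3, 1, 2, 3, 2, 1, 3, 4, 0, 1, 3, 4, 1, 0]),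
  ([(2, []), (218, [0, 1, 4, 3, 1, 0, 4, 1, 3, 1, 2])], [0, 3, 4, 3, 4, 1, 0, 4, 1, 3, 1, 2, 3, 0,
  3, 2, 1, 3, 1, 4, 0, 1, 3, 4, 1, 0]),
  ([(121, []), (193, []), (108, []), (210, [0, 1, 0, 4, 3, 1, 0, 4, 1]), (122, []), (11, []), (9,
  []), (204, [0, 1, 4, 3, 1, 0, 4, 1, 3, 1, 2]), (214, [0, 1, 4, 3, 1, 0, 4])], [0, 1, 4, 3, 1, 0,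
  4, 3, 1, 0, 4, 1, 3, 1, 0, 1, 3, 1, 4, 0, 4, 3, 2, 1, 2, 3, 4, 1, 3, 4, 0, 1, 3, 4, 1, 0])]

/-- derivation xu, part 2 -/
def xu2 : List (List (ℕ × List ℕ) × List ℕ) := [
  ([(2, []), (200, [0, 1, 4, 3, 1, 0, 4, 1, 3, 1, 2, 3])], [0, 3, 4, 3, 4, 1, 0, 4, 1, 3, 1, 2, 3,
  1, 0, 4, 3, 1, 0, 4, 1, 3, 1, 4, 1, 3, 1, 4, 0, 1, 3, 4, 0, 1, 0, 4, 3, 2, 1, 3, 1, 4, 0, 1, 3,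
  4, 1, 0]),
  ([(0, []), (223, [0, 1, 4, 3, 1, 0, 4, 1, 3, 1, 2, 3]), (5, [])], [0, 3, 4, 3, 4, 1, 0, 4, 1, 3,
  1, 2, 3, 1, 0, 4, 3, 1, 0, 4, 1, 3, 1, 4, 1, 3, 1, 4, 0, 1, 3, 4, 0, 1, 4, 3, 2, 1, 3, 1, 4, 0,
  1, 4, 3, 4, 3, 0]),
  ([(1, []), (2, [])], [0, 3, 4, 3, 4, 1, 0, 4, 1, 3, 1, 2, 3, 4, 0, 4, 3, 2, 1, 3, 1, 4, 0, 1, 3,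
  4, 1, 0]),
  ([(11, []), (216, [0, 1, 4, 3, 1, 0, 4, 1, 3, 1, 2, 3])], [0, 1, 4, 3, 1, 0, 4, 3, 1, 4, 2, 4, 2,
  4, 3, 2, 1, 3, 1, 4, 0, 1, 3, 4, 1, 0]),
  ([(2, []), (230, [0, 1, 4, 3, 1, 0, 4, 1, 3, 1, 2, 3, 4])], [0, 3, 4, 3, 4, 1, 0, 4, 1, 3, 1, 2,
  3, 4, 3, 0, 3, 4, 3, 2, 1, 3, 1, 4, 0, 1, 3, 4, 1, 0]),
  ([(4, []), (234, [0, 1, 4, 3, 1, 0, 4, 1, 3, 1, 2, 3, 4]), (3, [])], [0, 3, 4, 3, 4, 1, 0, 4, 1,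
  3, 1, 2, 3, 4, 2, 0, 4, 2, 4, 1, 3, 4, 0, 1, 3, 4, 1, 0]),
  ([(4, []), (224, [0, 1, 4, 3, 1, 0, 4, 1, 3, 1, 2, 3, 4])], [0, 1, 4, 3, 1, 0, 4, 3, 1, 4, 2, 4,
  3, 2, 3, 4, 3, 2, 1, 3, 1, 4, 0, 1, 3, 4, 1, 0]),
  ([(232, [0, 1, 4, 3, 1, 0, 4, 1, 3, 1, 2, 3, 4]), (7, [])], [0, 1, 4, 3, 1, 0, 4, 1, 3, 1, 2, 3,
  4, 1, 2, 1, 4, 2, 4, 1, 3, 4, 0, 1, 3, 4, 1, 0]),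
  ([(6, []), (240, [0, 1, 4, 3, 1, 0, 4, 1, 3, 1, 2, 3, 4, 3])], [0, 3, 4, 3, 4, 1, 0, 4, 1, 3, 1,
  2, 3, 4, 3, 2, 0, 2, 3, 4, 3, 2, 1, 3, 1, 4, 0, 1, 3, 4, 1, 0]),
  ([(0, []), (244, [0, 1, 4, 3, 1, 0, 4, 1, 3, 1, 2, 3, 4, 3, 2])], [0, 3, 4, 3, 4, 1, 0, 4, 1, 3,
  1, 2, 3, 4, 3, 2, 1, 0, 1, 0, 1, 2, 3, 4, 3, 2, 1, 3, 1, 4, 0, 1, 3, 4, 1, 0]),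
  ([(4, []), (6, []), (237, [0, 1, 4, 3, 1, 0, 4, 1, 3, 1, 2, 3, 4, 3, 2])], [0, 1, 4, 3, 1, 0, 4,
  1, 3, 1, 2, 3, 4, 1, 2, 3, 1, 3, 1, 2, 3, 4, 3, 2, 1, 3, 1, 4, 0, 1, 3, 4, 1, 0]),
  ([(2, []), (244, [0, 1, 4, 3, 1, 0, 4, 1, 3, 1, 2, 3, 4, 3, 2, 1])], [0, 3, 4, 3, 4, 1, 0, 4, 1,
  3, 1, 2, 3, 4, 3, 2, 1, 0, 1, 3, 0, 3, 1, 2, 3, 4, 3, 2, 1, 3, 1, 4, 0, 1, 3, 4, 1, 0]),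
  ([(0, []), (250, [0, 1, 4, 3, 1, 0, 4, 1, 3, 1, 2, 3, 4, 3, 2, 1, 3])], [0, 3, 4, 3, 4, 1, 0, 4,
  1, 3, 1, 2, 3, 4, 3, 2, 1, 0, 1, 3, 1, 0, 1, 0, 1, 3, 1, 2, 3, 4, 3, 2, 1, 3, 1, 4, 0, 1, 3, 4,
  1, 0]),
  ([(0, []), (226, [0, 1, 4, 3, 1, 0, 4, 1, 3, 1, 2, 3, 4, 3, 2, 1, 3, 1])], [0, 3, 4, 3, 4, 1, 0,
  4, 1, 3, 1, 2, 3, 4, 3, 2, 1, 0, 1, 3, 1, 4, 3, 1, 0, 4, 1, 3, 1, 4, 1, 3, 1, 4, 0, 1, 3, 4, 0,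
  1, 0, 4, 1, 3, 1, 2, 3, 4, 3, 2, 1, 3, 1, 4, 0, 1, 3, 4, 1, 0]),
  ([(0, []), (254, [0, 1, 4, 3, 1, 0, 4, 1, 3, 1, 2, 3, 4, 3, 2, 1, 3, 1, 4]), (243, [0, 1, 4, 3,
  1, 0, 4, 1, 3, 1, 2, 3, 4, 3, 2, 1, 3, 1])], [0, 3, 4, 3, 4, 1, 0, 4, 1, 3, 1, 2, 3, 4, 3, 2, 1,
  0, 1, 3, 1, 4, 3, 1, 0, 4, 1, 3, 1, 4, 1, 3, 1, 4, 0, 1, 3, 4, 1, 0, 4, 1, 4, 3, 1, 2, 3, 4, 3,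
  2, 1, 3, 1, 4, 0, 1, 3, 4, 1, 0]),
  ([(2, []), (252, [0, 1, 4, 3, 1, 0, 4, 1, 3, 1, 2, 3, 4, 3, 2, 1, 3, 1, 4, 0, 1])], [0, 3, 4, 3,
  4, 1, 0, 4, 1, 3, 1, 2, 3, 4, 3, 2, 1, 0, 1, 3, 1, 4, 3, 1, 0, 4, 1, 3, 1, 4, 1, 3, 1, 4, 0, 1,
  3, 4, 3, 0, 3, 1, 0, 4, 1, 3, 1, 2, 3, 4, 3, 2, 1, 3, 1, 4, 0, 1, 3, 4, 1, 0]),
  ([(3, []), (4, []), (234, [0, 1, 4, 3, 1, 0, 4, 1, 3, 1, 2, 3, 4, 3, 2, 1, 3, 1, 4, 0, 1]), (11,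
  []), (16, []), (21, [])], [0, 1, 4, 3, 1, 0, 4, 1, 3, 1, 2, 3, 4, 3, 2, 1, 3, 4, 1, 3, 1, 0, 4,
  1, 3, 1, 0, 1, 3, 1, 4, 2, 4, 3, 2, 1, 3, 1, 4, 0, 1, 4, 3, 4, 3, 0]),
  ([(2, []), (254, [0, 1, 4, 3, 1, 0, 4, 1, 3, 1, 2, 3, 4, 3, 2, 1, 3, 1, 4, 0, 1, 3])], [0, 3, 4,
  3, 4, 1, 0, 4, 1, 3, 1, 2, 3, 4, 3, 2, 1, 0, 1, 3, 1, 4, 3, 1, 0, 4, 1, 3, 1, 4, 1, 3, 1, 4, 0,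
  1, 3, 4, 3, 4, 0, 4, 3, 1, 0, 4, 1, 3, 1, 2, 3, 4, 3, 2, 1, 3, 1, 4, 0, 1, 3, 4, 1, 0]),
  ([(0, []), (263, [0, 1, 4, 3, 1, 0, 4, 1, 3, 1, 2, 3, 4, 3, 2, 1, 3, 1, 4, 0, 1, 3, 4])], [0, 3,
  4, 3, 4, 1, 0, 4, 1, 3, 1, 2, 3, 4, 3, 2, 1, 0, 1, 3, 1, 4, 3, 1, 0, 4, 1, 3, 1, 4, 1, 3, 1, 4,
  0, 1, 3, 4, 3, 4, 0, 1, 0, 1, 0, 1, 0, 4, 3, 1, 0, 4, 1, 3, 1, 2, 3, 4, 3, 2, 1, 3, 1, 4, 0, 1,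
  3, 4, 1, 0]),
  ([(1, []), (2, [])], [0, 1, 4, 3, 1, 0, 4, 1, 3, 1, 2, 3, 4, 3, 2, 1, 3, 1, 4, 0, 1, 3, 4, 0, 1,
  0, 1, 0, 1, 4, 3, 1, 0, 4, 1, 3, 1, 2, 3, 4, 3, 2, 1, 3, 1, 4, 0, 1, 3, 4, 1, 0]),
  ([(11, []), (2, [])], [0, 1, 4, 3, 1, 0, 4, 1, 3, 1, 2, 3, 4, 3, 2, 1, 3, 4, 1, 4, 0, 1, 3, 4, 0,
  1, 0, 1, 0, 1, 0, 4, 3, 1, 0, 4, 1, 3, 1, 2, 3, 4, 3, 2, 1, 3, 1, 4, 0, 1, 3, 4, 1, 0]),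
  ([(1, []), (256, [0, 1, 4, 3, 1, 0, 4, 1, 3, 1, 2, 3, 4, 3, 2, 1, 3, 1])], [0, 1, 4, 3, 1, 0, 4,
  1, 3, 1, 2, 3, 4, 3, 2, 1, 3, 1, 4, 0, 1, 3, 4, 0, 1, 0, 1, 0, 1, 0, 4, 3, 1, 0, 1, 4, 1, 3, 1,
  2, 3, 4, 3, 2, 1, 3, 1, 4, 0, 1, 3, 4, 1, 0]),
  ([(4, []), (271, [0, 1, 4, 3, 1, 0, 4, 1, 3, 1, 2, 3, 4, 3, 2, 1, 3, 1, 4, 0, 1, 3, 4]), (246,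
  [0, 1, 4, 3, 1, 0, 4, 1, 3, 1, 2, 3, 4, 3, 2, 1, 3, 1, 4, 0, 1, 3, 4, 0, 1, 0, 1])], [0, 1, 4, 3,
  1, 0, 4, 1, 3, 1, 2, 3, 4, 3, 2, 1, 3, 1, 4, 0, 1, 3, 4, 0, 1, 0, 1, 0, 1, 0, 4, 3, 1, 0, 4, 1,
  3, 1, 0, 1, 3, 1, 4, 0, 1, 3, 4, 1, 0, 4, 3, 1, 0, 4, 1, 3, 1, 2, 3, 4, 3, 2, 1, 3, 1, 4, 0, 1,
  3, 4, 1, 0]),
  ([(262, [0, 1, 4, 3, 1, 0, 4, 1, 3, 1, 2, 3, 4, 3, 2, 1, 3, 1, 4, 0, 1, 3, 4, 0, 1, 0, 1, 0, 1,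
  0, 4, 3, 1, 0, 4]), (5, [])], [0, 1, 4, 3, 1, 0, 4, 1, 3, 1, 2, 3, 4, 3, 2, 1, 3, 1, 4, 0, 1, 3,
  4, 0, 1, 0, 1, 0, 1, 0, 4, 3, 1, 0, 4, 1, 3, 1, 3, 1, 3, 1, 4, 3, 1, 2, 3, 4, 3, 2, 1, 3, 1, 4,
  0, 1, 3, 4, 1, 0]),
  ([(6, []), (267, [0, 1, 4, 3, 1, 0, 4, 1, 3, 1, 2, 3, 4, 3, 2, 1, 3, 1, 4, 0, 1, 3, 4, 0, 1, 0,
  1, 0, 1, 0, 4, 3, 1, 0, 4, 1, 3])], [0, 1, 4, 3, 1, 0, 4, 1, 3, 1, 2, 3, 4, 3, 2, 1, 3, 4, 3, 2,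
  1, 2, 1, 3, 1, 4, 0, 1, 3, 4, 0, 1, 0, 1, 0, 1, 0, 4, 3, 1, 0, 4, 1, 3, 1, 2, 3, 4, 3, 2, 1, 3,
  1, 4, 0, 1, 3, 4, 1, 0]),
  ([(3, []), (1, [])], [0, 1, 4, 3, 1, 0, 4, 1, 3, 1, 2, 3, 4, 3, 2, 1, 3, 4, 1, 3, 1, 3, 2, 1, 2,
  3, 4, 3, 1, 2, 3, 4, 3, 2, 1, 3, 1, 4, 0, 1, 3, 4, 1, 0]),
  ([(1, []), (5, [])], [0, 1, 4, 3, 1, 0, 4, 1, 3, 1, 2, 3, 4, 3, 2, 1, 3, 4, 3, 2, 1, 2, 1, 3, 1,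
  4, 0, 1, 3, 4, 0, 1, 0, 1, 0, 1, 0, 4, 3, 1, 0, 4, 1, 3, 1, 2, 3, 4, 3, 2, 1, 3, 1, 4, 0, 1, 3,
  4, 1, 0]),
  ([(9, []), (278, [0, 1, 4, 3, 1, 0, 4, 1, 3, 1, 2, 3, 4, 3, 2, 1, 3, 1, 4, 0, 1, 3, 4, 0, 1, 0,
  1, 0, 1, 0, 4, 3, 1, 0, 4, 1, 3, 1])], [0, 1, 4, 3, 1, 0, 4, 1, 3, 1, 2, 3, 4, 3, 2, 1, 3, 1, 4,
  0, 1, 3, 4, 0, 1, 4, 3, 1, 0, 4, 1, 3, 1, 2, 0, 2, 1, 3, 1, 4, 0, 1, 3, 4, 0, 1, 0, 1, 0, 1, 0,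
  4, 3, 1, 0, 4, 1, 3, 1, 2, 3, 4, 3, 2, 1, 3, 1, 4, 0, 1, 3, 4, 1, 0]),
  ([(268, [0, 1, 4, 3, 1, 0, 4, 1, 3, 1, 2, 3, 4, 3, 2, 1, 3, 1, 4, 0, 1, 3, 4, 0, 1, 0, 1, 0, 1,
  0, 4, 3, 1, 0, 4, 1, 3, 1]), (3, [])], [0, 1, 4, 3, 1, 0, 4, 1, 3, 1, 2, 3, 4, 3, 2, 1, 3, 1, 4,
  0, 1, 3, 4, 0, 1, 0, 1, 0, 1, 0, 4, 3, 1, 0, 4, 1, 3, 1, 2, 3, 2, 3, 2, 1, 2, 3, 4, 3, 1, 2, 3,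
  4, 3, 2, 1, 3, 1, 4, 0, 1, 3, 4, 1, 0]),
  ([(2, []), (280, [0, 1, 4, 3, 1, 0, 4, 1, 3, 1, 2, 3, 4, 3, 2, 1, 3, 1, 4, 0, 1, 3, 4, 0, 1, 0,
  1, 0, 1, 0, 4, 3, 1, 0, 4, 1, 3, 1, 2])], [0, 1, 4, 3, 1, 0, 4, 1, 3, 1, 2, 3, 4, 3, 2, 1, 3, 1,
  4, 0, 1, 3, 4, 0, 1, 4, 3, 1, 0, 4, 1, 3, 1, 2, 3, 0, 3, 2, 1, 3, 1, 4, 0, 1, 3, 4, 0, 1, 0, 1,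
  0, 1, 0, 4, 3, 1, 0, 4, 1, 3, 1, 2, 3, 4, 3, 2, 1, 3, 1, 4, 0, 1, 3, 4, 1, 0]),
  ([(0, []), (260, [0, 1, 4, 3, 1, 0, 4, 1, 3, 1, 2, 3, 4, 3, 2, 1, 3, 1, 4, 0, 1, 3, 4, 0, 1, 0,
  1, 0, 1, 0, 4, 3, 1, 0, 4, 1, 3, 1, 2, 3])], [0, 1, 4, 3, 1, 0, 4, 1, 3, 1, 2, 3, 4, 3, 2, 1, 3,
  1, 4, 0, 1, 3, 4, 0, 1, 4, 3, 1, 0, 4, 1, 3, 1, 2, 3, 1, 0, 4, 3, 1, 0, 4, 1, 3, 1, 4, 1, 3, 1,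
  4, 0, 1, 3, 4, 0, 1, 0, 4, 3, 2, 1, 3, 1, 4, 0, 1, 3, 4, 0, 1, 0, 1, 0, 1, 0, 4, 3, 1, 0, 4, 1,
  3, 1, 2, 3, 4, 3, 2, 1, 3, 1, 4, 0, 1, 3, 4, 1, 0]),
  ([(0, []), (283, [0, 1, 4, 3, 1, 0, 4, 1, 3, 1, 2, 3, 4, 3, 2, 1, 3, 1, 4, 0, 1, 3, 4, 0, 1, 0,
  1, 0, 1, 0, 4, 3, 1, 0, 4, 1, 3, 1, 2, 3]), (3, [])], [0, 1, 4, 3, 1, 0, 4, 1, 3, 1, 2, 3, 4, 3,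
  2, 1, 3, 1, 4, 0, 1, 3, 4, 0, 1, 4, 3, 1, 0, 4, 1, 3, 1, 2, 3, 1, 0, 4, 3, 1, 0, 4, 1, 3, 1, 4,
  1, 3, 1, 4, 0, 1, 3, 4, 0, 1, 4, 3, 2, 1, 3, 1, 4, 0, 1, 3, 4, 1, 0, 4, 3, 1, 0, 4, 1, 3, 1, 2,
  3, 4, 3, 2, 1, 3, 1, 4, 0, 1, 3, 4, 1, 0]),
  ([(1, []), (2, [])], [0, 1, 4, 3, 1, 0, 4, 1, 3, 1, 2, 3, 4, 3, 2, 1, 3, 1, 4, 0, 1, 3, 4, 0, 1,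
  4, 3, 1, 0, 4, 1, 3, 1, 2, 3, 4, 0, 4, 3, 2, 1, 3, 1, 4, 0, 1, 3, 4, 0, 1, 0, 1, 0, 1, 0, 4, 3,
  1, 0, 4, 1, 3, 1, 2, 3, 4, 3, 2, 1, 3, 1, 4, 0, 1, 3, 4, 1, 0]),
  ([(9, []), (276, [0, 1, 4, 3, 1, 0, 4, 1, 3, 1, 2, 3, 4, 3, 2, 1, 3, 1, 4, 0, 1, 3, 4, 0, 1, 0,
  1, 0, 1, 0, 4, 3, 1, 0, 4, 1, 3, 1, 2, 3])], [0, 1, 4, 3, 1, 0, 4, 1, 3, 1, 2, 3, 4, 3, 2, 1, 3,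
  4, 3, 2, 1, 2, 3, 4, 2, 4, 2, 4, 3, 2, 1, 3, 1, 4, 0, 1, 3, 4, 0, 1, 0, 1, 0, 1, 0, 4, 3, 1, 0,
  4, 1, 3, 1, 2, 3, 4, 3, 2, 1, 3, 1, 4, 0, 1, 3, 4, 1, 0]),
  ([(2, []), (290, [0, 1, 4, 3, 1, 0, 4, 1, 3, 1, 2, 3, 4, 3, 2, 1, 3, 1, 4, 0, 1, 3, 4, 0, 1, 0,
  1, 0, 1, 0, 4, 3, 1, 0, 4, 1, 3, 1, 2, 3, 4])], [0, 1, 4, 3, 1, 0, 4, 1, 3, 1, 2, 3, 4, 3, 2, 1,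
  3, 1, 4, 0, 1, 3, 4, 0, 1, 4, 3, 1, 0, 4, 1, 3, 1, 2, 3, 4, 3, 0, 3, 4, 3, 2, 1, 3, 1, 4, 0, 1,
  3, 4, 0, 1, 0, 1, 0, 1, 0, 4, 3, 1, 0, 4, 1, 3, 1, 2, 3, 4, 3, 2, 1, 3, 1, 4, 0, 1, 3, 4, 1, 0]),
  ([(4, []), (294, [0, 1, 4, 3, 1, 0, 4, 1, 3, 1, 2, 3, 4, 3, 2, 1, 3, 1, 4, 0, 1, 3, 4, 0, 1, 0,
  1, 0, 1, 0, 4, 3, 1, 0, 4, 1, 3, 1, 2, 3, 4]), (3, [])], [0, 1, 4, 3, 1, 0, 4, 1, 3, 1, 2, 3, 4,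
  3, 2, 1, 3, 1, 4, 0, 1, 3, 4, 0, 1, 4, 3, 1, 0, 4, 1, 3, 1, 2, 3, 4, 2, 0, 4, 2, 4, 3, 2, 1, 2,
  3, 4, 3, 1, 2, 3, 4, 3, 2, 1, 3, 1, 4, 0, 1, 3, 4, 1, 0]),
  ([(4, []), (284, [0, 1, 4, 3, 1, 0, 4, 1, 3, 1, 2, 3, 4, 3, 2, 1, 3, 1, 4, 0, 1, 3, 4, 0, 1, 0,
  1, 0, 1, 0, 4, 3, 1, 0, 4, 1, 3, 1, 2, 3, 4])], [0, 1, 4, 3, 1, 0, 4, 1, 3, 1, 2, 3, 4, 3, 2, 1,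
  3, 4, 3, 2, 1, 2, 3, 4, 2, 4, 3, 2, 3, 4, 3, 2, 1, 3, 1, 4, 0, 1, 3, 4, 0, 1, 0, 1, 0, 1, 0, 4,
  3, 1, 0, 4, 1, 3, 1, 2, 3, 4, 3, 2, 1, 3, 1, 4, 0, 1, 3, 4, 1, 0]),
  ([(292, [0, 1, 4, 3, 1, 0, 4, 1, 3, 1, 2, 3, 4, 3, 2, 1, 3, 1, 4, 0, 1, 3, 4, 0, 1, 0, 1, 0, 1,
  0, 4, 3, 1, 0, 4, 1, 3, 1, 2, 3, 4]), (7, [])], [0, 1, 4, 3, 1, 0, 4, 1, 3, 1, 2, 3, 4, 3, 2, 1,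
  3, 1, 4, 0, 1, 3, 4, 0, 1, 0, 1, 0, 1, 0, 4, 3, 1, 0, 4, 1, 3, 1, 2, 3, 4, 1, 2, 1, 4, 2, 4, 3,
  2, 1, 2, 3, 4, 3, 1, 2, 3, 4, 3, 2, 1, 3, 1, 4, 0, 1, 3, 4, 1, 0]),
  ([(6, []), (300, [0, 1, 4, 3, 1, 0, 4, 1, 3, 1, 2, 3, 4, 3, 2, 1, 3, 1, 4, 0, 1, 3, 4, 0, 1, 0,
  1, 0, 1, 0, 4, 3, 1, 0, 4, 1, 3, 1, 2, 3, 4, 3])], [0, 1, 4, 3, 1, 0, 4, 1, 3, 1, 2, 3, 4, 3, 2,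
  1, 3, 1, 4, 0, 1, 3, 4, 0, 1, 4, 3, 1, 0, 4, 1, 3, 1, 2, 3, 4, 3, 2, 0, 2, 3, 4, 3, 2, 1, 3, 1,
  4, 0, 1, 3, 4, 0, 1, 0, 1, 0, 1, 0, 4, 3, 1, 0, 4, 1, 3, 1, 2, 3, 4, 3, 2, 1, 3, 1, 4, 0, 1, 3,
  4, 1, 0]),
  ([(294, [0, 1, 4, 3, 1, 0, 4, 1, 3, 1, 2, 3, 4, 3, 2, 1, 3, 1, 4, 0, 1, 3, 4, 0, 1, 0, 1, 0, 1,
  0, 4, 3, 1, 0, 4, 1, 3, 1, 2, 3, 4]), (296, [0, 1, 4, 3, 1, 0, 4, 1, 3, 1, 2, 3, 4, 3, 2, 1, 3,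
  1, 4, 0, 1, 3, 4, 0, 1, 0, 1, 0, 1, 0, 4, 3, 1, 0, 4, 1, 3, 1, 2, 3, 4, 3])], [0, 1, 4, 3, 1, 0,
  4, 1, 3, 1, 2, 3, 4, 3, 2, 1, 3, 1, 4, 0, 1, 3, 4, 0, 1, 0, 1, 0, 1, 0, 4, 3, 1, 0, 4, 1, 3, 1,
  2, 3, 4, 1, 3, 1, 3, 2, 1, 2, 3, 4, 3, 2, 1, 3, 1, 4, 0, 1, 3, 4, 0, 1, 0, 1, 0, 1, 0, 4, 3, 1,
  0, 4, 1, 3, 1, 2, 3, 4, 3, 2, 1, 3, 1, 4, 0, 1, 3, 4, 1, 0]),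
  ([(1, []), (296, [0, 1, 4, 3, 1, 0, 4, 1, 3, 1, 2, 3, 4, 3, 2, 1, 3, 1, 4, 0, 1, 3, 4, 0, 1, 0,
  1, 0, 1, 0, 4, 3, 1, 0, 4, 1, 3, 1, 2, 3, 4])], [0, 1, 4, 3, 1, 0, 4, 1, 3, 1, 2, 3, 4, 3, 2, 1,
  3, 1, 4, 0, 1, 3, 4, 0, 1, 0, 1, 0, 1, 0, 4, 3, 1, 0, 4, 1, 3, 1, 2, 3, 4, 3, 2, 1, 2, 1, 3, 4,
  3, 2, 1, 3, 1, 4, 0, 1, 3, 4, 0, 1, 0, 1, 0, 1, 0, 4, 3, 1, 0, 4, 1, 3, 1, 2, 3, 4, 3, 2, 1, 3,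
  1, 4, 0, 1, 3, 4, 1, 0]),
  ([(0, []), (288, [0, 1, 4, 3, 1, 0, 4, 1, 3, 1, 2, 3, 4, 3, 2, 1, 3, 1, 4, 0, 1, 3, 4, 0, 1, 0,
  1, 0, 1, 0, 4, 3, 1, 0, 4, 1, 3, 1, 2, 3, 4, 3]), (9, [])], [0, 1, 4, 3, 1, 0, 4, 1, 3, 1, 2, 3,
  4, 3, 2, 1, 3, 1, 4, 0, 1, 3, 4, 0, 1, 0, 1, 0, 1, 0, 4, 3, 1, 0, 4, 1, 3, 1, 2, 3, 4, 3, 2, 1,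
  3, 4, 3, 2, 1, 2, 3, 4, 3, 2, 1, 2, 3, 2, 4, 3, 2, 1, 2, 3, 4, 3, 1, 2, 3, 4, 3, 2, 1, 3, 1, 4,
  0, 1, 3, 4, 1, 0]),
  ([(6, []), (306, [0, 1, 4, 3, 1, 0, 4, 1, 3, 1, 2, 3, 4, 3, 2, 1, 3, 1, 4, 0, 1, 3, 4, 0, 1, 0,
  1, 0, 1, 0, 4, 3, 1, 0, 4, 1, 3, 1, 2, 3, 4, 3, 2]), (11, []), (13, [])], [0, 1, 4, 3, 1, 0, 4,
  1, 3, 1, 2, 3, 4, 3, 2, 1, 3, 1, 4, 0, 1, 3, 4, 0, 1, 4, 3, 1, 0, 4, 1, 3, 1, 2, 3, 4, 3, 2, 3,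
  2, 4, 3, 2, 1, 3, 1, 4, 0, 1, 3, 4, 1, 0, 4, 3, 1, 0, 4, 1, 3, 1, 2, 3, 4, 3, 2, 1, 3, 1, 4, 0,
  1, 3, 4, 1, 0]),
  ([(8, []), (312, [0, 1, 4, 3, 1, 0, 4, 1, 3, 1, 2, 3, 4, 3, 2, 1, 3, 1, 4, 0, 1, 3, 4, 0, 1, 0,
  1, 0, 1, 0, 4, 3, 1, 0, 4, 1, 3, 1, 2, 3, 4, 3, 2])], [0, 1, 4, 3, 1, 0, 4, 1, 3, 1, 2, 3, 4, 3,
  2, 1, 3, 1, 4, 0, 1, 3, 4, 0, 1, 4, 3, 1, 0, 4, 1, 3, 1, 2, 3, 4, 3, 2, 1, 0, 1, 0, 1, 2, 3, 4,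
  3, 2, 1, 3, 1, 4, 0, 1, 3, 4, 0, 1, 0, 1, 0, 1, 0, 4, 3, 1, 0, 4, 1, 3, 1, 2, 3, 4, 3, 2, 1, 3,
  1, 4, 0, 1, 3, 4, 1, 0]),
  ([(12, []), (14, []), (305, [0, 1, 4, 3, 1, 0, 4, 1, 3, 1, 2, 3, 4, 3, 2, 1, 3, 1, 4, 0, 1, 3, 4,
  0, 1, 0, 1, 0, 1, 0, 4, 3, 1, 0, 4, 1, 3, 1, 2, 3, 4, 3, 2])], [0, 1, 4, 3, 1, 0, 4, 1, 3, 1, 2,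
  3, 4, 3, 2, 1, 3, 1, 4, 0, 1, 3, 4, 0, 1, 0, 1, 0, 1, 0, 4, 3, 1, 0, 4, 1, 3, 1, 2, 3, 4, 1, 2,
  3, 1, 3, 1, 2, 3, 4, 3, 2, 1, 3, 1, 4, 0, 1, 3, 4, 0, 1, 0, 1, 0, 1, 0, 4, 3, 1, 0, 4, 1, 3, 1,
  2, 3, 4, 3, 2, 1, 3, 1, 4, 0, 1, 3, 4, 1, 0]),
  ([(2, []), (312, [0, 1, 4, 3, 1, 0, 4, 1, 3, 1, 2, 3, 4, 3, 2, 1, 3, 1, 4, 0, 1, 3, 4, 0, 1, 0,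
  1, 0, 1, 0, 4, 3, 1, 0, 4, 1, 3, 1, 2, 3, 4, 3, 2, 1])], [0, 1, 4, 3, 1, 0, 4, 1, 3, 1, 2, 3, 4,
  3, 2, 1, 3, 1, 4, 0, 1, 3, 4, 0, 1, 4, 3, 1, 0, 4, 1, 3, 1, 2, 3, 4, 3, 2, 1, 0, 1, 3, 0, 3, 1,
  2, 3, 4, 3, 2, 1, 3, 1, 4, 0, 1, 3, 4, 0, 1, 0, 1, 0, 1, 0, 4, 3, 1, 0, 4, 1, 3, 1, 2, 3, 4, 3,
  2, 1, 3, 1, 4, 0, 1, 3, 4, 1, 0]),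
  ([(0, []), (292, [0, 1, 4, 3, 1, 0, 4, 1, 3, 1, 2, 3, 4, 3, 2, 1, 3, 1, 4, 0, 1, 3, 4, 0, 1, 0,
  1, 0, 1, 0, 4, 3, 1, 0, 4, 1, 3, 1, 2, 3, 4, 3, 2, 1, 3])], [0, 1, 4, 3, 1, 0, 4, 1, 3, 1, 2, 3,
  4, 3, 2, 1, 3, 1, 4, 0, 1, 3, 4, 0, 1, 4, 3, 1, 0, 4, 1, 3, 1, 2, 3, 4, 3, 2, 1, 0, 1, 3, 1, 0,
  4, 3, 1, 0, 4, 1, 3, 1, 4, 1, 3, 1, 4, 0, 1, 3, 4, 0, 1, 0, 4, 3, 1, 2, 3, 4, 3, 2, 1, 3, 1, 4,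
  0, 1, 3, 4, 0, 1, 0, 1, 0, 1, 0, 4, 3, 1, 0, 4, 1, 3, 1, 2, 3, 4, 3, 2, 1, 3, 1, 4, 0, 1, 3, 4,
  1, 0]),
  ([(2, []), (320, [0, 1, 4, 3, 1, 0, 4, 1, 3, 1, 2, 3, 4, 3, 2, 1, 3, 1, 4, 0, 1, 3, 4, 0, 1, 0,
  1, 0, 1, 0, 4, 3, 1, 0, 4, 1, 3, 1, 2, 3, 4, 3, 2, 1, 3])], [0, 1, 4, 3, 1, 0, 4, 1, 3, 1, 2, 3,
  4, 3, 2, 1, 3, 1, 4, 0, 1, 3, 4, 0, 1, 4, 3, 1, 0, 4, 1, 3, 1, 2, 3, 4, 3, 2, 1, 0, 1, 3, 1, 0,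
  1, 0, 1, 3, 1, 2, 3, 4, 3, 2, 1, 3, 1, 4, 0, 1, 3, 4, 0, 1, 0, 1, 0, 1, 0, 4, 3, 1, 0, 4, 1, 3,
  1, 2, 3, 4, 3, 2, 1, 3, 1, 4, 0, 1, 3, 4, 1, 0]),
  ([(4, []), (316, [0, 1, 4, 3, 1, 0, 4, 1, 3, 1, 2, 3, 4, 3, 2, 1, 3, 1, 4, 0, 1, 3, 4, 0, 1, 0,
  1, 0, 1, 0, 4, 3, 1, 0, 4, 1, 3, 1, 2, 3, 4, 3, 2, 1, 3]), (3, [])], [0, 1, 4, 3, 1, 0, 4, 1, 3,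
  1, 2, 3, 4, 3, 2, 1, 3, 1, 4, 0, 1, 3, 4, 0, 1, 4, 3, 1, 0, 4, 1, 3, 1, 2, 3, 4, 3, 2, 1, 0, 1,
  3, 4, 1, 0, 4, 3, 1, 0, 4, 1, 3, 1, 4, 1, 3, 1, 4, 0, 1, 3, 4, 0, 1, 3, 1, 0, 1, 2, 3, 4, 3, 2,
  1, 3, 1, 4, 0, 1, 3, 4, 1, 0, 4, 3, 1, 0, 4, 1, 3, 1, 2, 3, 4, 3, 2, 1, 3, 1, 4, 0, 1, 3, 4, 1,
  0]),
  ([(6, []), (300, [0, 1, 4, 3, 1, 0, 4, 1, 3, 1, 2, 3, 4, 3, 2, 1, 3, 1, 4, 0, 1, 3, 4, 0, 1, 0,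
  1, 0, 1, 0, 4, 3, 1, 0, 4, 1, 3, 1, 2, 3, 4, 3, 2, 1, 3]), (3, [])], [0, 1, 4, 3, 1, 0, 4, 1, 3,
  1, 2, 3, 4, 3, 2, 1, 3, 1, 4, 0, 1, 3, 4, 0, 1, 4, 3, 1, 0, 4, 1, 3, 1, 2, 3, 4, 3, 2, 1, 0, 1,
  3, 1, 0, 4, 3, 1, 0, 4, 1, 3, 1, 0, 1, 3, 1, 4, 0, 1, 3, 4, 1, 0, 1, 3, 1, 0, 1, 2, 3, 4, 3, 2,
  1, 3, 1, 4, 0, 1, 3, 4, 1, 0, 4, 3, 1, 0, 4, 1, 3, 1, 2, 3, 4, 3, 2, 1, 3, 1, 4, 0, 1, 3, 4, 1,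
  0])]

/-- derivation xu, part 3 -/
def xu3 : List (List (ℕ × List ℕ) × List ℕ) := [
  ([(4, []), (300, [0, 1, 4, 3, 1, 0, 4, 1, 3, 1, 2, 3, 4, 3, 2, 1, 3, 1, 4, 0, 1, 3, 4, 0, 1, 0,
  1, 0, 1, 0, 4, 3, 1, 0, 4, 1, 3, 1, 2, 3, 4, 3, 2, 1, 3, 1])], [0, 1, 4, 3, 1, 0, 4, 1, 3, 1, 2,
  3, 4, 3, 2, 1, 3, 1, 4, 0, 1, 3, 4, 0, 1, 4, 3, 1, 0, 4, 1, 3, 1, 2, 3, 4, 3, 2, 1, 0, 1, 3, 1,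
  4, 3, 1, 0, 4, 1, 3, 1, 4, 1, 3, 1, 4, 0, 1, 3, 4, 0, 1, 0, 4, 1, 3, 1, 2, 3, 4, 3, 2, 1, 3, 1,
  4, 0, 1, 3, 4, 0, 1, 0, 1, 0, 1, 0, 4, 3, 1, 0, 4, 1, 3, 1, 2, 3, 4, 3, 2, 1, 3, 1, 4, 0, 1, 3,
  4, 1, 0]),
  ([(2, []), (6, []), (322, [0, 1, 4, 3, 1, 0, 4, 1, 3, 1, 2, 3, 4, 3, 2, 1, 3, 1, 4, 0, 1, 3, 4,
  0, 1, 0, 1, 0, 1, 0, 4, 3, 1, 0, 4, 1, 3, 1, 2, 3, 4, 3, 2, 1, 3, 1])], [0, 1, 4, 3, 1, 0, 4, 1,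
  3, 1, 2, 3, 4, 3, 2, 1, 3, 1, 4, 0, 1, 3, 4, 0, 1, 4, 3, 1, 0, 4, 1, 3, 1, 2, 3, 4, 3, 2, 1, 0,
  1, 3, 1, 0, 4, 3, 1, 0, 4, 1, 3, 1, 0, 1, 3, 1, 4, 0, 1, 3, 0, 4, 1, 3, 1, 2, 3, 4, 3, 2, 1, 3,
  1, 4, 0, 1, 3, 4, 0, 1, 0, 1, 0, 1, 0, 4, 3, 1, 0, 4, 1, 3, 1, 2, 3, 4, 3, 2, 1, 3, 1, 4, 0, 1,
  3, 4, 1, 0]),
  ([(1, []), (4, [])], [0, 1, 4, 3, 1, 0, 4, 1, 3, 1, 2, 3, 4, 3, 2, 1, 3, 1, 4, 0, 1, 3, 4, 0, 1,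
  0, 1, 0, 1, 0, 4, 3, 1, 0, 4, 1, 3, 1, 2, 3, 4, 3, 2, 1, 3, 1, 4, 0, 4, 1, 0, 1, 3, 1, 0, 1, 2,
  3, 4, 3, 2, 1, 3, 1, 4, 0, 1, 3, 4, 1, 0, 4, 3, 1, 0, 4, 1, 3, 1, 2, 3, 4, 3, 2, 1, 3, 1, 4, 0,
  1, 3, 4, 1, 0]),
  ([(10, []), (308, [0, 1, 4, 3, 1, 0, 4, 1, 3, 1, 2, 3, 4, 3, 2, 1, 3, 1, 4, 0, 1, 3, 4, 0, 1, 0,
  1, 0, 1, 0, 4, 3, 1, 0, 4, 1, 3, 1, 2, 3, 4, 3, 2, 1, 3, 1]), (15, []), (8, [])], [0, 1, 4, 3, 1,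
  0, 4, 1, 3, 1, 2, 3, 4, 3, 2, 1, 3, 1, 4, 0, 1, 3, 4, 0, 1, 4, 3, 1, 0, 4, 1, 3, 1, 2, 3, 4, 3,
  2, 1, 0, 1, 3, 1, 4, 3, 1, 0, 4, 1, 3, 1, 0, 1, 3, 1, 4, 0, 1, 3, 1, 0, 4, 3, 1, 0, 4, 1, 3, 1,
  4, 1, 3, 1, 4, 0, 1, 3, 4, 0, 1, 3, 1, 0, 1, 2, 3, 4, 3, 2, 1, 3, 1, 4, 0, 1, 3, 4, 1, 0, 4, 3,
  1, 0, 4, 1, 3, 1, 2, 3, 4, 3, 2, 1, 3, 1, 4, 0, 1, 3, 4, 1, 0]),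
  ([(6, []), (334, [0, 1, 4, 3, 1, 0, 4, 1, 3, 1, 2, 3, 4, 3, 2, 1, 3, 1, 4, 0, 1, 3, 4, 0, 1, 0,
  1, 0, 1, 0, 4, 3, 1, 0, 4, 1, 3, 1, 2, 3, 4, 3, 2, 1, 3, 1, 4]), (323, [0, 1, 4, 3, 1, 0, 4, 1,
  3, 1, 2, 3, 4, 3, 2, 1, 3, 1, 4, 0, 1, 3, 4, 0, 1, 0, 1, 0, 1, 0, 4, 3, 1, 0, 4, 1, 3, 1, 2, 3,
  4, 3, 2, 1, 3, 1])], [0, 1, 4, 3, 1, 0, 4, 1, 3, 1, 2, 3, 4, 3, 2, 1, 3, 1, 4, 0, 1, 3, 4, 0, 1,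
  4, 3, 1, 0, 4, 1, 3, 1, 2, 3, 4, 3, 2, 1, 0, 1, 3, 1, 4, 3, 1, 0, 4, 1, 3, 1, 4, 1, 3, 1, 4, 0,
  1, 3, 4, 1, 0, 4, 1, 4, 3, 1, 2, 3, 4, 3, 2, 1, 3, 1, 4, 0, 1, 3, 4, 0, 1, 0, 1, 0, 1, 0, 4, 3,
  1, 0, 4, 1, 3, 1, 2, 3, 4, 3, 2, 1, 3, 1, 4, 0, 1, 3, 4, 1, 0]),
  ([(8, []), (312, [0, 1, 4, 3, 1, 0, 4, 1, 3, 1, 2, 3, 4, 3, 2, 1, 3, 1, 4, 0, 1, 3, 4, 0, 1, 0,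
  1, 0, 1, 0, 4, 3, 1, 0, 4, 1, 3, 1, 2, 3, 4, 3, 2, 1, 3, 1, 4]), (325, [0, 1, 4, 3, 1, 0, 4, 1,
  3, 1, 2, 3, 4, 3, 2, 1, 3, 1, 4, 0, 1, 3, 4, 0, 1, 0, 1, 0, 1, 0, 4, 3, 1, 0, 4, 1, 3, 1, 2, 3,
  4, 3, 2, 1, 3, 1]), (1, [])], [0, 1, 4, 3, 1, 0, 4, 1, 3, 1, 2, 3, 4, 3, 2, 1, 3, 1, 4, 0, 1, 3,
  4, 0, 1, 4, 3, 1, 0, 4, 1, 3, 1, 2, 3, 4, 3, 2, 1, 0, 1, 3, 1, 4, 3, 1, 0, 4, 1, 3, 1, 4, 0, 1,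
  3, 1, 4, 0, 1, 3, 4, 1, 4, 3, 1, 0, 4, 1, 3, 1, 4, 1, 3, 1, 4, 0, 1, 3, 4, 1, 3, 1, 0, 1, 2, 3,
  4, 3, 2, 1, 3, 1, 4, 0, 1, 3, 4, 1, 0, 4, 3, 1, 0, 4, 1, 3, 1, 2, 3, 4, 3, 2, 1, 3, 1, 4, 0, 1,
  3, 4, 1, 0]),
  ([(0, []), (2, []), (326, [0, 1, 4, 3, 1, 0, 4, 1, 3, 1, 2, 3, 4, 3, 2, 1, 3, 1, 4, 0, 1, 3, 4,
  0, 1, 0, 1, 0, 1, 0, 4, 3, 1, 0, 4, 1, 3, 1, 2, 3, 4, 3, 2, 1, 3, 1]), (312, [0, 1, 4, 3, 1, 0,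
  4, 1, 3, 1, 2, 3, 4, 3, 2, 1, 3, 1, 4, 0, 1, 3, 4, 0, 1, 0, 1, 0, 1, 0, 4, 3, 1, 0, 4, 1, 3, 1,
  2, 3, 4, 3, 2, 1, 3, 1, 4, 0]), (6, []), (16, []), (21, []), (14, []), (5, [])], [0, 1, 4, 3, 1,
  0, 4, 1, 3, 1, 2, 3, 4, 3, 2, 1, 3, 1, 4, 0, 1, 3, 4, 0, 1, 4, 3, 1, 0, 4, 1, 3, 1, 2, 3, 4, 3,
  2, 1, 0, 1, 3, 1, 4, 3, 1, 0, 4, 1, 3, 1, 4, 0, 4, 0, 1, 3, 1, 4, 0, 1, 3, 4, 1, 3, 1, 0, 1, 2,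
  3, 4, 3, 2, 1, 3, 1, 4, 0, 1, 3, 4, 1, 0, 4, 3, 1, 0, 4, 1, 3, 1, 2, 3, 4, 3, 2, 1, 3, 1, 4, 0,
  1, 3, 4, 1, 0]),
  ([(12, []), (336, [0, 1, 4, 3, 1, 0, 4, 1, 3, 1, 2, 3, 4, 3, 2, 1, 3, 1, 4, 0, 1, 3, 4, 0, 1, 0,
  1, 0, 1, 0, 4, 3, 1, 0, 4, 1, 3, 1, 2, 3, 4, 3, 2, 1, 3, 1, 4, 0, 1])], [0, 1, 4, 3, 1, 0, 4, 1,
  3, 1, 2, 3, 4, 3, 2, 1, 3, 1, 4, 0, 1, 3, 4, 0, 1, 4, 3, 1, 0, 4, 1, 3, 1, 2, 3, 4, 3, 2, 1, 0,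
  1, 3, 1, 4, 3, 1, 0, 4, 1, 3, 1, 4, 1, 3, 1, 4, 0, 1, 3, 4, 3, 0, 3, 1, 0, 4, 1, 3, 1, 2, 3, 4,
  3, 2, 1, 3, 1, 4, 0, 1, 3, 4, 0, 1, 0, 1, 0, 1, 0, 4, 3, 1, 0, 4, 1, 3, 1, 2, 3, 4, 3, 2, 1, 3,
  1, 4, 0, 1, 3, 4, 1, 0]),
  ([(7, []), (14, []), (318, [0, 1, 4, 3, 1, 0, 4, 1, 3, 1, 2, 3, 4, 3, 2, 1, 3, 1, 4, 0, 1, 3, 4,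
  0, 1, 0, 1, 0, 1, 0, 4, 3, 1, 0, 4, 1, 3, 1, 2, 3, 4, 3, 2, 1, 3, 1, 4, 0, 1]), (27, []), (40,
  []), (45, [])], [0, 1, 4, 3, 1, 0, 4, 1, 3, 1, 2, 3, 4, 3, 2, 1, 3, 1, 4, 0, 1, 3, 4, 0, 1, 0, 1,
  0, 1, 0, 4, 3, 1, 0, 4, 1, 3, 1, 2, 3, 4, 3, 2, 1, 3, 4, 1, 3, 1, 0, 4, 1, 3, 1, 0, 1, 3, 1, 4,
  2, 4, 3, 2, 1, 3, 1, 4, 0, 1, 3, 4, 1, 0, 4, 3, 1, 0, 4, 1, 3, 1, 2, 3, 4, 3, 2, 1, 3, 1, 4, 0,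
  1, 3, 4, 1, 0]),
  ([(2, []), (318, [0, 1, 4, 3, 1, 0, 4, 1, 3, 1, 2, 3, 4, 3, 2, 1, 3, 1, 4, 0, 1, 3, 4, 0, 1, 0,
  1, 0, 1, 0, 4, 3, 1, 0, 4, 1, 3, 1, 2, 3, 4, 3, 2, 1, 3, 1, 4, 0, 1, 3])], [0, 1, 4, 3, 1, 0, 4,
  1, 3, 1, 2, 3, 4, 3, 2, 1, 3, 1, 4, 0, 1, 3, 4, 0, 1, 4, 3, 1, 0, 4, 1, 3, 1, 2, 3, 4, 3, 2, 1,
  0, 1, 3, 1, 4, 3, 1, 0, 4, 1, 3, 1, 4, 1, 3, 1, 4, 0, 1, 3, 4, 3, 1, 0, 4, 3, 1, 0, 4, 1, 3, 1,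
  4, 1, 3, 1, 4, 0, 1, 3, 4, 0, 1, 0, 4, 3, 1, 0, 4, 1, 3, 1, 2, 3, 4, 3, 2, 1, 3, 1, 4, 0, 1, 3,
  4, 0, 1, 0, 1, 0, 1, 0, 4, 3, 1, 0, 4, 1, 3, 1, 2, 3, 4, 3, 2, 1, 3, 1, 4, 0, 1, 3, 4, 1, 0]),
  ([(4, []), (340, [0, 1, 4, 3, 1, 0, 4, 1, 3, 1, 2, 3, 4, 3, 2, 1, 3, 1, 4, 0, 1, 3, 4, 0, 1, 0,
  1, 0, 1, 0, 4, 3, 1, 0, 4, 1, 3, 1, 2, 3, 4, 3, 2, 1, 3, 1, 4, 0, 1, 3])], [0, 1, 4, 3, 1, 0, 4,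
  1, 3, 1, 2, 3, 4, 3, 2, 1, 3, 1, 4, 0, 1, 3, 4, 0, 1, 4, 3, 1, 0, 4, 1, 3, 1, 2, 3, 4, 3, 2, 1,
  0, 1, 3, 1, 4, 3, 1, 0, 4, 1, 3, 1, 4, 1, 3, 1, 4, 0, 1, 3, 4, 3, 4, 0, 4, 3, 1, 0, 4, 1, 3, 1,
  2, 3, 4, 3, 2, 1, 3, 1, 4, 0, 1, 3, 4, 0, 1, 0, 1, 0, 1, 0, 4, 3, 1, 0, 4, 1, 3, 1, 2, 3, 4, 3,
  2, 1, 3, 1, 4, 0, 1, 3, 4, 1, 0]),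
  ([(0, []), (349, [0, 1, 4, 3, 1, 0, 4, 1, 3, 1, 2, 3, 4, 3, 2, 1, 3, 1, 4, 0, 1, 3, 4, 0, 1, 0,
  1, 0, 1, 0, 4, 3, 1, 0, 4, 1, 3, 1, 2, 3, 4, 3, 2, 1, 3, 1, 4, 0, 1, 3, 4])], [0, 1, 4, 3, 1, 0,
  4, 1, 3, 1, 2, 3, 4, 3, 2, 1, 3, 1, 4, 0, 1, 3, 4, 0, 1, 4, 3, 1, 0, 4, 1, 3, 1, 2, 3, 4, 3, 2,
  1, 0, 1, 3, 1, 4, 3, 1, 0, 4, 1, 3, 1, 4, 1, 3, 1, 4, 0, 1, 3, 4, 3, 4, 0, 1, 0, 1, 0, 1, 0, 4,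
  3, 1, 0, 4, 1, 3, 1, 2, 3, 4, 3, 2, 1, 3, 1, 4, 0, 1, 3, 4, 0, 1, 0, 1, 0, 1, 0, 4, 3, 1, 0, 4,
  1, 3, 1, 2, 3, 4, 3, 2, 1, 3, 1, 4, 0, 1, 3, 4, 1, 0]),
  ([(1, []), (2, [])], [0, 1, 4, 3, 1, 0, 4, 1, 3, 1, 2, 3, 4, 3, 2, 1, 3, 1, 4, 0, 1, 3, 4, 0, 1,
  0, 1, 0, 1, 0, 4, 3, 1, 0, 4, 1, 3, 1, 2, 3, 4, 3, 2, 1, 3, 1, 4, 0, 1, 3, 4, 0, 1, 0, 1, 0, 1,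
  4, 3, 1, 0, 4, 1, 3, 1, 2, 3, 4, 3, 2, 1, 3, 1, 4, 0, 1, 3, 4, 0, 1, 0, 1, 0, 1, 0, 4, 3, 1, 0,
  4, 1, 3, 1, 2, 3, 4, 3, 2, 1, 3, 1, 4, 0, 1, 3, 4, 1, 0]),
  ([(3, []), (24, [])], [0, 1, 4, 3, 1, 0, 4, 1, 3, 1, 2, 3, 4, 3, 2, 1, 3, 1, 4, 0, 1, 3, 4, 0, 1,
  0, 1, 0, 1, 0, 4, 3, 1, 0, 4, 1, 3, 1, 2, 3, 4, 3, 2, 1, 3, 1, 4, 0, 1, 3, 4, 0, 1, 0, 1, 0, 1,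
  0, 4, 3, 0, 1, 0, 4, 1, 3, 1, 2, 3, 4, 3, 2, 1, 3, 1, 4, 0, 1, 3, 4, 0, 1, 0, 1, 0, 1, 0, 4, 3,
  1, 0, 4, 1, 3, 1, 2, 3, 4, 3, 2, 1, 3, 1, 4, 0, 1, 3, 4, 1, 0]),
  ([(19, []), (4, [])], [0, 1, 4, 3, 1, 0, 4, 1, 3, 1, 2, 3, 4, 3, 2, 1, 3, 1, 4, 0, 1, 3, 4, 0, 1,
  0, 1, 0, 1, 0, 4, 3, 1, 0, 4, 1, 3, 1, 2, 3, 4, 3, 2, 1, 3, 4, 1, 4, 0, 1, 3, 4, 0, 1, 0, 1, 0,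
  1, 0, 4, 3, 1, 0, 4, 1, 3, 1, 2, 3, 4, 3, 2, 1, 3, 1, 4, 0, 1, 3, 4, 0, 1, 0, 1, 0, 1, 0, 4, 3,
  1, 0, 4, 1, 3, 1, 2, 3, 4, 3, 2, 1, 3, 1, 4, 0, 1, 3, 4, 1, 0]),
  ([(7, []), (19, [])], [0, 1, 4, 3, 1, 0, 4, 1, 3, 1, 2, 3, 4, 3, 2, 1, 3, 1, 4, 0, 1, 3, 4, 0, 1,
  0, 1, 0, 1, 0, 4, 3, 1, 0, 4, 1, 3, 1, 2, 3, 4, 3, 2, 1, 3, 1, 4, 0, 1, 3, 4, 0, 1, 0, 1, 0, 1,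
  0, 4, 3, 1, 4, 3, 1, 0, 4, 1, 3, 1, 0, 4, 1, 3, 1, 4, 0, 1, 3, 4, 1, 3, 1, 0, 1, 2, 3, 4, 3, 2,
  1, 3, 1, 4, 0, 1, 3, 4, 1, 0, 4, 3, 1, 0, 4, 1, 3, 1, 2, 3, 4, 3, 2, 1, 3, 1, 4, 0, 1, 3, 4, 1,
  0]),
  ([(3, []), (346, [0, 1, 4, 3, 1, 0, 4, 1, 3, 1, 2, 3, 4, 3, 2, 1, 3, 1, 4, 0, 1, 3, 4, 0, 1, 0,
  1, 0, 1, 0, 4, 3, 1, 0, 4, 1, 3, 1, 2, 3, 4, 3, 2, 1, 3, 1])], [0, 1, 4, 3, 1, 0, 4, 1, 3, 1, 2,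
  3, 4, 3, 2, 1, 3, 1, 4, 0, 1, 3, 4, 0, 1, 0, 1, 0, 1, 0, 4, 3, 1, 0, 4, 1, 3, 1, 2, 3, 4, 3, 2,
  1, 3, 1, 4, 0, 1, 3, 4, 0, 1, 0, 1, 0, 1, 0, 4, 3, 1, 0, 1, 4, 1, 3, 1, 2, 3, 4, 3, 2, 1, 3, 1,
  4, 0, 1, 3, 4, 0, 1, 0, 1, 0, 1, 0, 4, 3, 1, 0, 4, 1, 3, 1, 2, 3, 4, 3, 2, 1, 3, 1, 4, 0, 1, 3,
  4, 1, 0]),
  ([(5, []), (41, [])], [0, 1, 4, 3, 1, 0, 4, 1, 3, 1, 2, 3, 4, 3, 2, 1, 3, 1, 4, 0, 1, 3, 4, 0, 1,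
  0, 1, 0, 1, 0, 4, 3, 1, 0, 4, 1, 3, 1, 2, 3, 4, 3, 2, 1, 3, 1, 4, 0, 1, 3, 4, 0, 1, 0, 1, 0, 1,
  0, 4, 3, 1, 0, 4, 1, 0, 1, 0, 4, 3, 1, 0, 4, 1, 3, 1, 4, 1, 3, 1, 4, 0, 1, 3, 4, 0, 1, 3, 1, 0,
  1, 2, 3, 4, 3, 2, 1, 3, 1, 4, 0, 1, 3, 4, 1, 0, 4, 3, 1, 0, 4, 1, 3, 1, 2, 3, 4, 3, 2, 1, 3, 1,
  4, 0, 1, 3, 4, 1, 0]),
  ([(16, []), (338, [0, 1, 4, 3, 1, 0, 4, 1, 3, 1, 2, 3, 4, 3, 2, 1, 3, 1, 4, 0, 1, 3, 4, 0, 1, 0,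
  1, 0, 1, 0, 4, 3, 1, 0, 4, 1, 3, 1, 2, 3, 4, 3, 2, 1, 3, 1, 4, 0, 1, 3, 4]), (363, [0, 1, 4, 3,
  1, 0, 4, 1, 3, 1, 2, 3, 4, 3, 2, 1, 3, 1, 4, 0, 1, 3, 4, 0, 1, 0, 1, 0, 1, 0, 4, 3, 1, 0, 4, 1,
  3, 1, 2, 3, 4, 3, 2, 1, 3, 1, 4, 0, 1, 3, 4])], [0, 1, 4, 3, 1, 0, 4, 1, 3, 1, 2, 3, 4, 3, 2, 1,
  3, 1, 4, 0, 1, 3, 4, 0, 1, 4, 3, 1, 0, 4, 1, 3, 1, 2, 3, 4, 3, 2, 1, 0, 1, 3, 1, 4, 3, 1, 0, 4,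
  1, 3, 1, 4, 1, 3, 1, 4, 0, 1, 3, 4, 3, 1, 0, 4, 3, 1, 0, 4, 1, 3, 1, 4, 0, 1, 3, 1, 4, 0, 1, 3,
  4, 1, 0, 1, 0, 4, 3, 1, 0, 4, 1, 3, 1, 2, 3, 4, 3, 2, 1, 3, 1, 4, 0, 1, 3, 4, 0, 1, 0, 1, 0, 1,
  0, 4, 3, 1, 0, 4, 1, 3, 1, 2, 3, 4, 3, 2, 1, 3, 1, 4, 0, 1, 3, 4, 1, 0]),
  ([(346, [0, 1, 4, 3, 1, 0, 4, 1, 3, 1, 2, 3, 4, 3, 2, 1, 3, 1, 4, 0, 1, 3, 4, 0, 1, 0, 1, 0, 1,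
  0, 4, 3, 1, 0, 4, 1, 3, 1, 2, 3, 4, 3, 2, 1, 3, 1, 4, 0, 1, 3, 4, 0]), (13, []), (15, [])], [0,
  1, 4, 3, 1, 0, 4, 1, 3, 1, 2, 3, 4, 3, 2, 1, 3, 1, 4, 0, 1, 3, 4, 0, 1, 0, 1, 0, 1, 0, 4, 3, 1,
  0, 4, 1, 3, 1, 2, 3, 4, 3, 2, 1, 3, 1, 4, 0, 1, 3, 4, 0, 3, 4, 1, 0, 4, 1, 3, 1, 4, 1, 3, 1, 4,
  0, 1, 3, 4, 1, 3, 1, 0, 1, 2, 3, 4, 3, 2, 1, 3, 1, 4, 0, 1, 3, 4, 1, 0, 4, 3, 1, 0, 4, 1, 3, 1,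
  2, 3, 4, 3, 2, 1, 3, 1, 4, 0, 1, 3, 4, 1, 0]),
  ([(367, [0, 1, 4, 3, 1, 0, 4, 1, 3, 1, 2, 3, 4, 3, 2, 1, 3, 1, 4, 0, 1, 3, 4, 0, 1, 0, 1, 0, 1,
  0, 4, 3, 1, 0, 4, 1, 3, 1, 2, 3, 4, 3, 2, 1, 3, 1, 4, 0, 1, 3, 4]), (340, [0, 1, 4, 3, 1, 0, 4,
  1, 3, 1, 2, 3, 4, 3, 2, 1, 3, 1, 4, 0, 1, 3, 4, 0, 1, 0, 1, 0, 1, 0, 4, 3, 1, 0, 4, 1, 3, 1, 2,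
  3, 4, 3, 2, 1, 3, 1, 4, 0, 1, 3, 4, 0, 1])], [0, 1, 4, 3, 1, 0, 4, 1, 3, 1, 2, 3, 4, 3, 2, 1, 3,
  1, 4, 0, 1, 3, 4, 0, 1, 0, 1, 0, 1, 0, 4, 3, 1, 0, 4, 1, 3, 1, 2, 3, 4, 3, 2, 1, 3, 1, 4, 0, 1,
  3, 4, 1, 4, 3, 1, 0, 4, 1, 3, 1, 4, 1, 3, 1, 4, 0, 1, 3, 4, 0, 1, 0, 4, 1, 0, 4, 3, 1, 0, 4, 1,
  3, 1, 2, 3, 4, 3, 2, 1, 3, 1, 4, 0, 1, 3, 4, 0, 1, 0, 1, 0, 1, 0, 4, 3, 1, 0, 4, 1, 3, 1, 2, 3,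
  4, 3, 2, 1, 3, 1, 4, 0, 1, 3, 4, 1, 0]),
  ([(0, []), (363, [0, 1, 4, 3, 1, 0, 4, 1, 3, 1, 2, 3, 4, 3, 2, 1, 3, 1, 4, 0, 1, 3, 4, 0, 1, 0,
  1, 0, 1, 0, 4, 3, 1, 0, 4, 1, 3, 1, 2, 3, 4, 3, 2, 1, 3, 1, 4, 0, 1, 3, 4, 0, 1]), (23, [])], [0,
  1, 4, 3, 1, 0, 4, 1, 3, 1, 2, 3, 4, 3, 2, 1, 3, 1, 4, 0, 1, 3, 4, 0, 1, 0, 1, 0, 1, 0, 4, 3, 1,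
  0, 4, 1, 3, 1, 2, 3, 4, 3, 2, 1, 3, 1, 4, 0, 1, 3, 4, 1, 4, 3, 1, 0, 4, 1, 3, 1, 4, 1, 3, 1, 4,
  0, 1, 3, 4, 0, 1, 3, 1, 0, 4, 1, 3, 1, 4, 1, 3, 1, 4, 0, 1, 3, 4, 0, 1, 3, 4, 3, 1, 0, 4, 1, 3,
  1, 4, 1, 3, 1, 4, 0, 1, 3, 4, 1, 3, 1, 0, 1, 2, 3, 4, 3, 2, 1, 3, 1, 4, 0, 1, 3, 4, 1, 0, 4, 3,
  1, 0, 4, 1, 3, 1, 2, 3, 4, 3, 2, 1, 3, 1, 4, 0, 1, 3, 4, 1, 0]),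
  ([(1, []), (2, [])], [0, 1, 4, 3, 1, 0, 4, 1, 3, 1, 2, 3, 4, 3, 2, 1, 3, 1, 4, 0, 1, 3, 4, 0, 1,
  4, 3, 1, 0, 4, 1, 3, 1, 2, 3, 4, 3, 2, 1, 0, 1, 3, 1, 4, 3, 1, 0, 4, 1, 3, 1, 4, 1, 3, 1, 4, 0,
  1, 3, 4, 3, 1, 0, 4, 3, 1, 0, 4, 1, 3, 1, 4, 1, 3, 1, 4, 0, 1, 3, 0, 4, 1, 0, 4, 3, 1, 0, 4, 1,
  3, 1, 2, 3, 4, 3, 2, 1, 3, 1, 4, 0, 1, 3, 4, 0, 1, 0, 1, 0, 1, 0, 4, 3, 1, 0, 4, 1, 3, 1, 2, 3,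
  4, 3, 2, 1, 3, 1, 4, 0, 1, 3, 4, 1, 0]),
  ([(373, [0, 1, 4, 3, 1, 0, 4, 1, 3, 1, 2, 3, 4, 3, 2, 1, 3, 1, 4, 0, 1, 3, 4, 0, 1, 0, 1, 0, 1,
  0, 4, 3, 1, 0, 4, 1, 3, 1, 2, 3, 4, 3, 2, 1, 3, 1, 4, 0, 1, 3, 4]), (348, [0, 1, 4, 3, 1, 0, 4,
  1, 3, 1, 2, 3, 4, 3, 2, 1, 3, 1, 4, 0, 1, 3, 4, 0, 1, 0, 1, 0, 1, 0, 4, 3, 1, 0, 4, 1, 3, 1, 2,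
  3, 4, 3, 2, 1, 3, 1, 4, 0, 1, 3, 4, 0, 1]), (69, [])], [0, 1, 4, 3, 1, 0, 4, 1, 3, 1, 2, 3, 4, 3,
  2, 1, 3, 1, 4, 0, 1, 3, 4, 0, 1, 0, 1, 0, 1, 0, 4, 3, 1, 0, 4, 1, 3, 1, 2, 3, 4, 3, 2, 1, 3, 1,
  4, 0, 1, 3, 4, 1, 4, 3, 1, 0, 4, 1, 3, 1, 2, 3, 4, 3, 2, 1, 3, 1, 4, 0, 1, 3, 4, 1, 0, 4, 3, 1,
  0, 4, 1, 3, 1, 2, 3, 4, 3, 2, 1, 3, 1, 4, 0, 1, 3, 4, 1, 0]),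
  ([(1, []), (375, [0, 1, 4, 3, 1, 0, 4, 1, 3, 1, 2, 3, 4, 3, 2, 1, 3, 1, 4, 0, 1, 3, 4, 0, 1, 0,
  1, 0, 1, 0, 4, 3, 1, 0, 4, 1, 3, 1, 2, 3, 4, 3, 2, 1, 3, 1, 4, 0, 1, 3, 4])], [0, 1, 4, 3, 1, 0,
  4, 1, 3, 1, 2, 3, 4, 3, 2, 1, 3, 1, 4, 0, 1, 3, 4, 0, 1, 4, 3, 1, 0, 4, 1, 3, 1, 2, 3, 4, 3, 2,
  1, 3, 1, 4, 0, 1, 3, 4, 0, 1, 0, 1, 0, 4, 3, 1, 0, 4, 1, 3, 1, 2, 3, 4, 3, 2, 1, 3, 1, 4, 0, 1,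
  3, 4, 0, 1, 0, 1, 0, 1, 0, 4, 3, 1, 0, 4, 1, 3, 1, 2, 3, 4, 3, 2, 1, 3, 1, 4, 0, 1, 3, 4, 1, 0]),
  ([(0, []), (377, [0, 1, 4, 3, 1, 0, 4, 1, 3, 1, 2, 3, 4, 3, 2, 1, 3, 1, 4, 0, 1, 3, 4, 0, 1, 0,
  1, 0, 1, 0, 4, 3, 1, 0, 4, 1, 3, 1, 2, 3, 4, 3, 2, 1, 3, 1, 4, 0, 1, 3, 4])], [0, 1, 4, 3, 1, 0,
  4, 1, 3, 1, 2, 3, 4, 3, 2, 1, 3, 1, 4, 0, 1, 3, 4, 0, 1, 4, 3, 1, 0, 4, 1, 3, 1, 2, 3, 4, 3, 2,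
  1, 3, 1, 4, 0, 1, 3, 4, 0, 1, 0, 1, 0, 1, 0, 1, 0, 1, 0, 4, 3, 1, 0, 4, 1, 3, 1, 2, 3, 4, 3, 2,
  1, 3, 1, 4, 0, 1, 3, 4, 0, 1, 0, 1, 0, 1, 0, 4, 3, 1, 0, 4, 1, 3, 1, 2, 3, 4, 3, 2, 1, 3, 1, 4,
  0, 1, 3, 4, 1, 0]),
  ([(14, []), (1, [])], [0, 1, 4, 3, 1, 0, 4, 1, 3, 1, 2, 3, 4, 3, 2, 1, 3, 1, 4, 0, 1, 3, 4, 0, 1,
  4, 3, 1, 0, 4, 1, 3, 1, 2, 3, 4, 3, 2, 1, 0, 1, 3, 1, 4, 3, 1, 0, 4, 1, 3, 1, 4, 1, 3, 1, 4, 0,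
  1, 3, 4, 3, 1, 0, 4, 3, 1, 0, 4, 1, 3, 1, 4, 0, 1, 3, 1, 4, 0, 1, 3, 4, 0, 1, 0, 1, 0, 1, 0, 4,
  3, 1, 0, 4, 1, 3, 1, 2, 3, 4, 3, 2, 1, 3, 1, 4, 0, 1, 3, 4, 1, 0, 4, 3, 1, 0, 4, 1, 3, 1, 2, 3,
  4, 3, 2, 1, 3, 1, 4, 0, 1, 3, 4, 1, 0]),
  ([(28, []), (381, [0, 1, 4, 3, 1, 0, 4, 1, 3, 1, 2, 3, 4, 3, 2, 1, 3, 1, 4, 0, 1, 3, 4, 0, 1, 0,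
  1, 0, 1, 0, 4, 3, 1, 0, 4, 1, 3, 1, 2, 3, 4, 3, 2, 1, 3, 1, 4, 0, 1, 3, 4]), (356, [0, 1, 4, 3,
  1, 0, 4, 1, 3, 1, 2, 3, 4, 3, 2, 1, 3, 1, 4, 0, 1, 3, 4, 0, 1, 0, 1, 0, 1, 0, 4, 3, 1, 0, 4, 1,
  3, 1, 2, 3, 4, 3, 2, 1, 3, 1, 4, 0, 1, 3, 4, 0, 1, 0, 1])], [0, 1, 4, 3, 1, 0, 4, 1, 3, 1, 2, 3,
  4, 3, 2, 1, 3, 1, 4, 0, 1, 3, 4, 0, 1, 0, 1, 0, 1, 0, 4, 3, 1, 0, 4, 1, 3, 1, 2, 3, 4, 3, 2, 1,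
  3, 1, 4, 0, 1, 3, 4, 0, 1, 0, 1, 0, 1, 0, 4, 3, 1, 0, 4, 1, 3, 1, 0, 1, 3, 1, 4, 0, 1, 3, 4, 1,
  0, 4, 3, 1, 0, 4, 1, 3, 1, 2, 3, 4, 3, 2, 1, 3, 1, 4, 0, 1, 3, 4, 0, 1, 0, 1, 0, 1, 0, 4, 3, 1,
  0, 4, 1, 3, 1, 2, 3, 4, 3, 2, 1, 3, 1, 4, 0, 1, 3, 4, 1, 0]),
  ([(51, []), (23, []), (356, [0, 1, 4, 3, 1, 0, 4, 1, 3, 1, 2, 3, 4, 3, 2, 1, 3, 1, 4, 0, 1, 3, 4,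
  0, 1, 0, 1, 0, 1, 0, 4, 3, 1, 0, 4, 1, 3, 1, 2, 3, 4, 3, 2, 1, 3, 1, 4, 0, 1, 3, 4, 0, 1, 0, 1,
  0, 1, 0, 4, 3, 1]), (24, [])], [0, 1, 4, 3, 1, 0, 4, 1, 3, 1, 2, 3, 4, 3, 2, 1, 3, 1, 4, 0, 1, 3,
  4, 0, 1, 4, 3, 1, 0, 4, 1, 3, 1, 2, 3, 4, 3, 2, 1, 0, 1, 3, 1, 0, 1, 3, 1, 0, 4, 1, 3, 1, 4, 1,
  3, 1, 4, 0, 1, 3, 4, 0, 1, 0, 3, 1, 0, 4, 1, 3, 1, 0, 4, 1, 3, 1, 4, 0, 1, 3, 4, 1, 3, 1, 0, 1,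
  2, 3, 4, 3, 2, 1, 3, 1, 4, 0, 1, 3, 4, 1, 0, 4, 3, 1, 0, 4, 1, 3, 1, 2, 3, 4, 3, 2, 1, 3, 1, 4,
  0, 1, 3, 4, 1, 0]),
  ([(0, []), (27, []), (379, [0, 1, 4, 3, 1, 0, 4, 1, 3, 1, 2, 3, 4, 3, 2, 1, 3, 1, 4, 0, 1, 3, 4,
  0, 1, 0, 1, 0, 1, 0, 4, 3, 1, 0, 4, 1, 3, 1, 2, 3, 4, 3, 2, 1, 3, 1, 4, 0, 1, 3, 4, 0, 1, 0, 1,
  0, 1, 0, 4, 3, 1])], [0, 1, 4, 3, 1, 0, 4, 1, 3, 1, 2, 3, 4, 3, 2, 1, 3, 1, 4, 0, 1, 3, 4, 0, 1,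
  4, 3, 1, 0, 4, 1, 3, 1, 2, 3, 4, 3, 2, 1, 0, 1, 3, 1, 0, 1, 3, 1, 0, 4, 1, 3, 1, 4, 1, 3, 1, 4,
  0, 1, 3, 4, 0, 1, 4, 0, 1, 3, 4, 0, 1, 0, 1, 0, 1, 0, 4, 3, 1, 0, 4, 1, 3, 1, 2, 3, 4, 3, 2, 1,
  3, 1, 4, 0, 1, 3, 4, 0, 1, 0, 1, 0, 1, 0, 4, 3, 1, 0, 4, 1, 3, 1, 2, 3, 4, 3, 2, 1, 3, 1, 4, 0,
  1, 3, 4, 1, 0]),
  ([(0, []), (24, [])], [0, 1, 4, 3, 1, 0, 4, 1, 3, 1, 2, 3, 4, 3, 2, 1, 3, 1, 4, 0, 1, 3, 4, 0, 1,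
  4, 3, 1, 0, 4, 1, 3, 1, 2, 3, 4, 3, 2, 1, 0, 1, 3, 1, 0, 1, 3, 1, 0, 4, 1, 3, 1, 4, 1, 3, 1, 4,
  0, 1, 3, 4, 1, 0, 4, 3, 1, 0, 4, 1, 3, 1, 4, 1, 3, 1, 4, 0, 1, 3, 4, 0, 1, 3, 1, 0, 1, 2, 3, 4,
  3, 2, 1, 3, 1, 4, 0, 1, 3, 4, 1, 0, 4, 3, 1, 0, 4, 1, 3, 1, 2, 3, 4, 3, 2, 1, 3, 1, 4, 0, 1, 3,
  4, 1, 0]),
  ([(0, []), (65, [])], [0, 1, 4, 3, 1, 0, 4, 1, 3, 1, 2, 3, 4, 3, 2, 1, 3, 1, 4, 0, 1, 3, 4, 0, 1,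
  4, 3, 1, 0, 4, 1, 3, 1, 2, 3, 4, 3, 2, 1, 0, 1, 3, 1, 0, 1, 3, 1, 0, 4, 1, 3, 1, 4, 1, 3, 1, 4,
  1, 2, 3, 4, 3, 2, 1, 3, 1, 4, 0, 1, 3, 4, 1, 0, 4, 3, 1, 0, 4, 1, 3, 1, 2, 3, 4, 3, 2, 1, 3, 1,
  4, 0, 1, 3, 4, 1, 0]),
  ([(59, []), (31, []), (366, [0, 1, 4, 3, 1, 0, 4, 1, 3, 1, 2, 3, 4, 3, 2, 1, 3, 1, 4, 0, 1, 3, 4,
  0, 1, 0, 1, 0, 1, 0, 4, 3, 1, 0, 4, 1, 3, 1, 2, 3, 4, 3, 2, 1, 3, 1, 4, 0, 1, 3, 4, 0, 1, 0, 1,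
  0, 1, 0, 4, 3, 1]), (36, [])], [0, 1, 4, 3, 1, 0, 4, 1, 3, 1, 2, 3, 4, 3, 2, 1, 3, 1, 4, 0, 1, 3,
  4, 0, 1, 4, 3, 1, 0, 4, 1, 3, 1, 2, 3, 4, 3, 2, 1, 0, 1, 3, 1, 0, 1, 3, 1, 0, 4, 1, 3, 1, 0, 1,
  3, 1, 4, 0, 1, 3, 4, 1, 0, 4, 1, 3, 1, 2, 3, 4, 3, 2, 1, 3, 1, 4, 0, 1, 3, 4, 0, 1, 0, 1, 0, 1,
  0, 4, 3, 1, 0, 4, 1, 3, 1, 2, 3, 4, 3, 2, 1, 3, 1, 4, 0, 1, 3, 4, 1, 0]),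
  ([(382, [0, 1, 4, 3, 1, 0, 4, 1, 3, 1, 2, 3, 4, 3, 2, 1, 3, 1, 4, 0, 1, 3, 4, 0, 1, 0, 1, 0, 1,
  0, 4, 3, 1, 0, 4, 1, 3, 1, 2, 3, 4, 3, 2, 1, 3, 1, 4, 0, 1, 3, 4, 0, 1, 0, 1, 0, 1, 0, 4, 3, 1,
  0, 4]), (37, [])], [0, 1, 4, 3, 1, 0, 4, 1, 3, 1, 2, 3, 4, 3, 2, 1, 3, 1, 4, 0, 1, 3, 4, 0, 1, 0,
  1, 0, 1, 0, 4, 3, 1, 0, 4, 1, 3, 1, 2, 3, 4, 3, 2, 1, 3, 1, 4, 0, 1, 3, 4, 0, 1, 0, 1, 0, 1, 0,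
  4, 3, 1, 0, 4, 1, 3, 1, 3, 1, 3, 1, 4, 3, 1, 2, 3, 4, 3, 2, 1, 3, 1, 4, 0, 1, 3, 4, 0, 1, 0, 1,
  0, 1, 0, 4, 3, 1, 0, 4, 1, 3, 1, 2, 3, 4, 3, 2, 1, 3, 1, 4, 0, 1, 3, 4, 1, 0]),
  ([(60, []), (33, []), (390, [0, 1, 4, 3, 1, 0, 4, 1, 3, 1, 2, 3, 4, 3, 2, 1, 3, 1, 4, 0, 1, 3, 4,
  0, 1, 0, 1, 0, 1, 0, 4, 3, 1, 0, 4, 1, 3, 1, 2, 3, 4, 3, 2, 1, 3, 1, 4, 0, 1, 3, 4, 0, 1, 0, 1,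
  0, 1, 0, 4, 3, 1, 0, 4, 1])], [0, 1, 4, 3, 1, 0, 4, 1, 3, 1, 2, 3, 4, 3, 2, 1, 3, 1, 4, 0, 1, 3,
  4, 0, 1, 4, 3, 1, 0, 4, 1, 3, 1, 2, 3, 4, 3, 2, 1, 0, 1, 3, 1, 4, 3, 1, 0, 4, 1, 3, 1, 0, 1, 3,
  1, 4, 0, 1, 0, 3, 1, 4, 0, 1, 3, 4, 0, 1, 0, 1, 0, 1, 0, 4, 3, 1, 0, 4, 1, 3, 1, 2, 3, 4, 3, 2,
  1, 3, 1, 4, 0, 1, 3, 4, 0, 1, 0, 1, 0, 1, 0, 4, 3, 1, 0, 4, 1, 3, 1, 2, 3, 4, 3, 2, 1, 3, 1, 4,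
  0, 1, 3, 4, 1, 0]),
  ([(15, []), (397, [0, 1, 4, 3, 1, 0, 4, 1, 3, 1, 2, 3, 4, 3, 2, 1, 3, 1, 4, 0, 1, 3, 4, 0, 1, 0,
  1, 0, 1, 0, 4, 3, 1, 0, 4, 1, 3, 1, 2, 3, 4, 3, 2, 1, 3, 1, 4, 0, 1, 3, 4, 0, 1, 0, 1, 0, 1, 0,
  4, 3, 1, 0, 4, 1, 3]), (1, [])], [0, 1, 4, 3, 1, 0, 4, 1, 3, 1, 2, 3, 4, 3, 2, 1, 3, 1, 4, 0, 1,
  3, 4, 0, 1, 0, 1, 0, 1, 0, 4, 3, 1, 0, 4, 1, 3, 1, 2, 3, 4, 3, 2, 1, 3, 1, 4, 0, 1, 3, 4, 0, 1,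
  4, 3, 1, 0, 4, 1, 3, 4, 1, 3, 1, 0, 1, 3, 1, 4, 0, 1, 3, 4, 1, 3, 1, 0, 1, 2, 3, 4, 3, 2, 1, 3,
  1, 4, 0, 1, 3, 4, 1, 0, 4, 3, 1, 0, 4, 1, 3, 1, 2, 3, 4, 3, 2, 1, 3, 1, 4, 0, 1, 3, 4, 1, 0]),
  ([(2, []), (374, [0, 1, 4, 3, 1, 0, 4, 1, 3, 1, 2, 3, 4, 3, 2, 1, 3, 1, 4, 0, 1, 3, 4, 0, 1, 0,
  1, 0, 1, 0, 4, 3, 1, 0, 4, 1, 3, 1, 2, 3, 4, 3, 2, 1, 3, 1, 4, 0, 1, 3, 4, 0, 1, 0, 1, 0, 1, 0,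
  4, 3, 1, 0, 4, 1, 3]), (16, [])], [0, 1, 4, 3, 1, 0, 4, 1, 3, 1, 2, 3, 4, 3, 2, 1, 3, 1, 4, 0, 1,
  3, 4, 0, 1, 4, 3, 1, 0, 4, 1, 3, 1, 2, 3, 4, 3, 2, 1, 0, 1, 3, 1, 4, 3, 1, 0, 4, 1, 3, 1, 0, 1,
  3, 1, 3, 1, 0, 4, 1, 3, 1, 0, 1, 3, 1, 4, 0, 1, 3, 4, 1, 3, 1, 4, 0, 1, 3, 4, 1, 0, 4, 3, 1, 0,
  4, 1, 3, 1, 2, 3, 4, 3, 2, 1, 3, 1, 4, 0, 1, 3, 4, 0, 1, 0, 1, 0, 1, 0, 4, 3, 1, 0, 4, 1, 3, 1,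
  2, 3, 4, 3, 2, 1, 3, 1, 4, 0, 1, 3, 4, 1, 0]),
  ([(44, []), (393, [0, 1, 4, 3, 1, 0, 4, 1, 3, 1, 2, 3, 4, 3, 2, 1, 3, 1, 4, 0, 1, 3, 4, 0, 1, 0,
  1, 0, 1, 0, 4, 3, 1, 0, 4, 1, 3, 1, 2, 3, 4, 3, 2, 1, 3, 1, 4, 0, 1, 3, 4, 0, 1, 0, 1, 0, 1, 0,
  4, 3, 1, 0, 4, 1, 3])], [0, 1, 4, 3, 1, 0, 4, 1, 3, 1, 2, 3, 4, 3, 2, 1, 3, 1, 4, 0, 1, 3, 4, 0,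
  1, 0, 1, 0, 1, 0, 4, 3, 1, 0, 4, 1, 3, 1, 2, 3, 4, 3, 2, 1, 3, 4, 3, 2, 1, 2, 1, 3, 1, 4, 0, 1,
  3, 4, 0, 1, 0, 1, 0, 1, 0, 4, 3, 1, 0, 4, 1, 3, 1, 2, 3, 4, 3, 2, 1, 3, 1, 4, 0, 1, 3, 4, 0, 1,
  0, 1, 0, 1, 0, 4, 3, 1, 0, 4, 1, 3, 1, 2, 3, 4, 3, 2, 1, 3, 1, 4, 0, 1, 3, 4, 1, 0]),
  ([(9, []), (1, [])], [0, 1, 4, 3, 1, 0, 4, 1, 3, 1, 2, 3, 4, 3, 2, 1, 3, 1, 4, 0, 1, 3, 4, 0, 1,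
  0, 1, 0, 1, 0, 4, 3, 1, 0, 4, 1, 3, 1, 2, 3, 4, 3, 2, 1, 3, 4, 1, 3, 1, 3, 2, 1, 2, 3, 4, 3, 1,
  2, 3, 4, 3, 2, 1, 3, 1, 4, 0, 1, 3, 4, 0, 1, 0, 1, 0, 1, 0, 4, 3, 1, 0, 4, 1, 3, 1, 2, 3, 4, 3,
  2, 1, 3, 1, 4, 0, 1, 3, 4, 1, 0]),
  ([(1, []), (11, [])], [0, 1, 4, 3, 1, 0, 4, 1, 3, 1, 2, 3, 4, 3, 2, 1, 3, 1, 4, 0, 1, 3, 4, 0, 1,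
  0, 1, 0, 1, 0, 4, 3, 1, 0, 4, 1, 3, 1, 2, 3, 4, 3, 2, 1, 3, 4, 3, 2, 1, 2, 1, 3, 1, 4, 0, 1, 3,
  4, 0, 1, 0, 1, 0, 1, 0, 4, 3, 1, 0, 4, 1, 3, 1, 2, 3, 4, 3, 2, 1, 3, 1, 4, 0, 1, 3, 4, 0, 1, 0,
  1, 0, 1, 0, 4, 3, 1, 0, 4, 1, 3, 1, 2, 3, 4, 3, 2, 1, 3, 1, 4, 0, 1, 3, 4, 1, 0]),
  ([(25, []), (402, [0, 1, 4, 3, 1, 0, 4, 1, 3, 1, 2, 3, 4, 3, 2, 1, 3, 1, 4, 0, 1, 3, 4, 0, 1, 0,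
  1, 0, 1, 0, 4, 3, 1, 0, 4, 1, 3, 1, 2, 3, 4, 3, 2, 1, 3, 1, 4, 0, 1, 3, 4, 0, 1, 0, 1, 0, 1, 0,
  4, 3, 1, 0, 4, 1, 3, 1]), (1, []), (3, [])], [0, 1, 4, 3, 1, 0, 4, 1, 3, 1, 2, 3, 4, 3, 2, 1, 3,
  1, 4, 0, 1, 3, 4, 0, 1, 0, 1, 0, 1, 0, 4, 3, 1, 0, 4, 1, 3, 1, 2, 3, 4, 3, 2, 1, 3, 1, 4, 0, 1,
  3, 4, 0, 1, 4, 3, 1, 0, 4, 1, 3, 1, 3, 0, 1, 3, 1, 4, 3, 1, 2, 3, 4, 3, 2, 1, 3, 1, 4, 0, 1, 3,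
  4, 0, 1, 0, 1, 0, 1, 0, 4, 3, 1, 0, 4, 1, 3, 1, 2, 3, 4, 3, 2, 1, 3, 1, 4, 0, 1, 3, 4, 1, 0]),
  ([(11, []), (27, []), (382, [0, 1, 4, 3, 1, 0, 4, 1, 3, 1, 2, 3, 4, 3, 2, 1, 3, 1, 4, 0, 1, 3, 4,
  0, 1, 0, 1, 0, 1, 0, 4, 3, 1, 0, 4, 1, 3, 1, 2, 3, 4, 3, 2, 1, 3, 1, 4, 0, 1, 3, 4, 0, 1, 0, 1,
  0, 1, 0, 4, 3, 1, 0, 4, 1, 3, 1])], [0, 1, 4, 3, 1, 0, 4, 1, 3, 1, 2, 3, 4, 3, 2, 1, 3, 1, 4, 0,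
  1, 3, 4, 0, 1, 4, 3, 1, 0, 4, 1, 3, 1, 2, 3, 4, 3, 2, 1, 0, 1, 3, 1, 4, 3, 1, 0, 4, 1, 3, 1, 0,
  1, 3, 1, 4, 0, 4, 3, 1, 0, 4, 1, 3, 1, 4, 1, 3, 1, 4, 0, 1, 3, 4, 0, 1, 0, 4, 1, 3, 1, 4, 0, 1,
  3, 4, 0, 1, 0, 1, 0, 1, 0, 4, 3, 1, 0, 4, 1, 3, 1, 2, 3, 4, 3, 2, 1, 3, 1, 4, 0, 1, 3, 4, 0, 1,
  0, 1, 0, 1, 0, 4, 3, 1, 0, 4, 1, 3, 1, 2, 3, 4, 3, 2, 1, 3, 1, 4, 0, 1, 3, 4, 1, 0]),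
  ([(29, []), (408, [0, 1, 4, 3, 1, 0, 4, 1, 3, 1, 2, 3, 4, 3, 2, 1, 3, 1, 4, 0, 1, 3, 4, 0, 1, 0,
  1, 0, 1, 0, 4, 3, 1, 0, 4, 1, 3, 1, 2, 3, 4, 3, 2, 1, 3, 1, 4, 0, 1, 3, 4, 0, 1, 0, 1, 0, 1, 0,
  4, 3, 1, 0, 4, 1, 3, 1])], [0, 1, 4, 3, 1, 0, 4, 1, 3, 1, 2, 3, 4, 3, 2, 1, 3, 1, 4, 0, 1, 3, 4,
  0, 1, 0, 1, 0, 1, 0, 4, 3, 1, 0, 4, 1, 3, 1, 2, 3, 4, 3, 2, 1, 3, 1, 4, 0, 1, 3, 4, 0, 1, 4, 3,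
  1, 0, 4, 1, 3, 1, 2, 0, 2, 1, 3, 1, 4, 0, 1, 3, 4, 0, 1, 0, 1, 0, 1, 0, 4, 3, 1, 0, 4, 1, 3, 1,
  2, 3, 4, 3, 2, 1, 3, 1, 4, 0, 1, 3, 4, 0, 1, 0, 1, 0, 1, 0, 4, 3, 1, 0, 4, 1, 3, 1, 2, 3, 4, 3,
  2, 1, 3, 1, 4, 0, 1, 3, 4, 1, 0]),
  ([(398, [0, 1, 4, 3, 1, 0, 4, 1, 3, 1, 2, 3, 4, 3, 2, 1, 3, 1, 4, 0, 1, 3, 4, 0, 1, 0, 1, 0, 1,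
  0, 4, 3, 1, 0, 4, 1, 3, 1, 2, 3, 4, 3, 2, 1, 3, 1, 4, 0, 1, 3, 4, 0, 1, 0, 1, 0, 1, 0, 4, 3, 1,
  0, 4, 1, 3, 1]), (7, [])], [0, 1, 4, 3, 1, 0, 4, 1, 3, 1, 2, 3, 4, 3, 2, 1, 3, 1, 4, 0, 1, 3, 4,
  0, 1, 0, 1, 0, 1, 0, 4, 3, 1, 0, 4, 1, 3, 1, 2, 3, 4, 3, 2, 1, 3, 1, 4, 0, 1, 3, 4, 0, 1, 0, 1,
  0, 1, 0, 4, 3, 1, 0, 4, 1, 3, 1, 2, 3, 2, 3, 2, 1, 2, 3, 4, 3, 1, 2, 3, 4, 3, 2, 1, 3, 1, 4, 0,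
  1, 3, 4, 0, 1, 0, 1, 0, 1, 0, 4, 3, 1, 0, 4, 1, 3, 1, 2, 3, 4, 3, 2, 1, 3, 1, 4, 0, 1, 3, 4, 1,
  0]),
  ([(4, []), (409, [0, 1, 4, 3, 1, 0, 4, 1, 3, 1, 2, 3, 4, 3, 2, 1, 3, 1, 4, 0, 1, 3, 4, 0, 1, 0,
  1, 0, 1, 0, 4, 3, 1, 0, 4, 1, 3, 1, 2, 3, 4, 3, 2, 1, 3, 1, 4, 0, 1, 3, 4, 0, 1, 0, 1, 0, 1, 0,
  4, 3, 1, 0, 4, 1, 3, 1]), (32, [])], [0, 1, 4, 3, 1, 0, 4, 1, 3, 1, 2, 3, 4, 3, 2, 1, 3, 1, 4, 0,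
  1, 3, 4, 0, 1, 4, 3, 1, 0, 4, 1, 3, 1, 2, 3, 4, 3, 2, 1, 0, 1, 3, 1, 4, 3, 1, 0, 4, 1, 3, 1, 0,
  1, 3, 1, 4, 0, 4, 3, 1, 0, 4, 1, 3, 1, 4, 1, 3, 1, 4, 0, 1, 3, 4, 0, 1, 4, 1, 3, 1, 4, 0, 1, 3,
  4, 1, 0, 4, 3, 1, 0, 4, 1, 3, 1, 2, 3, 4, 3, 2, 1, 3, 1, 4, 0, 1, 3, 4, 0, 1, 0, 1, 0, 1, 0, 4,
  3, 1, 0, 4, 1, 3, 1, 2, 3, 4, 3, 2, 1, 3, 1, 4, 0, 1, 3, 4, 1, 0]),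
  ([(1, []), (6, [])], [0, 1, 4, 3, 1, 0, 4, 1, 3, 1, 2, 3, 4, 3, 2, 1, 3, 1, 4, 0, 1, 3, 4, 0, 1,
  0, 1, 0, 1, 0, 4, 3, 1, 0, 4, 1, 3, 1, 2, 3, 4, 3, 2, 1, 3, 1, 4, 0, 1, 3, 4, 0, 1, 4, 3, 1, 0,
  4, 1, 3, 1, 4, 0, 4, 1, 3, 1, 4, 0, 1, 3, 4, 0, 1, 0, 1, 0, 1, 0, 4, 3, 1, 0, 4, 1, 3, 1, 2, 3,
  4, 3, 2, 1, 3, 1, 4, 0, 1, 3, 4, 0, 1, 0, 1, 0, 1, 0, 4, 3, 1, 0, 4, 1, 3, 1, 2, 3, 4, 3, 2, 1,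
  3, 1, 4, 0, 1, 3, 4, 1, 0]),
  ([(6, []), (414, [0, 1, 4, 3, 1, 0, 4, 1, 3, 1, 2, 3, 4, 3, 2, 1, 3, 1, 4, 0, 1, 3, 4, 0, 1, 0,
  1, 0, 1, 0, 4, 3, 1, 0, 4, 1, 3, 1, 2, 3, 4, 3, 2, 1, 3, 1, 4, 0, 1, 3, 4, 0, 1, 0, 1, 0, 1, 0,
  4, 3, 1, 0, 4, 1, 3, 1, 2])], [0, 1, 4, 3, 1, 0, 4, 1, 3, 1, 2, 3, 4, 3, 2, 1, 3, 1, 4, 0, 1, 3,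
  4, 0, 1, 0, 1, 0, 1, 0, 4, 3, 1, 0, 4, 1, 3, 1, 2, 3, 4, 3, 2, 1, 3, 1, 4, 0, 1, 3, 4, 0, 1, 4,
  3, 1, 0, 4, 1, 3, 1, 2, 3, 0, 3, 2, 1, 3, 1, 4, 0, 1, 3, 4, 0, 1, 0, 1, 0, 1, 0, 4, 3, 1, 0, 4,
  1, 3, 1, 2, 3, 4, 3, 2, 1, 3, 1, 4, 0, 1, 3, 4, 0, 1, 0, 1, 0, 1, 0, 4, 3, 1, 0, 4, 1, 3, 1, 2,
  3, 4, 3, 2, 1, 3, 1, 4, 0, 1, 3, 4, 1, 0]),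
  ([(0, []), (394, [0, 1, 4, 3, 1, 0, 4, 1, 3, 1, 2, 3, 4, 3, 2, 1, 3, 1, 4, 0, 1, 3, 4, 0, 1, 0,
  1, 0, 1, 0, 4, 3, 1, 0, 4, 1, 3, 1, 2, 3, 4, 3, 2, 1, 3, 1, 4, 0, 1, 3, 4, 0, 1, 0, 1, 0, 1, 0,
  4, 3, 1, 0, 4, 1, 3, 1, 2, 3])], [0, 1, 4, 3, 1, 0, 4, 1, 3, 1, 2, 3, 4, 3, 2, 1, 3, 1, 4, 0, 1,
  3, 4, 0, 1, 0, 1, 0, 1, 0, 4, 3, 1, 0, 4, 1, 3, 1, 2, 3, 4, 3, 2, 1, 3, 1, 4, 0, 1, 3, 4, 0, 1,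
  4, 3, 1, 0, 4, 1, 3, 1, 2, 3, 1, 0, 4, 3, 1, 0, 4, 1, 3, 1, 4, 1, 3, 1, 4, 0, 1, 3, 4, 0, 1, 0,
  4, 3, 2, 1, 3, 1, 4, 0, 1, 3, 4, 0, 1, 0, 1, 0, 1, 0, 4, 3, 1, 0, 4, 1, 3, 1, 2, 3, 4, 3, 2, 1,
  3, 1, 4, 0, 1, 3, 4, 0, 1, 0, 1, 0, 1, 0, 4, 3, 1, 0, 4, 1, 3, 1, 2, 3, 4, 3, 2, 1, 3, 1, 4, 0,
  1, 3, 4, 1, 0]),
  ([(2, []), (420, [0, 1, 4, 3, 1, 0, 4, 1, 3, 1, 2, 3, 4, 3, 2, 1, 3, 1, 4, 0, 1, 3, 4, 0, 1, 0,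
  1, 0, 1, 0, 4, 3, 1, 0, 4, 1, 3, 1, 2, 3, 4, 3, 2, 1, 3, 1, 4, 0, 1, 3, 4, 0, 1, 0, 1, 0, 1, 0,
  4, 3, 1, 0, 4, 1, 3, 1, 2, 3]), (8, []), (19, [])], [0, 1, 4, 3, 1, 0, 4, 1, 3, 1, 2, 3, 4, 3, 2,
  1, 3, 1, 4, 0, 1, 3, 4, 0, 1, 0, 1, 0, 1, 0, 4, 3, 1, 0, 4, 1, 3, 1, 2, 3, 4, 3, 2, 1, 3, 1, 4,
  0, 1, 3, 4, 0, 1, 4, 3, 1, 0, 4, 1, 3, 1, 2, 3, 2, 0, 1, 3, 1, 4, 3, 1, 2, 3, 4, 3, 2, 1, 3, 1,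
  4, 0, 1, 3, 4, 0, 1, 0, 1, 0, 1, 0, 4, 3, 1, 0, 4, 1, 3, 1, 2, 3, 4, 3, 2, 1, 3, 1, 4, 0, 1, 3,
  4, 1, 0]),
  ([(2, []), (419, [0, 1, 4, 3, 1, 0, 4, 1, 3, 1, 2, 3, 4, 3, 2, 1, 3, 1, 4, 0, 1, 3, 4, 0, 1, 0,
  1, 0, 1, 0, 4, 3, 1, 0, 4, 1, 3, 1, 2, 3, 4, 3, 2, 1, 3, 1, 4, 0, 1, 3, 4, 0, 1, 0, 1, 0, 1, 0,
  4, 3, 1, 0, 4, 1, 3, 1, 2, 3]), (5, [])], [0, 1, 4, 3, 1, 0, 4, 1, 3, 1, 2, 3, 4, 3, 2, 1, 3, 1,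
  4, 0, 1, 3, 4, 0, 1, 0, 1, 0, 1, 0, 4, 3, 1, 0, 4, 1, 3, 1, 2, 3, 4, 3, 2, 1, 3, 1, 4, 0, 1, 3,
  4, 0, 1, 4, 3, 1, 0, 4, 1, 3, 1, 2, 3, 1, 0, 4, 3, 1, 0, 4, 1, 3, 1, 4, 1, 3, 1, 4, 0, 1, 3, 4,
  0, 1, 4, 3, 2, 1, 3, 1, 4, 0, 1, 3, 4, 1, 0, 4, 3, 1, 0, 4, 1, 3, 1, 2, 3, 4, 3, 2, 1, 3, 1, 4,
  0, 1, 3, 4, 0, 1, 0, 1, 0, 1, 0, 4, 3, 1, 0, 4, 1, 3, 1, 2, 3, 4, 3, 2, 1, 3, 1, 4, 0, 1, 3, 4,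
  1, 0])]

/-- derivation xu, part 4 -/
def xu4 : List (List (ℕ × List ℕ) × List ℕ) := [
  ([(1, []), (4, [])], [0, 1, 4, 3, 1, 0, 4, 1, 3, 1, 2, 3, 4, 3, 2, 1, 3, 1, 4, 0, 1, 3, 4, 0, 1,
  0, 1, 0, 1, 0, 4, 3, 1, 0, 4, 1, 3, 1, 2, 3, 4, 3, 2, 1, 3, 1, 4, 0, 1, 3, 4, 0, 1, 4, 3, 1, 0,
  4, 1, 3, 1, 2, 3, 4, 0, 4, 3, 2, 1, 3, 1, 4, 0, 1, 3, 4, 0, 1, 0, 1, 0, 1, 0, 4, 3, 1, 0, 4, 1,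
  3, 1, 2, 3, 4, 3, 2, 1, 3, 1, 4, 0, 1, 3, 4, 0, 1, 0, 1, 0, 1, 0, 4, 3, 1, 0, 4, 1, 3, 1, 2, 3,
  4, 3, 2, 1, 3, 1, 4, 0, 1, 3, 4, 1, 0]),
  ([(0, []), (424, [0, 1, 4, 3, 1, 0, 4, 1, 3, 1, 2, 3, 4, 3, 2, 1, 3, 1, 4, 0, 1, 3, 4, 0, 1, 0,
  1, 0, 1, 0, 4, 3, 1, 0, 4, 1, 3, 1, 2, 3, 4, 3, 2, 1, 3, 1, 4, 0, 1, 3, 4, 0, 1, 0, 1, 0, 1, 0,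
  4, 3, 1, 0, 4, 1, 3, 1, 2, 3, 4]), (307, [])], [0, 1, 4, 3, 1, 0, 4, 1, 3, 1, 2, 3, 4, 3, 2, 1,
  3, 1, 4, 0, 1, 3, 4, 0, 1, 0, 1, 0, 1, 0, 4, 3, 1, 0, 4, 1, 3, 1, 2, 3, 4, 3, 2, 1, 3, 1, 4, 0,
  1, 3, 4, 0, 1, 0, 1, 0, 1, 0, 1, 0, 4, 3, 1, 0, 4, 1, 3, 1, 2, 3, 4, 3, 2, 1, 3, 1, 4, 0, 1, 3,
  4, 0, 1, 0, 1, 0, 1, 0, 4, 3, 1, 0, 4, 1, 3, 1, 2, 3, 4, 3, 2, 1, 3, 1, 4, 0, 1, 3, 1, 4, 1, 0,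
  1, 0, 4, 3, 1, 0, 4, 1, 3, 1, 4, 1, 3, 1, 4, 0, 1, 3, 4, 0, 1, 0]),
  ([(1, []), (6, [])], [0, 1, 0, 4, 3, 1, 0, 4, 1, 3, 1, 4, 1, 3, 1, 4, 0, 1, 3, 4, 0, 1, 0, 1, 4,
  1, 3, 1, 0, 4, 1, 3, 1, 2, 3, 4, 3, 2, 1, 3, 1, 4, 0, 1, 3, 4, 0, 1, 0, 1, 0, 1, 0, 4, 3, 1, 0,
  4, 1, 3, 1, 2, 3, 4, 3, 2, 1, 3, 1, 4, 0, 1, 3, 4, 0, 1, 0, 1, 0, 1, 0, 4, 3, 1, 0, 4, 1, 3, 1,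
  2, 3, 2, 0, 1, 3, 1, 4, 3, 1, 2, 3, 4, 3, 2, 1, 3, 1, 4, 0, 1, 3, 4, 0, 1, 0, 1, 0, 1, 0, 4, 3,
  1, 0, 4, 1, 3, 1, 2, 3, 4, 3, 2, 1, 3, 1, 4, 0, 1, 3, 4, 1, 0]),
  ([(35, []), (2, [])], [0, 1, 4, 3, 1, 0, 4, 1, 3, 1, 2, 3, 4, 3, 2, 1, 3, 1, 4, 0, 1, 3, 4, 0, 1,
  4, 3, 1, 0, 4, 1, 3, 1, 2, 3, 4, 3, 2, 1, 0, 1, 3, 1, 4, 3, 1, 0, 4, 1, 3, 1, 0, 1, 3, 1, 4, 3,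
  1, 4, 0, 1, 3, 4, 0, 1, 0, 1, 0, 1, 0, 4, 3, 1, 0, 4, 1, 3, 1, 2, 3, 4, 3, 2, 1, 3, 1, 4, 0, 1,
  3, 4, 0, 1, 0, 1, 0, 1, 0, 4, 3, 1, 0, 4, 1, 3, 1, 2, 3, 4, 3, 2, 1, 3, 1, 4, 0, 1, 3, 1, 4, 1,
  0, 1, 0, 4, 3, 1, 0, 4, 1, 3, 1, 4, 1, 3, 1, 4, 0, 1, 3, 4, 0, 1, 0]),
  ([(5, []), (26, [])], [0, 1, 0, 4, 3, 1, 0, 4, 1, 3, 1, 4, 1, 3, 1, 4, 0, 1, 3, 4, 0, 1, 0, 1, 4,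
  1, 3, 1, 0, 4, 1, 3, 1, 2, 3, 4, 3, 2, 1, 3, 1, 4, 0, 1, 3, 4, 0, 1, 0, 1, 0, 1, 0, 4, 3, 1, 0,
  4, 1, 3, 1, 2, 3, 4, 3, 2, 1, 3, 1, 4, 0, 1, 3, 4, 0, 1, 0, 1, 0, 1, 0, 4, 3, 1, 0, 4, 1, 3, 1,
  3, 0, 1, 3, 1, 4, 3, 1, 2, 3, 4, 3, 2, 1, 3, 1, 4, 0, 1, 3, 4, 0, 1, 0, 1, 0, 1, 0, 4, 3, 1, 0,
  4, 1, 3, 1, 2, 3, 4, 3, 2, 1, 3, 1, 4, 0, 1, 3, 4, 1, 0]),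
  ([(38, []), (2, [])], [0, 1, 4, 3, 1, 0, 4, 1, 3, 1, 2, 3, 4, 3, 2, 1, 3, 1, 4, 0, 1, 3, 4, 0, 1,
  0, 1, 0, 1, 0, 4, 3, 1, 0, 4, 1, 3, 1, 2, 3, 4, 3, 2, 1, 3, 1, 4, 0, 1, 3, 4, 0, 1, 0, 1, 0, 1,
  0, 1, 0, 4, 3, 1, 0, 4, 1, 3, 1, 2, 3, 4, 3, 2, 1, 3, 1, 4, 0, 1, 3, 4, 0, 1, 0, 1, 0, 1, 0, 4,
  3, 1, 0, 4, 1, 3, 1, 2, 3, 4, 3, 2, 1, 3, 1, 4, 0, 1, 3, 1, 4, 1, 0, 1, 0, 4, 3, 1, 0, 4, 1, 3,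
  1, 4, 1, 3, 1, 4, 0, 1, 3, 4, 0, 1, 0]),
  ([(1, []), (67, [])], [0, 1, 0, 4, 3, 1, 0, 4, 1, 3, 1, 4, 1, 3, 1, 4, 0, 1, 3, 4, 0, 1, 0, 1, 4,
  1, 3, 1, 0, 4, 1, 3, 1, 2, 3, 4, 3, 2, 1, 3, 1, 4, 0, 1, 3, 4, 0, 1, 0, 1, 0, 1, 0, 4, 3, 1, 0,
  4, 1, 3, 1, 2, 3, 4, 3, 2, 1, 3, 1, 4, 0, 1, 3, 4, 0, 1, 0, 1, 0, 1, 0, 4, 0, 3, 1, 0, 4, 1, 3,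
  1, 4, 1, 3, 1, 4, 0, 1, 3, 4, 0, 1, 3, 4, 3, 1, 0, 4, 1, 3, 1, 4, 1, 3, 1, 4, 0, 1, 3, 4, 1, 3,
  1, 0, 1, 2, 3, 4, 3, 2, 1, 3, 1, 4, 0, 1, 3, 4, 1, 0, 4, 3, 1, 0, 4, 1, 3, 1, 2, 3, 4, 3, 2, 1,
  3, 1, 4, 0, 1, 3, 4, 1, 0]),
  ([(3, []), (440, [0, 1, 4, 3, 1, 0, 4, 1, 3, 1, 2, 3, 4, 3, 2, 1, 3, 1, 4, 0, 1, 3, 4, 0, 1, 0,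
  1, 0, 1, 0, 4, 3, 1, 0, 4, 1, 3, 1, 2, 3, 4, 3, 2, 1, 3, 1, 4, 0, 1, 3, 4])], [0, 1, 0, 4, 3, 1,
  0, 4, 1, 3, 1, 4, 1, 3, 1, 4, 0, 1, 3, 4, 0, 1, 0, 1, 4, 1, 3, 1, 0, 4, 1, 3, 1, 2, 3, 4, 3, 2,
  1, 3, 1, 4, 0, 1, 3, 4, 0, 1, 0, 1, 0, 1, 0, 4, 3, 1, 0, 4, 1, 3, 1, 2, 3, 4, 3, 2, 1, 3, 1, 4,
  0, 1, 3, 4, 0, 1, 0, 4, 3, 1, 0, 4, 1, 3, 1, 2, 3, 4, 3, 2, 1, 3, 1, 4, 0, 1, 3, 4, 0, 1, 0, 1,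
  0, 1, 0, 4, 3, 1, 0, 4, 1, 3, 1, 2, 3, 4, 3, 2, 1, 3, 1, 4, 0, 1, 3, 4, 1, 0]),
  ([(96, []), (1, [])], [0, 1, 4, 3, 1, 0, 4, 1, 3, 1, 2, 3, 4, 3, 2, 1, 3, 1, 4, 0, 1, 3, 4, 0, 1,
  4, 3, 1, 0, 4, 1, 3, 1, 2, 3, 4, 3, 2, 1, 0, 1, 3, 1, 4, 3, 1, 0, 4, 1, 3, 1, 4, 1, 3, 1, 4, 0,
  1, 3, 4, 3, 1, 0, 4, 3, 1, 0, 4, 1, 3, 1, 4, 2, 3, 4, 3, 2, 1, 3, 1, 4, 0, 1, 3, 4, 0, 1, 0, 1,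
  0, 1, 0, 4, 3, 1, 0, 4, 1, 3, 1, 2, 3, 4, 3, 2, 1, 3, 1, 4, 0, 1, 3, 1, 4, 1, 0, 1, 0, 4, 3, 1,
  0, 4, 1, 3, 1, 4, 1, 3, 1, 4, 0, 1, 3, 4, 0, 1, 0]),
  ([(1, []), (98, [])], [0, 1, 0, 4, 3, 1, 0, 4, 1, 3, 1, 4, 1, 3, 1, 4, 0, 1, 3, 4, 0, 1, 0, 1, 4,
  1, 3, 1, 0, 4, 1, 3, 1, 2, 3, 4, 3, 2, 1, 3, 1, 4, 0, 1, 3, 4, 0, 1, 0, 1, 0, 1, 0, 4, 3, 1, 0,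
  4, 1, 3, 1, 2, 3, 4, 3, 2, 1, 3, 1, 4, 0, 1, 3, 4, 0, 1, 0, 4, 3, 1, 0, 4, 1, 3, 1, 2, 3, 4, 3,
  2, 1, 3, 1, 4, 0, 1, 3, 4, 0, 1, 0, 1, 0, 1, 0, 4, 3, 1, 0, 4, 1, 3, 1, 2, 3, 4, 3, 2, 1, 3, 1,
  4, 0, 1, 3, 4, 1, 0]),
  ([(3, []), (7, [])], [0, 1, 0, 4, 3, 1, 0, 4, 1, 3, 1, 4, 1, 3, 1, 4, 0, 1, 3, 4, 0, 1, 0, 1, 4,
  1, 3, 1, 0, 4, 1, 3, 1, 2, 3, 4, 3, 2, 1, 3, 1, 4, 0, 1, 3, 4, 0, 1, 0, 1, 0, 1, 0, 4, 3, 1, 0,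
  4, 1, 3, 1, 2, 3, 4, 3, 2, 1, 3, 1, 4, 0, 1, 3, 0, 4, 0, 1, 0, 1, 0, 1, 0, 4, 3, 1, 0, 4, 1, 3,
  1, 2, 3, 4, 3, 2, 1, 3, 1, 4, 0, 1, 3, 4, 0, 1, 0, 1, 0, 1, 0, 4, 3, 1, 0, 4, 1, 3, 1, 2, 3, 4,
  3, 2, 1, 3, 1, 4, 0, 1, 3, 1, 4, 1, 0, 1, 0, 4, 3, 1, 0, 4, 1, 3, 1, 4, 1, 3, 1, 4, 0, 1, 3, 4,
  0, 1, 0]),
  ([(5, []), (68, [])], [0, 1, 0, 4, 3, 1, 0, 4, 1, 3, 1, 4, 1, 3, 1, 4, 0, 1, 3, 4, 0, 1, 0, 1, 4,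
  1, 3, 1, 0, 4, 1, 3, 1, 2, 3, 4, 3, 2, 1, 3, 1, 4, 0, 1, 3, 4, 0, 1, 0, 1, 0, 1, 0, 4, 3, 1, 0,
  4, 1, 3, 1, 2, 3, 4, 3, 2, 0, 1, 3, 1, 4, 0, 1, 3, 4, 0, 1, 0, 1, 0, 1, 0, 4, 3, 1, 0, 4, 1, 3,
  1, 2, 3, 4, 3, 2, 1, 3, 1, 4, 0, 1, 3, 4, 1, 0, 4, 3, 1, 0, 4, 1, 3, 1, 2, 3, 4, 3, 2, 1, 3, 1,
  4, 0, 1, 3, 4, 1, 0]),
  ([(447, [0, 1, 0, 1]), (450, [0, 1, 0, 1, 0, 3])], [0, 1, 0, 1, 3, 1, 0, 1, 0, 1, 3, 0, 1, 0, 1,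
  0]),
  ([(449, [0, 1, 0, 1]), (428, [0, 1, 0, 1, 0, 3]), (1, [])], [0, 1, 0, 1, 3, 1, 0, 4, 3, 1, 0, 4,
  1, 3, 1, 0, 1, 3, 1, 4, 0, 1, 3, 4, 1, 0, 1, 3, 1, 0, 1, 0]),
  ([(2, []), (450, [0, 1, 0, 1, 0, 3, 1])], [0, 1, 0, 1, 3, 1, 0, 1, 3, 0, 3, 1, 3, 0, 1, 0, 1,
  0]),
  ([(394, []), (407, []), (430, [0, 1, 0, 1, 0, 3, 1, 3])], [0, 3, 4, 1, 4, 1, 3, 1, 0, 4, 1, 3, 1,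
  4, 1, 3, 1, 4, 0, 1, 3, 4, 0, 1, 0, 4, 3, 1, 3, 0, 1, 0, 1, 0]),
  ([(0, []), (453, [0, 1, 0, 1, 0, 3, 1, 3])], [0, 3, 4, 1, 4, 1, 3, 1, 0, 4, 1, 3, 1, 4, 1, 3, 1,
  4, 0, 1, 3, 4, 0, 1, 4, 0, 3, 1, 3, 0, 1, 0, 1, 0]),
  ([(0, []), (311, [])], [0, 3, 4, 1, 4, 1, 3, 1, 0, 4, 1, 3, 1, 4, 1, 3, 1, 4, 0, 1, 3, 4, 0, 3,
  1, 4, 1, 3, 1, 4, 0, 1, 3, 4, 0, 1, 3, 4, 3, 1, 0, 4, 1, 3, 1, 4, 1, 3, 1, 4, 0, 1, 3, 4, 1, 3,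
  1, 4, 3, 1, 0, 4, 1, 3, 1, 4, 1, 3, 1, 4, 0, 1, 3, 4, 1, 3, 4, 3, 1, 0, 4, 1, 3, 1, 4, 1, 3, 1,
  4, 0, 1, 3, 4, 1, 3, 4, 1, 0]),
  ([(3, []), (4, [])], [0, 1, 0, 1, 0, 3, 1, 3, 0, 4, 0, 4, 3, 1, 3, 0, 1, 0, 1, 0]),
  ([(402, []), (415, []), (440, [0, 1, 0, 1, 0, 3, 1, 3]), (430, [])], [0, 3, 4, 1, 4, 1, 3, 1, 0,
  4, 1, 3, 1, 0, 1, 3, 1, 4, 0, 1, 3, 4, 3, 0]),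
  ([(304, []), (461, [0, 1, 0, 4, 3, 1, 0, 4, 1, 3, 1, 4, 1, 3, 1, 4, 0, 1, 3, 4, 0, 1, 0, 1]),
  (427, [])], [0, 3, 4, 3, 4, 1, 0, 4, 1, 3, 1, 4, 1, 3, 1, 4, 0, 1, 3, 4, 3, 1, 0, 4, 1, 3, 1, 4,
  0, 1, 3, 1, 4, 0, 1, 3, 4, 0, 1, 0]),
  ([(1, []), (306, [])], [0, 1, 0, 4, 3, 1, 0, 4, 1, 3, 1, 0, 4, 1, 3, 1, 4, 0, 1, 3, 0, 4, 1, 0,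
  1, 0, 4, 3, 1, 0, 4, 1, 3, 1, 4, 1, 3, 1, 4, 0, 1, 3, 4, 0, 1, 0]),
  ([(0, []), (466, [0, 1, 0, 4, 3, 1, 0, 4, 1, 3, 1, 4, 1, 3, 1, 4, 0, 1, 3, 4, 0, 1, 0, 1, 4]),
  (317, [])], [0, 1, 0, 4, 3, 1, 0, 4, 1, 3, 1, 0, 4, 1, 3, 1, 4, 0, 1, 0, 1, 0, 4, 1, 3, 1, 0, 4,
  1, 3, 1, 4, 0, 1, 3, 4, 0, 1, 3, 4, 3, 1, 0, 4, 1, 3, 1, 4, 1, 3, 1, 4, 0, 1, 3, 4, 1, 3, 1, 4,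
  3, 1, 0, 4, 1, 3, 1, 4, 1, 3, 1, 4, 0, 1, 3, 4, 1, 3, 4, 3, 1, 0, 4, 1, 3, 1, 4, 1, 3, 1, 4, 0,
  1, 3, 4, 1, 3, 4, 1, 0]),
  ([(462, [0, 1, 0, 4, 3, 1, 0, 4, 1, 3, 1, 4, 1, 3, 1, 4, 0, 1, 3, 4, 0, 1, 0, 1, 4]), (319, [])],
  [0, 1, 0, 4, 3, 1, 0, 4, 1, 3, 1, 4, 1, 3, 1, 4, 0, 1, 3, 4, 0, 1, 0, 1, 4, 1, 3, 1, 3, 0, 4, 1,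
  3, 1, 0, 4, 1, 3, 1, 4, 0, 1, 3, 4, 0, 1, 3, 4, 3, 1, 0, 4, 1, 3, 1, 4, 1, 3, 1, 4, 0, 1, 3, 4,
  1, 3, 1, 4, 3, 1, 0, 4, 1, 3, 1, 4, 1, 3, 1, 4, 0, 1, 3, 4, 1, 3, 4, 3, 1, 0, 4, 1, 3, 1, 4, 1,
  3, 1, 4, 0, 1, 3, 4, 1, 3, 4, 1, 0]),
  ([(410, []), (421, []), (474, [0, 3, 0, 4]), (423, [])], [0, 1, 0, 1, 0, 3, 1, 3, 0, 4, 3, 1, 0,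
  4, 1, 3, 1, 0, 4, 1, 3, 1, 4, 0, 1, 3, 4, 1, 4, 3, 1, 0, 4, 1, 3, 1, 4, 1, 3, 1, 4, 0, 1, 3, 4,
  0, 3, 1, 3, 0, 1, 0, 1, 0]),
  ([(412, []), (423, []), (452, [0, 3, 0, 4]), (425, [])], [0, 1, 0, 1, 0, 3, 1, 3, 0, 4, 3, 1, 0,
  4, 1, 3, 1, 0, 4, 0, 4, 1, 3, 1, 4, 0, 1, 3, 4, 0, 3, 1, 3, 0, 1, 0, 1, 0]),
  ([(323, []), (478, [0, 3, 0, 4, 3, 4]), (403, [])], [0, 3, 4, 3, 4, 1, 0, 1, 4, 1, 3, 1, 0, 1, 3,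
  1, 4, 0, 1, 3, 1, 4, 1, 0, 1, 0, 4, 3, 1, 0, 4, 1, 3, 1, 4, 1, 3, 1, 4, 0, 1, 3, 4, 0, 1, 0]),
  ([(470, [0, 1, 0, 4, 3, 1, 0, 4, 1, 3, 1, 0, 4]), (367, [])], [0, 1, 0, 4, 3, 1, 0, 4, 1, 3, 1,
  0, 4, 1, 3, 1, 3, 0, 4, 1, 3, 1, 0, 1, 3, 1, 4, 0, 1, 3, 4, 0, 1, 3, 4, 3, 1, 0, 4, 1, 3, 1, 4,
  1, 3, 1, 4, 0, 1, 3, 4, 1, 3, 4, 1, 0]),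
  ([(358, []), (478, [0, 1, 0, 4, 3, 1, 0, 4, 1, 3, 1, 0, 4, 1])], [0, 1, 4, 3, 1, 4, 3, 1, 0, 4,
  1, 3, 1, 4, 1, 3, 1, 4, 0, 1, 3, 4, 3, 1, 4, 3, 1, 0, 4, 1, 3, 1, 4, 1, 3, 1, 4, 0, 1, 3, 4, 3,
  0, 3, 1, 4, 0, 1, 3, 1, 4, 0, 1, 3, 4, 0, 1, 0]),
  ([(0, []), (458, [0, 1, 0, 4, 3, 1, 0, 4, 1, 3, 1, 0, 4, 1, 3])], [0, 1, 4, 3, 1, 4, 3, 1, 0, 4,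
  1, 3, 1, 4, 1, 3, 1, 4, 0, 1, 3, 4, 3, 1, 4, 3, 1, 0, 4, 1, 3, 1, 4, 1, 3, 1, 4, 0, 1, 3, 4, 3,
  1, 0, 4, 3, 1, 0, 4, 1, 3, 1, 4, 1, 3, 1, 4, 0, 1, 3, 4, 0, 1, 0, 4, 3, 1, 4, 0, 1, 3, 1, 4, 0,
  1, 3, 4, 0, 1, 0]),
  ([(474, [0, 1, 0, 4, 3, 1, 0, 4, 1, 3, 1, 0, 4, 1, 3, 1]), (487, [0, 1, 0, 4, 3, 1, 0, 4, 1, 3,
  1, 0, 4, 1, 3, 1, 4]), (14, [])], [0, 1, 0, 4, 3, 1, 0, 4, 1, 3, 1, 0, 4, 1, 3, 4, 3, 1, 0, 4, 1,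
  3, 1, 4, 0, 1, 3, 4, 0, 1, 3, 4, 3, 1, 0, 4, 1, 3, 1, 4, 1, 3, 1, 4, 0, 1, 3, 4, 1, 3, 1, 4, 3,
  1, 0, 4, 1, 3, 1, 4, 1, 3, 1, 4, 0, 1, 3, 4, 1, 3, 4, 3, 1, 0, 4, 1, 3, 1, 4, 1, 3, 1, 4, 0, 1,
  3, 4, 1, 3, 4, 1, 0]),
  ([(1, []), (3, [])], [0, 1, 4, 3, 1, 4, 3, 1, 0, 4, 1, 3, 1, 4, 1, 3, 1, 4, 0, 1, 3, 4, 3, 1, 4,
  3, 1, 0, 4, 1, 3, 1, 4, 1, 3, 1, 4, 0, 1, 3, 4, 1, 3, 1, 4, 3, 1, 0, 4, 1, 3, 1, 4, 1, 3, 1, 4,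
  0, 1, 3, 4, 3, 1, 0, 4, 3, 1, 0, 4, 1, 3, 1, 4, 0, 1, 3, 0, 1, 0, 4, 3, 1, 0, 4, 1, 3, 1, 4, 1,
  3, 1, 4, 0, 1, 3, 4, 0, 1, 3, 4, 3, 1, 0, 4, 1, 3, 1, 4, 1, 3, 1, 4, 0, 1, 3, 4, 1, 3, 4, 3, 1,
  0, 4, 1, 3, 1, 4, 1, 3, 1, 4, 0, 1, 3, 4, 1, 3, 4, 1, 0]),
  ([(303, []), (297, []), (287, []), (468, [0, 1, 0, 4, 3, 1, 0, 4, 1, 3, 1, 4, 1, 3, 1, 4, 0, 1,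
  3, 4, 0, 1, 0, 1, 4, 1, 3]), (290, []), (320, []), (352, []), (281, [])], [0, 1, 0, 4, 3, 1, 0,
  4, 1, 3, 1, 0, 4, 1, 4, 3, 1, 0, 4, 1, 3, 1, 0, 1, 3, 1, 4, 1, 0, 4, 1, 3, 1, 2, 3, 4, 3, 2, 1,
  3, 1, 4, 0, 1, 3, 4, 0, 1, 0, 1, 0, 1, 0, 4, 3, 1, 0, 4, 1, 3, 1, 2, 3, 4, 3, 2, 1, 3, 1, 4, 0,
  1, 3, 4, 0, 1, 0, 1, 0, 1, 0, 4, 3, 1, 0, 4, 1, 3, 1, 2, 3, 4, 3, 2, 0, 1, 3, 1, 4, 0, 1, 3, 1,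
  4, 3, 1, 0, 1, 3, 1, 4, 0, 1, 3, 4, 0, 1, 0]),
  ([(290, []), (488, [0, 1, 0, 4, 3, 1, 0, 4, 1, 3, 1, 4, 1, 3, 1, 4, 0, 1, 3, 4, 0, 1, 0, 1, 4, 1,
  3, 1]), (18, [])], [0, 1, 0, 4, 3, 1, 0, 4, 1, 3, 1, 0, 1, 3, 4, 1, 4, 3, 4, 1, 3, 1, 0, 4, 1, 3,
  1, 4, 0, 1, 3, 4, 0, 1, 3, 4, 3, 1, 0, 4, 1, 3, 1, 4, 1, 3, 1, 4, 0, 1, 3, 4, 1, 3, 1, 4, 3, 1,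
  0, 4, 1, 3, 1, 4, 1, 3, 1, 4, 0, 1, 3, 4, 1, 3, 4, 3, 1, 0, 4, 1, 3, 1, 4, 1, 3, 1, 4, 0, 1, 3,
  4, 1, 3, 4, 1, 0]),
  ([(1, []), (292, [])], [0, 1, 4, 3, 1, 4, 3, 1, 0, 4, 1, 3, 1, 4, 1, 3, 1, 4, 0, 1, 3, 4, 3, 1,
  4, 3, 1, 0, 4, 1, 3, 1, 4, 1, 3, 1, 4, 0, 1, 3, 4, 1, 3, 1, 4, 3, 1, 0, 4, 1, 3, 1, 4, 1, 3, 1,
  4, 0, 1, 3, 4, 3, 1, 0, 4, 3, 1, 0, 4, 1, 3, 1, 4, 0, 1, 3, 1, 4, 3, 0, 1, 3, 1, 4, 1, 0, 1, 0,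
  4, 3, 1, 0, 4, 1, 3, 1, 4, 1, 3, 1, 4, 0, 1, 3, 4, 0, 1, 0]),
  ([(0, []), (478, [0, 1, 0, 4, 3, 1, 0, 4, 1, 3, 1, 4, 1, 3, 1, 4, 0, 1, 3, 4, 0, 1, 0, 1, 4, 1,
  3, 1, 0]), (295, [])], [0, 1, 4, 3, 1, 4, 3, 1, 0, 4, 1, 3, 1, 4, 1, 3, 1, 4, 0, 1, 3, 4, 3, 1,
  4, 3, 1, 0, 4, 1, 3, 1, 4, 1, 3, 1, 4, 0, 1, 3, 4, 1, 3, 1, 4, 3, 1, 0, 4, 1, 3, 1, 4, 1, 3, 1,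
  4, 0, 1, 3, 4, 3, 1, 0, 4, 3, 1, 0, 4, 1, 3, 1, 4, 0, 1, 3, 1, 3, 4, 3, 1, 4, 3, 1, 0, 1, 3, 1,
  4, 0, 1, 3, 4, 0, 1, 0]),
  ([(488, [0, 1, 0, 4, 3, 1, 0, 4, 1, 3, 1, 4, 1, 3, 1, 4, 0, 1, 3, 4, 0, 1, 0, 1, 4, 1, 3, 1, 0,
  4]), (297, [])], [0, 1, 0, 4, 3, 1, 0, 4, 1, 3, 1, 4, 1, 3, 1, 4, 0, 1, 3, 4, 0, 1, 0, 1, 4, 1,
  3, 1, 0, 4, 1, 3, 1, 3, 1, 3, 1, 4, 3, 1, 0, 1, 3, 1, 4, 0, 1, 3, 4, 0, 1, 0]),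
  ([(295, []), (486, [0, 1, 0, 4, 3, 1, 0, 4, 1, 3, 1, 4, 1, 3, 1, 4, 0, 1, 3, 4, 0, 1, 0, 1, 4, 1,
  3, 1, 0, 4, 1])], [0, 1, 0, 4, 3, 1, 0, 4, 1, 3, 1, 0, 1, 2, 3, 4, 2, 4, 3, 2, 3, 1, 4, 0, 1, 3,
  1, 4, 1, 0, 1, 0, 4, 3, 1, 0, 4, 1, 3, 1, 4, 1, 3, 1, 4, 0, 1, 3, 4, 0, 1, 0]),
  ([(494, [0, 1, 0, 4, 3, 1, 0, 4, 1, 3, 1, 4, 1, 3, 1, 4, 0, 1, 3, 4, 0, 1, 0, 1, 4, 1, 3, 1, 0,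
  4, 1, 3]), (1, [])], [0, 1, 0, 4, 3, 1, 0, 4, 1, 3, 1, 4, 1, 3, 1, 4, 0, 1, 3, 4, 0, 1, 0, 1, 4,
  1, 3, 1, 0, 4, 1, 3, 1, 2, 1, 3, 4, 2, 4, 3, 2, 1, 0, 1, 3, 1, 4, 0, 1, 3, 4, 0, 1, 0]),
  ([(297, []), (492, [0, 1, 0, 4, 3, 1, 0, 4, 1, 3, 1, 4, 1, 3, 1, 4, 0, 1, 3, 4, 0, 1, 0, 1, 4, 1,
  3, 1, 0, 4, 1, 3, 1])], [0, 1, 4, 3, 1, 4, 3, 1, 0, 4, 1, 3, 1, 4, 1, 3, 1, 4, 0, 1, 3, 4, 3, 1,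
  0, 4, 3, 1, 4, 1, 4, 1, 3, 1, 4, 0, 1, 3, 1, 4, 1, 0, 1, 0, 4, 3, 1, 0, 4, 1, 3, 1, 4, 1, 3, 1,
  4, 0, 1, 3, 4, 0, 1, 0]),
  ([(426, []), (504, [0, 1, 0, 4, 3, 1, 0, 4, 1, 3, 1, 4, 1, 3, 1, 4, 0, 1, 3, 4, 0, 1, 0, 1, 4, 1,
  3, 1, 0, 4, 1, 3, 1])], [0, 3, 4, 3, 4, 1, 0, 4, 1, 3, 1, 2, 3, 4, 3, 2, 1, 3, 1, 4, 0, 1, 3, 4,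
  0, 1, 0, 1, 0, 1, 0, 4, 3, 1, 0, 4, 1, 3, 1, 2, 3, 4, 3, 2, 1, 3, 1, 4, 0, 1, 3, 4, 0, 1, 0, 1,
  0, 1, 0, 4, 3, 1, 0, 4, 1, 3, 1, 2, 3, 4, 3, 0, 2, 1, 3, 1, 4, 0, 1, 3, 1, 4, 1, 0, 1, 0, 4, 3,
  1, 0, 4, 1, 3, 1, 4, 1, 3, 1, 4, 0, 1, 3, 4, 0, 1, 0]),
  ([(494, [0, 1, 0, 4, 3, 1, 0, 4, 1, 3, 1, 4, 1, 3, 1, 4, 0, 1, 3, 4, 0, 1, 0, 1, 4, 1, 3, 1, 0,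
  4, 1, 3, 1]), (8, [])], [0, 1, 0, 4, 3, 1, 0, 4, 1, 3, 1, 4, 1, 3, 1, 4, 0, 1, 3, 4, 0, 1, 0, 1,
  4, 1, 3, 1, 0, 4, 1, 3, 1, 2, 3, 2, 1, 3, 1, 4, 3, 1, 0, 1, 3, 1, 4, 0, 1, 3, 4, 0, 1, 0]),
  ([(11, []), (492, [0, 1, 0, 4, 3, 1, 0, 4, 1, 3, 1, 4, 1, 3, 1, 4, 0, 1, 3, 4, 0, 1, 0, 1, 4, 1,
  3, 1, 0, 4, 1, 3, 1])], [0, 1, 0, 4, 3, 1, 0, 4, 1, 3, 1, 0, 1, 3, 4, 1, 3, 1, 4, 3, 4, 3, 4, 1,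
  3, 1, 4, 0, 1, 3, 1, 4, 1, 0, 1, 0, 4, 3, 1, 0, 4, 1, 3, 1, 4, 1, 3, 1, 4, 0, 1, 3, 4, 0, 1, 0]),
  ([(4, []), (508, [0, 1, 0, 4, 3, 1, 0, 4, 1, 3, 1, 4, 1, 3, 1, 4, 0, 1, 3, 4, 0, 1, 0, 1, 4, 1,
  3, 1, 0, 4, 1, 3, 1, 2])], [0, 3, 4, 3, 4, 1, 0, 4, 1, 3, 1, 2, 3, 4, 3, 2, 1, 3, 1, 4, 0, 1, 3,
  4, 0, 1, 0, 1, 0, 1, 0, 4, 3, 1, 0, 4, 1, 3, 1, 2, 3, 4, 3, 2, 1, 3, 1, 4, 0, 1, 3, 4, 0, 1, 0,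
  1, 0, 1, 0, 4, 3, 1, 0, 4, 1, 3, 1, 2, 3, 4, 0, 3, 2, 1, 3, 1, 4, 0, 1, 3, 1, 4, 1, 0, 1, 0, 4,
  3, 1, 0, 4, 1, 3, 1, 4, 1, 3, 1, 4, 0, 1, 3, 4, 0, 1, 0]),
  ([(339, []), (397, []), (473, []), (343, []), (312, []), (13, []), (11, []), (494, [0, 1, 0, 4,
  3, 1, 0, 4, 1, 3, 1, 4, 1, 3, 1, 4, 0, 1, 3, 4, 0, 1, 0, 1, 4, 1, 3, 1, 0, 4, 1, 3, 1, 2]), (14,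
  [])], [0, 1, 0, 4, 3, 1, 0, 4, 1, 3, 1, 4, 1, 3, 4, 1, 3, 1, 0, 4, 1, 3, 1, 0, 1, 3, 1, 2, 1, 2,
  3, 4, 1, 3, 1, 4, 3, 1, 0, 1, 3, 1, 4, 0, 1, 3, 4, 0, 1, 0]),
  ([(2, []), (490, [0, 1, 0, 4, 3, 1, 0, 4, 1, 3, 1, 4, 1, 3, 1, 4, 0, 1, 3, 4, 0, 1, 0, 1, 4, 1,
  3, 1, 0, 4, 1, 3, 1, 2, 3])], [0, 3, 4, 3, 4, 1, 0, 4, 1, 3, 1, 2, 3, 4, 3, 2, 1, 3, 1, 4, 0, 1,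
  3, 4, 0, 1, 0, 1, 0, 1, 0, 4, 3, 1, 0, 4, 1, 3, 1, 2, 3, 4, 3, 2, 1, 3, 1, 4, 0, 1, 3, 4, 0, 1,
  0, 1, 0, 1, 0, 4, 3, 1, 0, 4, 1, 3, 1, 2, 3, 4, 1, 0, 4, 3, 1, 0, 4, 1, 3, 1, 4, 1, 3, 1, 4, 0,
  1, 3, 4, 0, 1, 0, 4, 3, 2, 1, 3, 1, 4, 0, 1, 3, 1, 4, 1, 0, 1, 0, 4, 3, 1, 0, 4, 1, 3, 1, 4, 1,
  3, 1, 4, 0, 1, 3, 4, 0, 1, 0]),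
  ([(0, []), (513, [0, 1, 0, 4, 3, 1, 0, 4, 1, 3, 1, 4, 1, 3, 1, 4, 0, 1, 3, 4, 0, 1, 0, 1, 4, 1,
  3, 1, 0, 4, 1, 3, 1, 2, 3]), (5, [])], [0, 3, 4, 3, 4, 1, 0, 4, 1, 3, 1, 2, 3, 4, 3, 2, 1, 3, 1,
  4, 0, 1, 3, 4, 0, 1, 0, 1, 0, 1, 0, 4, 3, 1, 0, 4, 1, 3, 1, 2, 3, 4, 3, 2, 1, 3, 1, 4, 0, 1, 3,
  4, 0, 1, 0, 1, 0, 1, 0, 4, 3, 1, 0, 4, 1, 3, 1, 2, 3, 4, 1, 0, 4, 3, 1, 0, 4, 1, 3, 1, 4, 1, 3,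
  1, 4, 0, 1, 3, 4, 0, 1, 3, 2, 1, 3, 1, 4, 0, 1, 3, 4, 0, 1, 0, 1, 0, 1, 0, 4, 3, 1, 0, 4, 1, 3,
  1, 2, 3, 4, 3, 2, 1, 3, 1, 4, 0, 1, 3, 4, 0, 1, 0, 1, 0, 1, 0, 4, 3, 1, 0, 4, 1, 3, 1, 2, 3, 4,
  3, 2, 1, 3, 1, 4, 0, 1, 4, 3, 4, 3, 0]),
  ([(1, []), (2, [])], [0, 3, 4, 3, 4, 1, 0, 4, 1, 3, 1, 2, 3, 4, 3, 2, 1, 3, 1, 4, 0, 1, 3, 4, 0,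
  1, 0, 1, 0, 1, 0, 4, 3, 1, 0, 4, 1, 3, 1, 2, 3, 4, 3, 2, 1, 3, 1, 4, 0, 1, 3, 4, 0, 1, 0, 1, 0,
  1, 0, 4, 3, 1, 0, 4, 1, 3, 1, 2, 3, 0, 4, 3, 2, 1, 3, 1, 4, 0, 1, 3, 1, 4, 1, 0, 1, 0, 4, 3, 1,
  0, 4, 1, 3, 1, 4, 1, 3, 1, 4, 0, 1, 3, 4, 0, 1, 0]),
  ([(13, []), (506, [0, 1, 0, 4, 3, 1, 0, 4, 1, 3, 1, 4, 1, 3, 1, 4, 0, 1, 3, 4, 0, 1, 0, 1, 4, 1,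
  3, 1, 0, 4, 1, 3, 1, 2, 3])], [0, 1, 0, 4, 3, 1, 0, 4, 1, 3, 1, 0, 1, 3, 4, 1, 3, 1, 4, 2, 4, 2,
  4, 3, 2, 1, 3, 1, 4, 0, 1, 3, 1, 4, 1, 0, 1, 0, 4, 3, 1, 0, 4, 1, 3, 1, 4, 1, 3, 1, 4, 0, 1, 3,
  4, 0, 1, 0]),
  ([(2, []), (520, [0, 1, 0, 4, 3, 1, 0, 4, 1, 3, 1, 4, 1, 3, 1, 4, 0, 1, 3, 4, 0, 1, 0, 1, 4, 1,
  3, 1, 0, 4, 1, 3, 1, 2, 3, 4])], [0, 3, 4, 3, 4, 1, 0, 4, 1, 3, 1, 2, 3, 4, 3, 2, 1, 3, 1, 4, 0,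
  1, 3, 4, 0, 1, 0, 1, 0, 1, 0, 4, 3, 1, 0, 4, 1, 3, 1, 2, 3, 4, 3, 2, 1, 3, 1, 4, 0, 1, 3, 4, 0,
  1, 0, 1, 0, 1, 0, 4, 3, 1, 0, 4, 1, 3, 1, 2, 0, 3, 4, 3, 2, 1, 3, 1, 4, 0, 1, 3, 1, 4, 1, 0, 1,
  0, 4, 3, 1, 0, 4, 1, 3, 1, 4, 1, 3, 1, 4, 0, 1, 3, 4, 0, 1, 0])]

/-- derivation xu, part 5 -/
def xu5 : List (List (ℕ × List ℕ) × List ℕ) := [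
  ([(2, []), (512, [0, 1, 0, 4, 3, 1, 0, 4, 1, 3, 1, 4, 1, 3, 1, 4, 0, 1, 3, 4, 0, 1, 0, 1, 4, 1,
  3, 1, 0, 4, 1, 3, 1, 2, 3, 4])], [0, 1, 0, 4, 3, 1, 0, 4, 1, 3, 1, 0, 1, 3, 4, 1, 3, 1, 4, 2, 4,
  3, 2, 3, 4, 3, 2, 1, 3, 1, 4, 0, 1, 3, 1, 4, 1, 0, 1, 0, 4, 3, 1, 0, 4, 1, 3, 1, 4, 1, 3, 1, 4,
  0, 1, 3, 4, 0, 1, 0]),
  ([(2, []), (526, [0, 1, 0, 4, 3, 1, 0, 4, 1, 3, 1, 4, 1, 3, 1, 4, 0, 1, 3, 4, 0, 1, 0, 1, 4, 1,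
  3, 1, 0, 4, 1, 3, 1, 2, 3, 4, 3])], [0, 3, 4, 3, 4, 1, 0, 4, 1, 3, 1, 2, 3, 4, 3, 2, 1, 3, 1, 4,
  0, 1, 3, 4, 0, 1, 0, 1, 0, 1, 0, 4, 3, 1, 0, 4, 1, 3, 1, 2, 3, 4, 3, 2, 1, 3, 1, 4, 0, 1, 3, 4,
  0, 1, 0, 1, 0, 1, 0, 4, 3, 1, 0, 4, 1, 3, 1, 0, 2, 3, 4, 3, 2, 1, 3, 1, 4, 0, 1, 3, 1, 4, 1, 0,
  1, 0, 4, 3, 1, 0, 4, 1, 3, 1, 4, 1, 3, 1, 4, 0, 1, 3, 4, 0, 1, 0]),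
  ([(520, [0, 1, 0, 4, 3, 1, 0, 4, 1, 3, 1, 4, 1, 3, 1, 4, 0, 1, 3, 4, 0, 1, 0, 1, 4, 1, 3, 1, 0,
  4, 1, 3, 1, 2, 3, 4]), (522, [0, 1, 0, 4, 3, 1, 0, 4, 1, 3, 1, 4, 1, 3, 1, 4, 0, 1, 3, 4, 0, 1,
  0, 1, 4, 1, 3, 1, 0, 4, 1, 3, 1, 2, 3, 4, 3])], [0, 1, 0, 4, 3, 1, 0, 4, 1, 3, 1, 4, 1, 3, 1, 4,
  0, 1, 3, 4, 0, 1, 0, 1, 4, 1, 3, 1, 0, 4, 1, 3, 1, 2, 3, 4, 1, 3, 1, 3, 2, 1, 2, 3, 4, 3, 2, 1,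
  3, 1, 4, 0, 1, 3, 1, 4, 1, 0, 1, 0, 4, 3, 1, 0, 4, 1, 3, 1, 4, 1, 3, 1, 4, 0, 1, 3, 4, 0, 1, 0]),
  ([(1, []), (522, [0, 1, 0, 4, 3, 1, 0, 4, 1, 3, 1, 4, 1, 3, 1, 4, 0, 1, 3, 4, 0, 1, 0, 1, 4, 1,
  3, 1, 0, 4, 1, 3, 1, 2, 3, 4])], [0, 1, 0, 4, 3, 1, 0, 4, 1, 3, 1, 4, 1, 3, 1, 4, 0, 1, 3, 4, 0,
  1, 0, 1, 4, 1, 3, 1, 0, 4, 1, 3, 1, 2, 3, 4, 3, 2, 1, 2, 1, 3, 4, 3, 2, 1, 3, 1, 4, 0, 1, 3, 1,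
  4, 1, 0, 1, 0, 4, 3, 1, 0, 4, 1, 3, 1, 4, 1, 3, 1, 4, 0, 1, 3, 4, 0, 1, 0]),
  ([(0, []), (514, [0, 1, 0, 4, 3, 1, 0, 4, 1, 3, 1, 4, 1, 3, 1, 4, 0, 1, 3, 4, 0, 1, 0, 1, 4, 1,
  3, 1, 0, 4, 1, 3, 1, 2, 3, 4, 3]), (7, [])], [0, 1, 0, 4, 3, 1, 0, 4, 1, 3, 1, 4, 1, 3, 1, 4, 0,
  1, 3, 4, 0, 1, 0, 1, 4, 1, 3, 1, 0, 4, 1, 3, 1, 2, 3, 4, 3, 2, 1, 3, 4, 3, 2, 1, 2, 3, 4, 3, 2,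
  1, 2, 3, 2, 4, 1, 3, 1, 4, 3, 1, 0, 1, 3, 1, 4, 0, 1, 3, 4, 0, 1, 0]),
  ([(6, []), (536, [0, 1, 0, 4, 3, 1, 0, 4, 1, 3, 1, 4, 1, 3, 1, 4, 0, 1, 3, 4, 0, 1, 0, 1, 4, 1,
  3, 1, 0, 4, 1, 3, 1, 2, 3, 4, 3, 2])], [0, 3, 4, 3, 4, 1, 0, 4, 1, 3, 1, 2, 3, 4, 3, 2, 1, 3, 1,
  4, 0, 1, 3, 4, 0, 1, 0, 1, 0, 1, 0, 4, 3, 1, 0, 4, 1, 3, 1, 2, 3, 4, 3, 2, 1, 3, 1, 4, 0, 1, 3,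
  4, 0, 1, 0, 1, 0, 1, 0, 4, 3, 1, 0, 4, 1, 3, 0, 1, 0, 1, 2, 3, 4, 3, 2, 1, 3, 1, 4, 0, 1, 3, 1,
  4, 1, 0, 1, 0, 4, 3, 1, 0, 4, 1, 3, 1, 4, 1, 3, 1, 4, 0, 1, 3, 4, 0, 1, 0]),
  ([(0, []), (534, [0, 1, 0, 4, 3, 1, 0, 4, 1, 3, 1, 4, 1, 3, 1, 4, 0, 1, 3, 4, 0, 1, 0, 1, 4, 1,
  3, 1, 0, 4, 1, 3, 1, 2, 3, 4, 3, 2, 1])], [0, 3, 4, 3, 4, 1, 0, 4, 1, 3, 1, 2, 3, 4, 3, 2, 1, 3,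
  1, 4, 0, 1, 3, 4, 0, 1, 0, 1, 0, 1, 0, 4, 3, 1, 0, 4, 1, 3, 1, 2, 3, 4, 3, 2, 1, 3, 1, 4, 0, 1,
  3, 4, 0, 1, 0, 1, 0, 1, 0, 4, 3, 1, 0, 4, 1, 3, 0, 1, 3, 0, 3, 1, 2, 3, 4, 3, 2, 1, 3, 1, 4, 0,
  1, 3, 1, 4, 1, 0, 1, 0, 4, 3, 1, 0, 4, 1, 3, 1, 4, 1, 3, 1, 4, 0, 1, 3, 4, 0, 1, 0]),
  ([(0, []), (540, [0, 1, 0, 4, 3, 1, 0, 4, 1, 3, 1, 4, 1, 3, 1, 4, 0, 1, 3, 4, 0, 1, 0, 1, 4, 1,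
  3, 1, 0, 4, 1, 3, 1, 2, 3, 4, 3, 2, 1, 3])], [0, 3, 4, 3, 4, 1, 0, 4, 1, 3, 1, 2, 3, 4, 3, 2, 1,
  3, 1, 4, 0, 1, 3, 4, 0, 1, 0, 1, 0, 1, 0, 4, 3, 1, 0, 4, 1, 3, 1, 2, 3, 4, 3, 2, 1, 3, 1, 4, 0,
  1, 3, 4, 0, 1, 0, 1, 0, 1, 0, 4, 3, 1, 0, 4, 1, 3, 0, 1, 3, 1, 0, 1, 0, 1, 3, 1, 2, 3, 4, 3, 2,
  1, 3, 1, 4, 0, 1, 3, 1, 4, 1, 0, 1, 0, 4, 3, 1, 0, 4, 1, 3, 1, 4, 1, 3, 1, 4, 0, 1, 3, 4, 0, 1,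
  0]),
  ([(0, []), (516, [0, 1, 0, 4, 3, 1, 0, 4, 1, 3, 1, 4, 1, 3, 1, 4, 0, 1, 3, 4, 0, 1, 0, 1, 4, 1,
  3, 1, 0, 4, 1, 3, 1, 2, 3, 4, 3, 2, 1, 3, 1])], [0, 3, 4, 3, 4, 1, 0, 4, 1, 3, 1, 2, 3, 4, 3, 2,
  1, 3, 1, 4, 0, 1, 3, 4, 0, 1, 0, 1, 0, 1, 0, 4, 3, 1, 0, 4, 1, 3, 1, 2, 3, 4, 3, 2, 1, 3, 1, 4,
  0, 1, 3, 4, 0, 1, 0, 1, 0, 1, 0, 4, 3, 1, 0, 4, 1, 3, 0, 1, 3, 1, 4, 3, 1, 0, 4, 1, 3, 1, 4, 1,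
  3, 1, 4, 0, 1, 3, 4, 0, 1, 0, 4, 1, 3, 1, 2, 3, 4, 3, 2, 1, 3, 1, 4, 0, 1, 3, 1, 4, 1, 0, 1, 0,
  4, 3, 1, 0, 4, 1, 3, 1, 4, 1, 3, 1, 4, 0, 1, 3, 4, 0, 1, 0]),
  ([(0, []), (544, [0, 1, 0, 4, 3, 1, 0, 4, 1, 3, 1, 4, 1, 3, 1, 4, 0, 1, 3, 4, 0, 1, 0, 1, 4, 1,
  3, 1, 0, 4, 1, 3, 1, 2, 3, 4, 3, 2, 1, 3, 1, 4]), (533, [0, 1, 0, 4, 3, 1, 0, 4, 1, 3, 1, 4, 1,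
  3, 1, 4, 0, 1, 3, 4, 0, 1, 0, 1, 4, 1, 3, 1, 0, 4, 1, 3, 1, 2, 3, 4, 3, 2, 1, 3, 1])], [0, 3, 4,
  3, 4, 1, 0, 4, 1, 3, 1, 2, 3, 4, 3, 2, 1, 3, 1, 4, 0, 1, 3, 4, 0, 1, 0, 1, 0, 1, 0, 4, 3, 1, 0,
  4, 1, 3, 1, 2, 3, 4, 3, 2, 1, 3, 1, 4, 0, 1, 3, 4, 0, 1, 0, 1, 0, 1, 0, 4, 3, 1, 0, 4, 1, 3, 0,
  1, 3, 1, 4, 3, 1, 0, 4, 1, 3, 1, 4, 1, 3, 1, 4, 0, 1, 3, 4, 1, 0, 4, 1, 4, 3, 1, 2, 3, 4, 3, 2,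
  1, 3, 1, 4, 0, 1, 3, 1, 4, 1, 0, 1, 0, 4, 3, 1, 0, 4, 1, 3, 1, 4, 1, 3, 1, 4, 0, 1, 3, 4, 0, 1,
  0]),
  ([(2, []), (542, [0, 1, 0, 4, 3, 1, 0, 4, 1, 3, 1, 4, 1, 3, 1, 4, 0, 1, 3, 4, 0, 1, 0, 1, 4, 1,
  3, 1, 0, 4, 1, 3, 1, 2, 3, 4, 3, 2, 1, 3, 1, 4, 0, 1])], [0, 3, 4, 3, 4, 1, 0, 4, 1, 3, 1, 2, 3,
  4, 3, 2, 1, 3, 1, 4, 0, 1, 3, 4, 0, 1, 0, 1, 0, 1, 0, 4, 3, 1, 0, 4, 1, 3, 1, 2, 3, 4, 3, 2, 1,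
  3, 1, 4, 0, 1, 3, 4, 0, 1, 0, 1, 0, 1, 0, 4, 3, 1, 0, 4, 1, 3, 0, 1, 3, 1, 4, 3, 1, 0, 4, 1, 3,
  1, 4, 1, 3, 1, 4, 0, 1, 3, 4, 3, 0, 3, 1, 0, 4, 1, 3, 1, 2, 3, 4, 3, 2, 1, 3, 1, 4, 0, 1, 3, 1,
  4, 1, 0, 1, 0, 4, 3, 1, 0, 4, 1, 3, 1, 4, 1, 3, 1, 4, 0, 1, 3, 4, 0, 1, 0]),
  ([(0, []), (542, [0, 1, 0, 4, 3, 1, 0, 4, 1, 3, 1, 4, 1, 3, 1, 4, 0, 1, 3, 4, 0, 1, 0, 1, 4, 1,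
  3, 1, 0, 4, 1, 3, 1, 2, 3, 4, 3, 2, 1, 3, 1, 4, 0, 1, 3])], [0, 3, 4, 3, 4, 1, 0, 4, 1, 3, 1, 2,
  3, 4, 3, 2, 1, 3, 1, 4, 0, 1, 3, 4, 0, 1, 0, 1, 0, 1, 0, 4, 3, 1, 0, 4, 1, 3, 1, 2, 3, 4, 3, 2,
  1, 3, 1, 4, 0, 1, 3, 4, 0, 1, 0, 1, 0, 1, 0, 4, 3, 1, 0, 4, 1, 3, 0, 1, 3, 1, 4, 3, 1, 0, 4, 1,
  3, 1, 4, 1, 3, 1, 4, 0, 1, 3, 4, 3, 4, 0, 4, 3, 1, 0, 4, 1, 3, 1, 2, 3, 4, 3, 2, 1, 3, 1, 4, 0,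
  1, 3, 1, 4, 1, 0, 1, 0, 4, 3, 1, 0, 4, 1, 3, 1, 4, 1, 3, 1, 4, 0, 1, 3, 4, 0, 1, 0]),
  ([(0, []), (551, [0, 1, 0, 4, 3, 1, 0, 4, 1, 3, 1, 4, 1, 3, 1, 4, 0, 1, 3, 4, 0, 1, 0, 1, 4, 1,
  3, 1, 0, 4, 1, 3, 1, 2, 3, 4, 3, 2, 1, 3, 1, 4, 0, 1, 3, 4])], [0, 3, 4, 3, 4, 1, 0, 4, 1, 3, 1,
  2, 3, 4, 3, 2, 1, 3, 1, 4, 0, 1, 3, 4, 0, 1, 0, 1, 0, 1, 0, 4, 3, 1, 0, 4, 1, 3, 1, 2, 3, 4, 3,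
  2, 1, 3, 1, 4, 0, 1, 3, 4, 0, 1, 0, 1, 0, 1, 0, 4, 3, 1, 0, 4, 1, 3, 0, 1, 3, 1, 4, 3, 1, 0, 4,
  1, 3, 1, 4, 1, 3, 1, 4, 0, 1, 3, 4, 3, 4, 0, 1, 0, 1, 0, 1, 0, 4, 3, 1, 0, 4, 1, 3, 1, 2, 3, 4,
  3, 2, 1, 3, 1, 4, 0, 1, 3, 1, 4, 1, 0, 1, 0, 4, 3, 1, 0, 4, 1, 3, 1, 4, 1, 3, 1, 4, 0, 1, 3, 4,
  0, 1, 0]),
  ([(7, []), (0, [])], [0, 1, 0, 4, 3, 1, 0, 4, 1, 3, 1, 4, 1, 3, 1, 4, 0, 1, 3, 4, 0, 1, 0, 1, 4,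
  1, 3, 1, 0, 4, 1, 3, 1, 2, 3, 4, 3, 2, 1, 3, 4, 1, 4, 0, 1, 3, 4, 0, 1, 0, 1, 0, 1, 0, 4, 3, 1,
  0, 4, 1, 3, 1, 2, 3, 4, 3, 2, 1, 3, 1, 4, 0, 1, 3, 1, 4, 1, 0, 1, 0, 4, 3, 1, 0, 4, 1, 3, 1, 4,
  1, 3, 1, 4, 0, 1, 3, 4, 0, 1, 0]),
  ([(544, [0, 1, 0, 4, 3, 1, 0, 4, 1, 3, 1, 4, 1, 3, 1, 4, 0, 1, 3, 4, 0, 1, 0, 1, 4, 1, 3, 1, 0,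
  4, 1, 3, 1, 2, 3, 4, 3, 2, 1, 3, 1, 4, 0, 1, 3, 4, 0, 1, 0, 1, 0, 1, 0, 4, 3, 1, 0, 4]), (1,
  [])], [0, 1, 0, 4, 3, 1, 0, 4, 1, 3, 1, 4, 1, 3, 1, 4, 0, 1, 3, 4, 0, 1, 0, 1, 4, 1, 3, 1, 0, 4,
  1, 3, 1, 2, 3, 4, 3, 2, 1, 3, 1, 4, 0, 1, 3, 4, 0, 1, 0, 1, 0, 1, 0, 4, 3, 1, 0, 4, 1, 3, 1, 3,
  1, 3, 1, 4, 3, 1, 2, 3, 4, 3, 2, 1, 3, 1, 4, 0, 1, 3, 1, 4, 1, 0, 1, 0, 4, 3, 1, 0, 4, 1, 3, 1,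
  4, 1, 3, 1, 4, 0, 1, 3, 4, 0, 1, 0]),
  ([(2, []), (549, [0, 1, 0, 4, 3, 1, 0, 4, 1, 3, 1, 4, 1, 3, 1, 4, 0, 1, 3, 4, 0, 1, 0, 1, 4, 1,
  3, 1, 0, 4, 1, 3, 1, 2, 3, 4, 3, 2, 1, 3, 1, 4, 0, 1, 3, 4, 0, 1, 0, 1, 0, 1, 0, 4, 3, 1, 0, 4,
  1, 3])], [0, 1, 0, 4, 3, 1, 0, 4, 1, 3, 1, 4, 1, 3, 1, 4, 0, 1, 3, 4, 0, 1, 0, 1, 4, 1, 3, 1, 0,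
  4, 1, 3, 1, 2, 3, 4, 3, 2, 1, 3, 4, 3, 2, 1, 2, 1, 3, 1, 4, 0, 1, 3, 4, 0, 1, 0, 1, 0, 1, 0, 4,
  3, 1, 0, 4, 1, 3, 1, 2, 3, 4, 3, 2, 1, 3, 1, 4, 0, 1, 3, 1, 4, 1, 0, 1, 0, 4, 3, 1, 0, 4, 1, 3,
  1, 4, 1, 3, 1, 4, 0, 1, 3, 4, 0, 1, 0]),
  ([(3, []), (1, [])], [0, 1, 0, 4, 3, 1, 0, 4, 1, 3, 1, 4, 1, 3, 1, 4, 0, 1, 3, 4, 0, 1, 0, 1, 4,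
  1, 3, 1, 0, 4, 1, 3, 1, 2, 3, 4, 3, 2, 1, 3, 4, 1, 3, 1, 3, 2, 1, 2, 3, 4, 3, 1, 2, 3, 4, 3, 2,
  1, 3, 1, 4, 0, 1, 3, 1, 4, 1, 0, 1, 0, 4, 3, 1, 0, 4, 1, 3, 1, 4, 1, 3, 1, 4, 0, 1, 3, 4, 0, 1,
  0]),
  ([(1, []), (5, [])], [0, 1, 0, 4, 3, 1, 0, 4, 1, 3, 1, 4, 1, 3, 1, 4, 0, 1, 3, 4, 0, 1, 0, 1, 4,
  1, 3, 1, 0, 4, 1, 3, 1, 2, 3, 4, 3, 2, 1, 3, 4, 3, 2, 1, 2, 1, 3, 1, 4, 0, 1, 3, 4, 0, 1, 0, 1,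
  0, 1, 0, 4, 3, 1, 0, 4, 1, 3, 1, 2, 3, 4, 3, 2, 1, 3, 1, 4, 0, 1, 3, 1, 4, 1, 0, 1, 0, 4, 3, 1,
  0, 4, 1, 3, 1, 4, 1, 3, 1, 4, 0, 1, 3, 4, 0, 1, 0]),
  ([(548, [0, 1, 0, 4, 3, 1, 0, 4, 1, 3, 1, 4, 1, 3, 1, 4, 0, 1, 3, 4, 0, 1, 0, 1, 4, 1, 3, 1, 0,
  4, 1, 3, 1, 2, 3, 4, 3, 2, 1, 3, 1, 4, 0, 1, 3, 4, 0, 1, 0, 1, 0, 1, 0, 4, 3, 1, 0, 4, 1, 3, 1]),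
  (1, [])], [0, 1, 0, 4, 3, 1, 0, 4, 1, 3, 1, 4, 1, 3, 1, 4, 0, 1, 3, 4, 0, 1, 0, 1, 4, 1, 3, 1, 0,
  4, 1, 3, 1, 2, 3, 4, 3, 2, 1, 3, 1, 4, 0, 1, 3, 4, 0, 1, 0, 1, 0, 1, 0, 4, 3, 1, 0, 4, 1, 3, 1,
  2, 3, 2, 3, 2, 1, 2, 3, 4, 3, 1, 2, 3, 4, 3, 2, 1, 3, 1, 4, 0, 1, 3, 1, 4, 1, 0, 1, 0, 4, 3, 1,
  0, 4, 1, 3, 1, 4, 1, 3, 1, 4, 0, 1, 3, 4, 0, 1, 0]),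
  ([(1, []), (548, [0, 1, 0, 4, 3, 1, 0, 4, 1, 3, 1, 4, 1, 3, 1, 4, 0, 1, 3, 4, 0, 1, 0, 1, 4, 1,
  3, 1, 0, 4, 1, 3, 1, 2, 3, 4, 3, 2, 1, 3, 1, 4, 0, 1, 3, 4, 0, 1, 0, 1, 0, 1, 0, 4, 3, 1, 0, 4,
  1, 3, 1, 2, 3])], [0, 1, 0, 4, 3, 1, 0, 4, 1, 3, 1, 4, 1, 3, 1, 4, 0, 1, 3, 4, 0, 1, 0, 1, 4, 1,
  3, 1, 0, 4, 1, 3, 1, 2, 3, 4, 3, 2, 1, 3, 4, 3, 2, 1, 2, 3, 4, 2, 4, 2, 4, 3, 2, 1, 3, 1, 4, 0,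
  1, 3, 4, 0, 1, 0, 1, 0, 1, 0, 4, 3, 1, 0, 4, 1, 3, 1, 2, 3, 4, 3, 2, 1, 3, 1, 4, 0, 1, 3, 1, 4,
  1, 0, 1, 0, 4, 3, 1, 0, 4, 1, 3, 1, 4, 1, 3, 1, 4, 0, 1, 3, 4, 0, 1, 0]),
  ([(0, []), (552, [0, 1, 0, 4, 3, 1, 0, 4, 1, 3, 1, 4, 1, 3, 1, 4, 0, 1, 3, 4, 0, 1, 0, 1, 4, 1,
  3, 1, 0, 4, 1, 3, 1, 2, 3, 4, 3, 2, 1, 3, 1, 4, 0, 1, 3, 4, 0, 1, 0, 1, 0, 1, 0, 4, 3, 1, 0, 4,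
  1, 3, 1, 2, 3, 4])], [0, 1, 0, 4, 3, 1, 0, 4, 1, 3, 1, 4, 1, 3, 1, 4, 0, 1, 3, 4, 0, 1, 0, 1, 4,
  1, 3, 1, 0, 4, 1, 3, 1, 2, 3, 4, 3, 2, 1, 3, 4, 3, 2, 1, 2, 3, 4, 2, 4, 3, 2, 3, 4, 3, 2, 1, 3,
  1, 4, 0, 1, 3, 4, 0, 1, 0, 1, 0, 1, 0, 4, 3, 1, 0, 4, 1, 3, 1, 2, 3, 4, 3, 2, 1, 3, 1, 4, 0, 1,
  3, 1, 4, 1, 0, 1, 0, 4, 3, 1, 0, 4, 1, 3, 1, 4, 1, 3, 1, 4, 0, 1, 3, 4, 0, 1, 0]),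
  ([(560, [0, 1, 0, 4, 3, 1, 0, 4, 1, 3, 1, 4, 1, 3, 1, 4, 0, 1, 3, 4, 0, 1, 0, 1, 4, 1, 3, 1, 0,
  4, 1, 3, 1, 2, 3, 4, 3, 2, 1, 3, 1, 4, 0, 1, 3, 4, 0, 1, 0, 1, 0, 1, 0, 4, 3, 1, 0, 4, 1, 3, 1,
  2, 3, 4]), (3, [])], [0, 1, 0, 4, 3, 1, 0, 4, 1, 3, 1, 4, 1, 3, 1, 4, 0, 1, 3, 4, 0, 1, 0, 1, 4,
  1, 3, 1, 0, 4, 1, 3, 1, 2, 3, 4, 3, 2, 1, 3, 1, 4, 0, 1, 3, 4, 0, 1, 0, 1, 0, 1, 0, 4, 3, 1, 0,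
  4, 1, 3, 1, 2, 3, 4, 1, 2, 1, 4, 2, 4, 3, 2, 1, 2, 3, 4, 3, 1, 2, 3, 4, 3, 2, 1, 3, 1, 4, 0, 1,
  3, 1, 4, 1, 0, 1, 0, 4, 3, 1, 0, 4, 1, 3, 1, 4, 1, 3, 1, 4, 0, 1, 3, 4, 0, 1, 0]),
  ([(560, [0, 1, 0, 4, 3, 1, 0, 4, 1, 3, 1, 4, 1, 3, 1, 4, 0, 1, 3, 4, 0, 1, 0, 1, 4, 1, 3, 1, 0,
  4, 1, 3, 1, 2, 3, 4, 3, 2, 1, 3, 1, 4, 0, 1, 3, 4, 0, 1, 0, 1, 0, 1, 0, 4, 3, 1, 0, 4, 1, 3, 1,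
  2, 3, 4]), (562, [0, 1, 0, 4, 3, 1, 0, 4, 1, 3, 1, 4, 1, 3, 1, 4, 0, 1, 3, 4, 0, 1, 0, 1, 4, 1,
  3, 1, 0, 4, 1, 3, 1, 2, 3, 4, 3, 2, 1, 3, 1, 4, 0, 1, 3, 4, 0, 1, 0, 1, 0, 1, 0, 4, 3, 1, 0, 4,
  1, 3, 1, 2, 3, 4, 3])], [0, 1, 0, 4, 3, 1, 0, 4, 1, 3, 1, 4, 1, 3, 1, 4, 0, 1, 3, 4, 0, 1, 0, 1,
  4, 1, 3, 1, 0, 4, 1, 3, 1, 2, 3, 4, 3, 2, 1, 3, 1, 4, 0, 1, 3, 4, 0, 1, 0, 1, 0, 1, 0, 4, 3, 1,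
  0, 4, 1, 3, 1, 2, 3, 4, 1, 3, 1, 3, 2, 1, 2, 3, 4, 3, 2, 1, 3, 1, 4, 0, 1, 3, 4, 0, 1, 0, 1, 0,
  1, 0, 4, 3, 1, 0, 4, 1, 3, 1, 2, 3, 4, 3, 2, 1, 3, 1, 4, 0, 1, 3, 1, 4, 1, 0, 1, 0, 4, 3, 1, 0,
  4, 1, 3, 1, 4, 1, 3, 1, 4, 0, 1, 3, 4, 0, 1, 0]),
  ([(1, []), (562, [0, 1, 0, 4, 3, 1, 0, 4, 1, 3, 1, 4, 1, 3, 1, 4, 0, 1, 3, 4, 0, 1, 0, 1, 4, 1,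
  3, 1, 0, 4, 1, 3, 1, 2, 3, 4, 3, 2, 1, 3, 1, 4, 0, 1, 3, 4, 0, 1, 0, 1, 0, 1, 0, 4, 3, 1, 0, 4,
  1, 3, 1, 2, 3, 4])], [0, 1, 0, 4, 3, 1, 0, 4, 1, 3, 1, 4, 1, 3, 1, 4, 0, 1, 3, 4, 0, 1, 0, 1, 4,
  1, 3, 1, 0, 4, 1, 3, 1, 2, 3, 4, 3, 2, 1, 3, 1, 4, 0, 1, 3, 4, 0, 1, 0, 1, 0, 1, 0, 4, 3, 1, 0,
  4, 1, 3, 1, 2, 3, 4, 3, 2, 1, 2, 1, 3, 4, 3, 2, 1, 3, 1, 4, 0, 1, 3, 4, 0, 1, 0, 1, 0, 1, 0, 4,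
  3, 1, 0, 4, 1, 3, 1, 2, 3, 4, 3, 2, 1, 3, 1, 4, 0, 1, 3, 1, 4, 1, 0, 1, 0, 4, 3, 1, 0, 4, 1, 3,
  1, 4, 1, 3, 1, 4, 0, 1, 3, 4, 0, 1, 0]),
  ([(0, []), (554, [0, 1, 0, 4, 3, 1, 0, 4, 1, 3, 1, 4, 1, 3, 1, 4, 0, 1, 3, 4, 0, 1, 0, 1, 4, 1,
  3, 1, 0, 4, 1, 3, 1, 2, 3, 4, 3, 2, 1, 3, 1, 4, 0, 1, 3, 4, 0, 1, 0, 1, 0, 1, 0, 4, 3, 1, 0, 4,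
  1, 3, 1, 2, 3, 4, 3]), (7, [])], [0, 1, 0, 4, 3, 1, 0, 4, 1, 3, 1, 4, 1, 3, 1, 4, 0, 1, 3, 4, 0,
  1, 0, 1, 4, 1, 3, 1, 0, 4, 1, 3, 1, 2, 3, 4, 3, 2, 1, 3, 1, 4, 0, 1, 3, 4, 0, 1, 0, 1, 0, 1, 0,
  4, 3, 1, 0, 4, 1, 3, 1, 2, 3, 4, 3, 2, 1, 3, 4, 3, 2, 1, 2, 3, 4, 3, 2, 1, 2, 3, 2, 4, 3, 2, 1,
  2, 3, 4, 3, 1, 2, 3, 4, 3, 2, 1, 3, 1, 4, 0, 1, 3, 1, 4, 1, 0, 1, 0, 4, 3, 1, 0, 4, 1, 3, 1, 4,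
  1, 3, 1, 4, 0, 1, 3, 4, 0, 1, 0]),
  ([(127, []), (576, [0, 1, 0, 4, 3, 1, 0, 4, 1, 3, 1, 4, 1, 3, 1, 4, 0, 1, 3, 4, 0, 1, 0, 1, 4, 1,
  3, 1, 0, 4, 1, 3, 1, 2, 3, 4, 3, 2, 1, 3, 1, 4, 0, 1, 3, 4, 0, 1, 0, 1, 0, 1, 0, 4, 3, 1, 0, 4,
  1, 3, 1, 2, 3, 4, 3, 2])], [0, 1, 4, 3, 1, 0, 4, 1, 3, 1, 2, 3, 4, 3, 2, 1, 3, 1, 4, 0, 1, 3, 4,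
  0, 1, 4, 3, 1, 0, 4, 1, 3, 1, 2, 3, 4, 3, 2, 1, 3, 1, 4, 0, 1, 3, 4, 0, 1, 0, 1, 0, 1, 0, 4, 3,
  1, 0, 4, 1, 3, 0, 1, 0, 1, 2, 3, 4, 3, 2, 1, 3, 1, 4, 0, 1, 3, 4, 0, 1, 0, 1, 0, 1, 0, 4, 3, 1,
  0, 4, 1, 3, 1, 2, 3, 4, 3, 2, 1, 3, 1, 4, 0, 1, 3, 1, 4, 1, 0, 1, 0, 4, 3, 1, 0, 4, 1, 3, 1, 4,
  1, 3, 1, 4, 0, 1, 3, 4, 0, 1, 0]),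
  ([(8, []), (10, []), (569, [0, 1, 0, 4, 3, 1, 0, 4, 1, 3, 1, 4, 1, 3, 1, 4, 0, 1, 3, 4, 0, 1, 0,
  1, 4, 1, 3, 1, 0, 4, 1, 3, 1, 2, 3, 4, 3, 2, 1, 3, 1, 4, 0, 1, 3, 4, 0, 1, 0, 1, 0, 1, 0, 4, 3,
  1, 0, 4, 1, 3, 1, 2, 3, 4, 3, 2])], [0, 1, 0, 4, 3, 1, 0, 4, 1, 3, 1, 4, 1, 3, 1, 4, 0, 1, 3, 4,
  0, 1, 0, 1, 4, 1, 3, 1, 0, 4, 1, 3, 1, 2, 3, 4, 3, 2, 1, 3, 1, 4, 0, 1, 3, 4, 0, 1, 0, 1, 0, 1,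
  0, 4, 3, 1, 0, 4, 1, 3, 1, 2, 3, 4, 1, 2, 3, 1, 3, 1, 2, 3, 4, 3, 2, 1, 3, 1, 4, 0, 1, 3, 4, 0,
  1, 0, 1, 0, 1, 0, 4, 3, 1, 0, 4, 1, 3, 1, 2, 3, 4, 3, 2, 1, 3, 1, 4, 0, 1, 3, 1, 4, 1, 0, 1, 0,
  4, 3, 1, 0, 4, 1, 3, 1, 4, 1, 3, 1, 4, 0, 1, 3, 4, 0, 1, 0]),
  ([(2, []), (576, [0, 1, 0, 4, 3, 1, 0, 4, 1, 3, 1, 4, 1, 3, 1, 4, 0, 1, 3, 4, 0, 1, 0, 1, 4, 1,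
  3, 1, 0, 4, 1, 3, 1, 2, 3, 4, 3, 2, 1, 3, 1, 4, 0, 1, 3, 4, 0, 1, 0, 1, 0, 1, 0, 4, 3, 1, 0, 4,
  1, 3, 1, 2, 3, 4, 3, 2, 1])], [0, 1, 4, 3, 1, 0, 4, 1, 3, 1, 2, 3, 4, 3, 2, 1, 3, 1, 4, 0, 1, 3,
  4, 0, 1, 4, 3, 1, 0, 4, 1, 3, 1, 2, 3, 4, 3, 2, 1, 3, 1, 4, 0, 1, 3, 4, 0, 1, 0, 1, 0, 1, 0, 4,
  3, 1, 0, 4, 1, 3, 0, 1, 3, 0, 3, 1, 2, 3, 4, 3, 2, 1, 3, 1, 4, 0, 1, 3, 4, 0, 1, 0, 1, 0, 1, 0,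
  4, 3, 1, 0, 4, 1, 3, 1, 2, 3, 4, 3, 2, 1, 3, 1, 4, 0, 1, 3, 1, 4, 1, 0, 1, 0, 4, 3, 1, 0, 4, 1,
  3, 1, 4, 1, 3, 1, 4, 0, 1, 3, 4, 0, 1, 0]),
  ([(0, []), (582, [0, 1, 0, 4, 3, 1, 0, 4, 1, 3, 1, 4, 1, 3, 1, 4, 0, 1, 3, 4, 0, 1, 0, 1, 4, 1,
  3, 1, 0, 4, 1, 3, 1, 2, 3, 4, 3, 2, 1, 3, 1, 4, 0, 1, 3, 4, 0, 1, 0, 1, 0, 1, 0, 4, 3, 1, 0, 4,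
  1, 3, 1, 2, 3, 4, 3, 2, 1, 3])], [0, 1, 4, 3, 1, 0, 4, 1, 3, 1, 2, 3, 4, 3, 2, 1, 3, 1, 4, 0, 1,
  3, 4, 0, 1, 4, 3, 1, 0, 4, 1, 3, 1, 2, 3, 4, 3, 2, 1, 3, 1, 4, 0, 1, 3, 4, 0, 1, 0, 1, 0, 1, 0,
  4, 3, 1, 0, 4, 1, 3, 0, 1, 3, 1, 0, 1, 0, 1, 3, 1, 2, 3, 4, 3, 2, 1, 3, 1, 4, 0, 1, 3, 4, 0, 1,
  0, 1, 0, 1, 0, 4, 3, 1, 0, 4, 1, 3, 1, 2, 3, 4, 3, 2, 1, 3, 1, 4, 0, 1, 3, 1, 4, 1, 0, 1, 0, 4,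
  3, 1, 0, 4, 1, 3, 1, 4, 1, 3, 1, 4, 0, 1, 3, 4, 0, 1, 0]),
  ([(0, []), (558, [0, 1, 0, 4, 3, 1, 0, 4, 1, 3, 1, 4, 1, 3, 1, 4, 0, 1, 3, 4, 0, 1, 0, 1, 4, 1,
  3, 1, 0, 4, 1, 3, 1, 2, 3, 4, 3, 2, 1, 3, 1, 4, 0, 1, 3, 4, 0, 1, 0, 1, 0, 1, 0, 4, 3, 1, 0, 4,
  1, 3, 1, 2, 3, 4, 3, 2, 1, 3, 1])], [0, 1, 4, 3, 1, 0, 4, 1, 3, 1, 2, 3, 4, 3, 2, 1, 3, 1, 4, 0,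
  1, 3, 4, 0, 1, 4, 3, 1, 0, 4, 1, 3, 1, 2, 3, 4, 3, 2, 1, 3, 1, 4, 0, 1, 3, 4, 0, 1, 0, 1, 0, 1,
  0, 4, 3, 1, 0, 4, 1, 3, 0, 1, 3, 1, 4, 3, 1, 0, 4, 1, 3, 1, 4, 1, 3, 1, 4, 0, 1, 3, 4, 0, 1, 0,
  4, 1, 3, 1, 2, 3, 4, 3, 2, 1, 3, 1, 4, 0, 1, 3, 4, 0, 1, 0, 1, 0, 1, 0, 4, 3, 1, 0, 4, 1, 3, 1,
  2, 3, 4, 3, 2, 1, 3, 1, 4, 0, 1, 3, 1, 4, 1, 0, 1, 0, 4, 3, 1, 0, 4, 1, 3, 1, 4, 1, 3, 1, 4, 0,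
  1, 3, 4, 0, 1, 0]),
  ([(0, []), (586, [0, 1, 0, 4, 3, 1, 0, 4, 1, 3, 1, 4, 1, 3, 1, 4, 0, 1, 3, 4, 0, 1, 0, 1, 4, 1,
  3, 1, 0, 4, 1, 3, 1, 2, 3, 4, 3, 2, 1, 3, 1, 4, 0, 1, 3, 4, 0, 1, 0, 1, 0, 1, 0, 4, 3, 1, 0, 4,
  1, 3, 1, 2, 3, 4, 3, 2, 1, 3, 1, 4]), (575, [0, 1, 0, 4, 3, 1, 0, 4, 1, 3, 1, 4, 1, 3, 1, 4, 0,
  1, 3, 4, 0, 1, 0, 1, 4, 1, 3, 1, 0, 4, 1, 3, 1, 2, 3, 4, 3, 2, 1, 3, 1, 4, 0, 1, 3, 4, 0, 1, 0,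
  1, 0, 1, 0, 4, 3, 1, 0, 4, 1, 3, 1, 2, 3, 4, 3, 2, 1, 3, 1])], [0, 1, 4, 3, 1, 0, 4, 1, 3, 1, 2,
  3, 4, 3, 2, 1, 3, 1, 4, 0, 1, 3, 4, 0, 1, 4, 3, 1, 0, 4, 1, 3, 1, 2, 3, 4, 3, 2, 1, 3, 1, 4, 0,
  1, 3, 4, 0, 1, 0, 1, 0, 1, 0, 4, 3, 1, 0, 4, 1, 3, 0, 1, 3, 1, 4, 3, 1, 0, 4, 1, 3, 1, 4, 1, 3,
  1, 4, 0, 1, 3, 4, 1, 0, 4, 1, 4, 3, 1, 2, 3, 4, 3, 2, 1, 3, 1, 4, 0, 1, 3, 4, 0, 1, 0, 1, 0, 1,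
  0, 4, 3, 1, 0, 4, 1, 3, 1, 2, 3, 4, 3, 2, 1, 3, 1, 4, 0, 1, 3, 1, 4, 1, 0, 1, 0, 4, 3, 1, 0, 4,
  1, 3, 1, 4, 1, 3, 1, 4, 0, 1, 3, 4, 0, 1, 0]),
  ([(2, []), (584, [0, 1, 0, 4, 3, 1, 0, 4, 1, 3, 1, 4, 1, 3, 1, 4, 0, 1, 3, 4, 0, 1, 0, 1, 4, 1,
  3, 1, 0, 4, 1, 3, 1, 2, 3, 4, 3, 2, 1, 3, 1, 4, 0, 1, 3, 4, 0, 1, 0, 1, 0, 1, 0, 4, 3, 1, 0, 4,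
  1, 3, 1, 2, 3, 4, 3, 2, 1, 3, 1, 4, 0, 1]), (140, [])], [0, 1, 4, 3, 1, 0, 4, 1, 3, 1, 2, 3, 4,
  3, 2, 1, 3, 1, 4, 0, 1, 3, 4, 0, 1, 4, 3, 1, 0, 4, 1, 3, 1, 2, 3, 4, 3, 2, 1, 3, 1, 4, 0, 1, 3,
  4, 0, 1, 0, 1, 0, 1, 0, 4, 3, 1, 0, 4, 1, 3, 0, 1, 3, 1, 4, 3, 1, 0, 4, 1, 3, 1, 4, 1, 3, 1, 4,
  0, 1, 3, 4, 3, 4, 0, 1, 0, 1, 0, 1, 0, 4, 3, 1, 0, 4, 1, 3, 1, 2, 3, 4, 3, 2, 1, 3, 1, 4, 0, 1,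
  3, 4, 0, 1, 0, 1, 0, 1, 0, 4, 3, 1, 0, 4, 1, 3, 1, 2, 3, 4, 3, 2, 1, 3, 1, 4, 0, 1, 3, 1, 4, 1,
  0, 1, 0, 4, 3, 1, 0, 4, 1, 3, 1, 4, 1, 3, 1, 4, 0, 1, 3, 4, 0, 1, 0]),
  ([(3, []), (0, [])], [0, 1, 0, 4, 3, 1, 0, 4, 1, 3, 1, 4, 1, 3, 1, 4, 0, 1, 3, 4, 0, 1, 0, 1, 4,
  1, 3, 1, 0, 4, 1, 3, 1, 2, 3, 4, 3, 2, 1, 3, 1, 4, 0, 1, 3, 4, 0, 1, 0, 1, 0, 1, 0, 4, 3, 1, 0,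
  4, 1, 3, 1, 2, 3, 4, 3, 2, 1, 3, 4, 1, 4, 0, 1, 3, 4, 0, 1, 0, 1, 0, 1, 0, 4, 3, 1, 0, 4, 1, 3,
  1, 2, 3, 4, 3, 2, 1, 3, 1, 4, 0, 1, 3, 4, 0, 1, 0, 1, 0, 1, 0, 4, 3, 1, 0, 4, 1, 3, 1, 2, 3, 4,
  3, 2, 1, 3, 1, 4, 0, 1, 3, 1, 4, 1, 0, 1, 0, 4, 3, 1, 0, 4, 1, 3, 1, 4, 1, 3, 1, 4, 0, 1, 3, 4,
  0, 1, 0]),
  ([(0, []), (419, [])], [0, 1, 0, 4, 3, 1, 0, 4, 1, 3, 1, 4, 1, 3, 1, 4, 0, 1, 3, 4, 0, 1, 0, 1,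
  4, 1, 3, 1, 0, 4, 1, 3, 1, 2, 3, 4, 3, 2, 1, 3, 1, 4, 0, 1, 3, 4, 0, 1, 0, 1, 0, 1, 0, 4, 3, 1,
  0, 4, 1, 3, 1, 2, 3, 4, 3, 2, 1, 3, 4, 3, 2, 3, 4, 3, 2, 1, 2, 3, 4, 3, 2, 1, 0, 1, 3, 1, 4, 0,
  1, 3, 4, 0, 1, 0]),
  ([(164, []), (586, [0, 1, 0, 4, 3, 1, 0, 4, 1, 3, 1, 4, 1, 3, 1, 4, 0, 1, 3, 4, 0, 1, 0, 1, 4, 1,
  3, 1, 0, 4, 1, 3, 1, 2, 3, 4, 3, 2, 1, 3, 1, 4, 0, 1, 3, 4, 0, 1, 0, 1, 0, 1, 0, 4, 3, 1, 0, 4,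
  1, 3, 1, 2, 3, 4, 3, 2, 1, 3, 1, 4, 0, 1, 3, 4, 0, 1, 0, 1, 0, 1, 0, 4, 3, 1, 0, 4, 1, 3]), (421,
  [])], [0, 1, 4, 3, 1, 0, 4, 1, 3, 1, 2, 3, 4, 3, 2, 1, 3, 1, 4, 0, 1, 3, 4, 0, 1, 0, 1, 0, 1, 0,
  4, 3, 1, 0, 4, 1, 3, 1, 2, 3, 4, 3, 2, 1, 3, 1, 4, 0, 1, 3, 4, 0, 1, 4, 3, 1, 0, 4, 1, 3, 1, 2,
  1, 3, 4, 3, 2, 1, 2, 3, 4, 3, 2, 1, 0, 1, 3, 1, 4, 0, 1, 3, 4, 0, 1, 0]),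
  ([(2, []), (1, []), (166, [])], [0, 1, 0, 4, 3, 1, 0, 4, 1, 3, 1, 4, 1, 3, 1, 4, 0, 1, 3, 4, 0,
  1, 0, 1, 4, 1, 3, 1, 0, 4, 1, 3, 1, 2, 3, 4, 3, 2, 1, 3, 1, 4, 0, 1, 3, 4, 0, 1, 0, 1, 0, 1, 0,
  4, 3, 1, 0, 4, 1, 3, 1, 2, 3, 4, 3, 2, 1, 3, 4, 3, 2, 1, 2, 1, 3, 1, 4, 0, 1, 3, 4, 0, 1, 0, 1,
  0, 1, 0, 4, 3, 1, 0, 4, 1, 3, 1, 2, 3, 4, 3, 2, 1, 3, 1, 4, 0, 1, 3, 4, 0, 1, 0, 1, 0, 1, 0, 4,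
  3, 1, 0, 4, 1, 3, 1, 2, 3, 4, 3, 2, 1, 3, 1, 4, 0, 1, 3, 1, 4, 1, 0, 1, 0, 4, 3, 1, 0, 4, 1, 3,
  1, 4, 1, 3, 1, 4, 0, 1, 3, 4, 0, 1, 0]),
  ([(0, []), (162, [])], [0, 1, 0, 4, 3, 1, 0, 4, 1, 3, 1, 4, 1, 3, 1, 4, 0, 1, 3, 4, 0, 1, 0, 1,
  4, 1, 3, 1, 0, 4, 1, 3, 1, 2, 3, 4, 3, 2, 1, 3, 1, 4, 0, 1, 3, 4, 0, 1, 0, 1, 0, 1, 0, 4, 3, 1,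
  0, 4, 1, 3, 1, 2, 3, 4, 3, 2, 1, 3, 4, 3, 2, 1, 2, 3, 0, 1, 3, 1, 4, 3, 1, 2, 3, 4, 3, 2, 1, 3,
  1, 4, 0, 1, 3, 4, 0, 1, 0, 1, 0, 1, 0, 4, 3, 1, 0, 4, 1, 3, 1, 2, 3, 4, 3, 2, 1, 3, 1, 4, 0, 1,
  3, 4, 1, 0]),
  ([(166, []), (588, [0, 1, 0, 4, 3, 1, 0, 4, 1, 3, 1, 4, 1, 3, 1, 4, 0, 1, 3, 4, 0, 1, 0, 1, 4, 1,
  3, 1, 0, 4, 1, 3, 1, 2, 3, 4, 3, 2, 1, 3, 1, 4, 0, 1, 3, 4, 0, 1, 0, 1, 0, 1, 0, 4, 3, 1, 0, 4,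
  1, 3, 1, 2, 3, 4, 3, 2, 1, 3, 1, 4, 0, 1, 3, 4, 0, 1, 0, 1, 0, 1, 0, 4, 3, 1, 0, 4, 1, 3, 1]),
  (171, [])], [0, 1, 4, 3, 1, 0, 4, 1, 3, 1, 2, 3, 4, 3, 2, 1, 3, 1, 4, 0, 1, 3, 4, 0, 1, 4, 3, 1,
  0, 4, 1, 3, 1, 2, 3, 4, 3, 2, 1, 0, 1, 3, 1, 4, 3, 1, 0, 4, 1, 3, 1, 0, 1, 3, 4, 1, 4, 1, 3, 1,
  4, 0, 1, 3, 4, 1, 0, 4, 3, 1, 0, 4, 1, 3, 1, 2, 3, 4, 3, 2, 1, 3, 1, 4, 0, 1, 3, 4, 0, 1, 0, 1,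
  0, 1, 0, 4, 3, 1, 0, 4, 1, 3, 1, 2, 3, 4, 3, 2, 1, 3, 1, 4, 0, 1, 3, 4, 1, 0]),
  ([(2, []), (167, []), (584, [0, 1, 0, 4, 3, 1, 0, 4, 1, 3, 1, 4, 1, 3, 1, 4, 0, 1, 3, 4, 0, 1, 0,
  1, 4, 1, 3, 1, 0, 4, 1, 3, 1, 2, 3, 4, 3, 2, 1, 3, 1, 4, 0, 1, 3, 4, 0, 1, 0, 1, 0, 1, 0, 4, 3,
  1, 0, 4, 1, 3, 1, 2, 3, 4, 3, 2, 1, 3, 1, 4, 0, 1, 3, 4, 0, 1, 0, 1, 0, 1, 0, 4, 3, 1, 0, 4, 1,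
  3, 1]), (173, []), (203, [])], [0, 1, 0, 4, 3, 1, 0, 4, 1, 3, 1, 4, 1, 3, 1, 4, 0, 1, 3, 4, 0, 1,
  0, 1, 4, 1, 3, 1, 0, 4, 1, 3, 1, 2, 3, 4, 3, 2, 1, 3, 1, 4, 0, 1, 3, 4, 0, 1, 0, 1, 0, 1, 0, 4,
  3, 1, 0, 4, 1, 3, 1, 2, 3, 4, 3, 2, 1, 3, 4, 3, 2, 1, 2, 3, 4, 3, 4, 1, 0, 4, 1, 3, 1, 0, 1, 3,
  1, 4, 0, 1, 3, 1, 3, 1, 0, 1, 3, 1, 4, 0, 1, 3, 4, 1, 3, 1, 0, 1, 2, 3, 4, 3, 2, 1, 3, 1, 4, 0,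
  1, 3, 4, 1, 0, 4, 3, 1, 0, 4, 1, 3, 1, 2, 3, 4, 3, 2, 1, 3, 1, 4, 0, 1, 3, 4, 1, 0]),
  ([(173, []), (588, [0, 1, 0, 4, 3, 1, 0, 4, 1, 3, 1, 4, 1, 3, 1, 4, 0, 1, 3, 4, 0, 1, 0, 1, 4, 1,
  3, 1, 0, 4, 1, 3, 1, 2, 3, 4, 3, 2, 1, 3, 1, 4, 0, 1, 3, 4, 0, 1, 0, 1, 0, 1, 0, 4, 3, 1, 0, 4,
  1, 3, 1, 2, 3, 4, 3, 2, 1, 3, 1, 4, 0, 1, 3, 4, 0, 1, 0, 1, 0, 1, 0, 4, 3, 1, 0, 4, 1, 3, 1, 2,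
  3]), (436, [])], [0, 1, 4, 3, 1, 0, 4, 1, 3, 1, 2, 3, 4, 3, 2, 1, 3, 1, 4, 0, 1, 3, 4, 0, 1, 0,
  1, 0, 1, 0, 4, 3, 1, 0, 4, 1, 3, 1, 2, 3, 4, 3, 2, 1, 3, 4, 1, 3, 1, 0, 4, 2, 1, 3, 1, 0, 1, 3,
  1, 4, 0, 1, 3, 4, 0, 1, 3, 4, 1, 0]),
  ([(556, []), (580, [0, 1, 3, 1, 3]), (545, [])], [0, 1, 0, 1, 0, 3, 1, 3, 4, 3, 1, 0, 4, 1, 3, 1,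
  4, 1, 3, 1, 4, 0, 1, 3, 4, 0, 1, 0, 1, 4, 1, 4, 3, 0]),
  ([(0, []), (546, []), (603, [0, 1, 3, 1, 3]), (559, []), (553, [])], [0, 1, 0, 1, 0, 3, 1, 3, 4,
  3, 1, 0, 4, 1, 3, 1, 4, 1, 3, 1, 4, 0, 1, 3, 4, 0, 1, 3, 1, 0, 4, 1, 3, 1, 0, 1, 3, 1, 4, 0, 1,
  3, 4, 0, 3, 1, 3, 0, 1, 0, 1, 0]),
  ([(552, []), (596, [0, 3, 4])], [0, 1, 2, 3, 4, 3, 2, 1, 2, 3, 4, 3, 2, 1, 2, 3, 2, 4, 3, 2, 3,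
  4, 3, 0]),
  ([(0, []), (147, [])], [0, 1, 2, 3, 4, 3, 2, 1, 2, 3, 4, 3, 2, 1, 2, 3, 2, 4, 3, 2, 1, 0, 4, 1,
  3, 1, 0, 1, 3, 1, 4, 0, 1, 3, 1, 4, 1, 4, 3, 0]),
  ([(0, []), (148, []), (606, [0, 3, 4, 3]), (457, [])], [0, 1, 2, 3, 4, 3, 2, 1, 2, 3, 4, 3, 2, 1,
  2, 3, 2, 4, 3, 2, 1, 3, 4, 3, 2, 1, 2, 3, 4, 3, 1, 0]),
  ([(3, []), (0, [])], [0, 3, 4, 1, 4, 1, 3, 1, 0, 4, 1, 3, 1, 0, 1, 3, 1, 4, 0, 3, 4, 3, 2, 1, 2,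
  3, 4, 3, 1, 0]),
  ([(1, []), (152, [])], [0, 1, 3, 4, 3, 2, 1, 2, 3, 4, 3, 1, 3, 4, 3, 0]),
  ([(2, []), (0, []), (587, []), (594, [0, 1, 0, 1, 0, 3, 1, 3, 0]), (156, []), (553, [])], [0, 3,
  4, 1, 4, 1, 3, 1, 0, 4, 1, 3, 1, 0, 4, 1, 3, 1, 4, 0, 1, 3, 4, 0, 4, 0, 4, 3, 1, 0, 4, 1, 3, 1,
  4, 1, 3, 1, 4, 0, 1, 3, 4, 0, 3, 1, 3, 0, 1, 0, 1, 0]),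
  ([(472, []), (610, [0, 1, 0, 1, 0, 3, 1, 3, 0, 1]), (567, [])], [0, 1, 4, 3, 1, 4, 3, 1, 0, 4, 1,
  3, 1, 4, 1, 3, 1, 4, 0, 1, 3, 4, 3, 1, 4, 3, 1, 0, 4, 1, 3, 1, 4, 1, 3, 1, 4, 0, 1, 3, 4, 1, 3,
  1, 4, 3, 1, 0, 4, 1, 3, 1, 4, 1, 3, 1, 4, 0, 1, 3, 4, 3, 1, 0, 4, 3, 1, 0, 4, 1, 3, 1, 4, 1, 3,
  4, 1, 3, 1, 0, 4, 1, 3, 1, 0, 1, 3, 1, 4, 0, 1, 3, 4, 0, 3, 1, 3, 0, 1, 0, 1, 0]),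
  ([(170, []), (168, []), (606, [0, 1, 0, 1, 0, 3, 1, 3, 0])], [0, 1, 0, 1, 3, 1, 0, 4, 3, 1, 0, 4,
  1, 3, 1, 0, 1, 3, 1, 4, 0, 1, 4, 3, 4, 0, 3, 1, 3, 0, 1, 0, 1, 0])]

/-- derivation xu, part 6 -/
def xu6 : List (List (ℕ × List ℕ) × List ℕ) := [
  ([(163, []), (622, [0, 1, 0, 1, 0, 3, 1, 3, 0, 4])], [0, 1, 0, 1, 0, 3, 1, 3, 4, 3, 0, 3, 4, 0,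
  3, 1, 3, 0, 1, 0, 1, 0]),
  ([(6, []), (560, []), (165, []), (628, [0, 1, 0, 1, 0, 3, 1, 3, 0, 4]), (479, []), (167, [])],
  [0, 3, 4, 1, 4, 1, 3, 1, 0, 4, 1, 3, 1, 0, 4, 1, 3, 1, 4, 0, 1, 3, 4, 1, 4, 3, 1, 0, 4, 1, 3, 1,
  4, 1, 3, 1, 4, 0, 1, 3, 1, 4, 1, 4, 3, 0]),
  ([(480, []), (620, [0, 1, 0, 1, 0, 3, 1, 3, 0, 4])], [0, 1, 4, 3, 1, 4, 3, 1, 0, 4, 1, 3, 1, 4,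
  1, 3, 1, 4, 0, 1, 3, 4, 3, 1, 4, 3, 1, 0, 4, 1, 3, 1, 4, 1, 3, 1, 4, 0, 1, 3, 4, 1, 3, 1, 4, 3,
  1, 0, 4, 1, 3, 1, 4, 1, 3, 1, 4, 0, 1, 3, 4, 3, 1, 0, 4, 3, 1, 0, 4, 1, 3, 1, 4, 3, 1, 3, 4, 0,
  3, 1, 3, 0, 1, 0, 1, 0]),
  ([(4, []), (632, [0, 1, 0, 1, 0, 3, 1, 3, 0, 4, 3])], [0, 1, 0, 1, 0, 3, 1, 3, 4, 3, 1, 0, 1, 0,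
  1, 3, 4, 0, 3, 1, 3, 0, 1, 0, 1, 0]),
  ([(6, []), (610, [0, 1, 0, 1, 0, 3, 1, 3, 0, 4, 3])], [0, 1, 0, 1, 0, 3, 1, 3, 4, 3, 1, 0, 4, 3,
  1, 0, 4, 1, 3, 1, 0, 1, 3, 1, 4, 0, 1, 3, 4, 0, 1, 3, 4, 0, 3, 1, 3, 0, 1, 0, 1, 0]),
  ([(10, []), (624, [0, 1, 0, 1, 0, 3, 1, 3, 0, 4, 3, 1])], [0, 1, 0, 1, 3, 1, 0, 4, 3, 1, 0, 4, 1,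
  3, 1, 0, 1, 3, 1, 4, 0, 4, 1, 4, 1, 3, 4, 0, 3, 1, 3, 0, 1, 0, 1, 0]),
  ([(634, [0, 1, 0, 1, 0, 3, 1, 3, 0, 4, 3, 1]), (7, [])], [0, 1, 0, 1, 0, 3, 1, 3, 0, 4, 3, 1, 0,
  3, 0, 4, 1, 3, 1, 4, 0, 1, 3, 4, 0, 1, 3, 4, 3, 1, 0, 4, 1, 3, 1, 4, 1, 3, 1, 4, 0, 1, 3, 4, 1,
  3, 1, 4, 3, 1, 0, 4, 1, 3, 1, 4, 1, 3, 1, 4, 0, 1, 3, 4, 1, 3, 4, 3, 1, 0, 4, 1, 3, 1, 4, 1, 3,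
  1, 4, 0, 1, 3, 4, 1, 3, 4, 1, 0]),
  ([(6, []), (614, [0, 1, 0, 1, 0, 3, 1, 3, 0, 4, 3, 1]), (3, [])], [0, 1, 0, 1, 0, 3, 1, 3, 4, 3,
  1, 4, 3, 1, 0, 4, 1, 3, 1, 4, 1, 3, 1, 4, 0, 1, 3, 4, 0, 1, 0, 1, 4, 0, 4, 1, 3, 1, 0, 1, 3, 1,
  4, 0, 1, 3, 4, 0, 1, 3, 1, 0, 1, 0]),
  ([(0, []), (4, []), (637, [0, 1, 0, 1, 0, 3, 1, 3, 0, 4, 3, 1])], [0, 1, 0, 1, 0, 3, 1, 3, 4, 3,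
  1, 4, 3, 1, 0, 4, 1, 3, 1, 4, 1, 3, 1, 4, 0, 1, 3, 4, 0, 1, 4, 0, 1, 3, 4, 0, 3, 1, 3, 0, 1, 0,
  1, 0]),
  ([(1, []), (2, [])], [0, 1, 0, 1, 0, 3, 1, 3, 0, 4, 3, 1, 0, 4, 0, 1, 4, 0, 4, 1, 3, 1, 0, 1, 3,
  1, 4, 0, 1, 3, 4, 0, 1, 3, 1, 0, 1, 0]),
  ([(7, []), (637, [0, 1, 0, 1, 0, 3, 1, 3, 0, 4, 3, 1, 0]), (13, [])], [0, 1, 4, 3, 1, 4, 3, 1, 0,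
  4, 1, 3, 1, 4, 1, 3, 1, 4, 0, 1, 3, 4, 3, 1, 4, 3, 1, 0, 4, 1, 3, 1, 4, 1, 3, 1, 4, 0, 1, 3, 4,
  1, 3, 1, 4, 3, 1, 0, 4, 1, 3, 1, 4, 1, 3, 1, 4, 0, 1, 3, 4, 3, 1, 0, 4, 3, 1, 0, 4, 1, 3, 1, 4,
  0, 1, 3, 1, 3, 0, 1, 3, 4, 3, 1, 3, 0, 1, 0, 1, 0]),
  ([(0, []), (14, [])], [0, 1, 4, 3, 1, 4, 3, 1, 0, 4, 1, 3, 1, 4, 1, 3, 1, 4, 0, 1, 3, 4, 3, 1, 4,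
  3, 1, 0, 4, 1, 3, 1, 4, 1, 3, 1, 4, 0, 1, 3, 4, 1, 3, 1, 4, 3, 1, 0, 4, 1, 3, 1, 4, 1, 3, 1, 4,
  0, 1, 3, 4, 3, 1, 0, 4, 3, 1, 0, 4, 1, 3, 1, 4, 0, 1, 3, 1, 3, 1, 0, 1, 3, 4, 0, 3, 1, 3, 0, 1,
  0, 1, 0]),
  ([(153, []), (2, [])], [0, 1, 0, 4, 3, 1, 0, 4, 1, 3, 1, 0, 1, 3, 4, 1, 3, 4, 0, 1, 3, 4, 3, 1,
  3, 0, 1, 0, 1, 0]),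
  ([(14, []), (3, [])], [0, 1, 0, 1, 3, 1, 0, 4, 3, 1, 0, 4, 1, 3, 1, 0, 1, 3, 1, 4, 0, 4, 1, 4, 0,
  1, 3, 1, 3, 1, 0, 4, 1, 3, 1, 4, 0, 1, 3, 4, 0, 1, 3, 4, 3, 1, 0, 4, 1, 3, 1, 4, 1, 3, 1, 4, 0,
  1, 3, 4, 1, 3, 1, 4, 3, 1, 0, 4, 1, 3, 1, 4, 1, 3, 1, 4, 0, 1, 3, 4, 1, 3, 4, 3, 1, 0, 4, 1, 3,
  1, 4, 1, 3, 1, 4, 0, 1, 3, 4, 1, 3, 4, 1, 0]),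
  ([(3, []), (155, [])], [0, 1, 0, 1, 0, 3, 1, 3, 4, 3, 1, 0, 4, 1, 3, 1, 3, 1, 4, 0, 1, 3, 1, 4,
  1, 0, 1, 0, 4, 3, 1, 0, 4, 1, 3, 1, 4, 1, 3, 1, 4, 0, 1, 3, 4, 0, 1, 0]),
  ([(3, []), (18, [])], [0, 1, 4, 3, 1, 4, 3, 1, 0, 4, 1, 3, 1, 4, 1, 3, 1, 4, 0, 1, 3, 4, 3, 1, 4,
  3, 1, 0, 4, 1, 3, 1, 4, 1, 3, 1, 4, 0, 1, 3, 4, 1, 3, 1, 4, 3, 1, 0, 4, 1, 3, 1, 4, 1, 3, 1, 4,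
  0, 1, 3, 4, 3, 1, 0, 4, 3, 1, 0, 4, 1, 3, 1, 4, 0, 1, 3, 1, 3, 1, 0, 1, 3, 4, 0, 3, 1, 3, 0, 1,
  0, 1, 0]),
  ([(5, []), (13, [])], [0, 1, 4, 3, 1, 4, 3, 1, 0, 4, 1, 3, 1, 4, 1, 3, 1, 4, 0, 1, 3, 4, 3, 1, 4,
  3, 1, 0, 4, 1, 3, 1, 4, 1, 3, 1, 4, 0, 1, 3, 4, 1, 3, 1, 4, 3, 1, 0, 4, 1, 3, 1, 4, 1, 3, 1, 4,
  0, 1, 3, 4, 3, 1, 0, 4, 3, 1, 0, 4, 1, 3, 1, 4, 0, 1, 3, 1, 3, 1, 0, 4, 0, 4, 0, 1, 3, 4, 0, 3,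
  1, 3, 0, 1, 0, 1, 0]),
  ([(4, []), (452, [])], [0, 1, 0, 1, 0, 3, 1, 3, 4, 3, 1, 0, 4, 1, 3, 1, 4, 3, 4, 0, 1, 3, 4, 3,
  1, 0, 4, 1, 3, 1, 4, 1, 3, 1, 4, 0, 1, 3, 4, 1, 3, 4, 1, 0]),
  ([(10, []), (28, []), (651, [0, 1, 0, 1, 0, 3, 1, 3, 0, 4, 3, 1, 0, 1])], [0, 1, 0, 4, 3, 1, 0,
  4, 1, 3, 1, 0, 1, 3, 4, 1, 3, 1, 4, 1, 4, 0, 1, 3, 4, 0, 3, 1, 3, 0, 1, 0, 1, 0]),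
  ([(1, []), (12, [])], [0, 1, 0, 1, 0, 3, 1, 3, 0, 4, 3, 1, 0, 4, 1, 4, 1, 4, 0, 1, 3, 4, 3, 1, 3,
  0, 1, 0, 1, 0]),
  ([(3, []), (151, [])], [0, 1, 0, 1, 0, 3, 1, 3, 0, 4, 3, 1, 0, 4, 1, 3, 2, 1, 2, 1, 3, 1, 0, 1,
  3, 1, 4, 0, 1, 3, 1, 4, 3, 1, 4, 1, 3, 1, 4, 0, 1, 3, 4, 0, 1, 0]),
  ([(658, [0, 1, 0, 1, 0, 3, 1, 3, 0, 4, 3, 1, 0, 4]), (33, [])], [0, 1, 0, 1, 0, 3, 1, 3, 0, 4, 3,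
  1, 0, 4, 1, 3, 1, 3, 0, 4, 1, 3, 1, 0, 1, 3, 1, 4, 0, 1, 3, 4, 0, 1, 3, 4, 3, 1, 3, 0, 1, 0, 1,
  0]),
  ([(26, []), (666, [0, 1, 0, 1, 0, 3, 1, 3, 0, 4, 3, 1, 0, 4, 1])], [0, 1, 0, 1, 0, 3, 1, 3, 4, 3,
  1, 4, 3, 1, 0, 4, 1, 3, 1, 4, 1, 3, 1, 4, 0, 1, 3, 4, 3, 0, 3, 1, 4, 0, 1, 3, 4, 0, 3, 1, 3, 0,
  1, 0, 1, 0]),
  ([(28, []), (670, [0, 1, 0, 1, 0, 3, 1, 3, 0, 4, 3, 1, 0, 4, 1]), (9, [])], [0, 1, 0, 1, 0, 3, 1,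
  3, 4, 3, 1, 4, 3, 1, 0, 4, 1, 3, 1, 4, 1, 3, 1, 4, 0, 1, 3, 4, 2, 0, 2, 4, 1, 3, 1, 4, 3, 1, 0,
  1, 3, 1, 4, 0, 1, 3, 4, 0, 1, 0]),
  ([(138, []), (10, []), (660, [0, 1, 0, 1, 0, 3, 1, 3, 0, 4, 3, 1, 0, 4, 1])], [0, 1, 0, 4, 3, 1,
  0, 4, 1, 3, 1, 4, 1, 3, 1, 4, 0, 1, 3, 4, 0, 1, 0, 1, 4, 1, 3, 1, 0, 4, 1, 3, 1, 2, 3, 4, 3, 2,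
  1, 3, 4, 3, 2, 1, 2, 3, 4, 3, 2, 1, 3, 1, 4, 0, 1, 3, 4, 0, 3, 1, 3, 0, 1, 0, 1, 0]),
  ([(0, []), (8, [])], [0, 1, 0, 4, 3, 1, 0, 4, 1, 3, 1, 4, 1, 3, 1, 4, 0, 1, 3, 4, 0, 1, 0, 1, 4,
  1, 3, 1, 0, 4, 1, 3, 1, 2, 3, 4, 3, 2, 1, 3, 4, 3, 2, 1, 2, 3, 4, 3, 2, 1, 2, 1, 2, 1, 3, 1, 0,
  1, 3, 1, 4, 0, 1, 3, 1, 4, 3, 1, 4, 1, 3, 1, 4, 0, 1, 3, 4, 0, 1, 0]),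
  ([(2, []), (619, [])], [0, 1, 0, 4, 3, 1, 0, 4, 1, 3, 1, 4, 1, 3, 1, 4, 0, 1, 3, 4, 0, 1, 0, 1,
  4, 1, 3, 1, 0, 4, 1, 3, 1, 2, 3, 4, 3, 2, 1, 3, 4, 3, 2, 3, 1, 4, 0, 1, 3, 4, 0, 1, 0, 1, 0, 1,
  0, 4, 3, 1, 0, 4, 1, 3, 1, 2, 3, 4, 3, 2, 1, 3, 1, 4, 0, 1, 3, 4, 0, 1, 0, 1, 0, 1, 0, 4, 3, 1,
  0, 4, 1, 3, 1, 2, 3, 4, 3, 2, 1, 3, 1, 4, 0, 1, 3, 4, 3, 1, 3, 0, 1, 0, 1, 0]),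
  ([(3, []), (144, [])], [0, 1, 0, 4, 3, 1, 0, 4, 1, 3, 1, 4, 1, 3, 4, 1, 3, 1, 0, 4, 1, 3, 1, 0,
  1, 3, 1, 2, 1, 3, 2, 4, 1, 3, 1, 4, 3, 1, 0, 1, 3, 1, 4, 0, 1, 3, 4, 0, 1, 0]),
  ([(3, []), (123, [])], [0, 1, 0, 1, 0, 3, 1, 3, 4, 3, 1, 0, 4, 1, 3, 1, 2, 3, 4, 3, 2, 1, 3, 1,
  4, 0, 1, 3, 4, 0, 1, 0, 1, 0, 1, 0, 4, 3, 1, 0, 4, 1, 3, 1, 2, 3, 4, 3, 2, 1, 3, 1, 4, 0, 1, 3,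
  4, 0, 1, 0, 1, 0, 1, 0, 4, 3, 1, 0, 4, 1, 3, 1, 2, 3, 1, 3, 1, 4, 3, 1, 2, 3, 4, 3, 2, 1, 3, 1,
  4, 0, 1, 3, 1, 4, 1, 0, 1, 0, 4, 3, 1, 0, 4, 1, 3, 1, 4, 1, 3, 1, 4, 0, 1, 3, 4, 0, 1, 0]),
  ([(40, []), (678, [0, 1, 0, 1, 0, 3, 1, 3, 0, 4, 3, 1, 0, 4, 1]), (18, []), (33, [])], [0, 1, 0,
  1, 0, 3, 1, 3, 4, 3, 1, 4, 3, 1, 0, 4, 1, 3, 1, 4, 1, 3, 1, 4, 0, 1, 3, 0, 1, 3, 1, 4, 3, 1, 0,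
  1, 3, 1, 4, 0, 1, 3, 4, 0, 1, 0]),
  ([(1, []), (42, [])], [0, 1, 0, 4, 3, 1, 0, 4, 1, 3, 1, 0, 1, 3, 4, 1, 3, 1, 0, 4, 0, 1, 4, 0, 1,
  3, 4, 0, 3, 1, 3, 0, 1, 0, 1, 0]),
  ([(21, []), (681, [0, 1, 0, 1, 0, 3, 1, 3, 0, 4, 3, 1, 0, 4, 1, 3]), (629, [])], [0, 1, 0, 4, 3,
  1, 0, 4, 1, 3, 1, 4, 1, 3, 4, 1, 3, 1, 0, 4, 1, 3, 1, 0, 1, 3, 1, 2, 3, 4, 3, 2, 1, 3, 1, 4, 0,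
  1, 3, 4, 0, 1, 0, 1, 0, 1, 0, 4, 3, 1, 0, 4, 1, 3, 1, 2, 3, 4, 3, 2, 1, 3, 1, 4, 0, 1, 3, 4, 0,
  1, 0, 1, 0, 1, 0, 4, 3, 1, 0, 4, 1, 3, 1, 2, 3, 4, 3, 2, 1, 3, 1, 4, 0, 1, 3, 4, 3, 1, 3, 0, 1,
  0, 1, 0]),
  ([(0, []), (630, [])], [0, 1, 0, 4, 3, 1, 0, 4, 1, 3, 1, 4, 1, 3, 4, 1, 3, 1, 0, 4, 1, 3, 1, 0,
  4, 0, 1, 3, 4, 0, 3, 1, 3, 0, 1, 0, 1, 0]),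
  ([(545, []), (0, [])], [0, 1, 4, 3, 1, 4, 3, 1, 0, 4, 1, 3, 1, 4, 1, 3, 1, 4, 0, 1, 3, 4, 3, 1,
  0, 4, 3, 1, 0, 4, 1, 3, 1, 0, 1, 3, 1, 4, 0, 1, 4, 1, 3, 1, 4, 0, 1, 3, 4, 0, 3, 1, 3, 0, 1, 0,
  1, 0]),
  ([(25, []), (3, []), (519, [])], [0, 1, 0, 1, 0, 3, 1, 3, 4, 3, 1, 0, 4, 3, 1, 0, 4, 1, 3, 1, 0,
  1, 3, 1, 4, 0, 1, 3, 1, 0, 1, 3, 1, 4, 0, 1, 3, 4, 0, 1, 3, 4, 1, 0]),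
  ([(567, []), (2, []), (219, [])], [0, 1, 4, 3, 1, 0, 4, 3, 1, 0, 4, 1, 3, 1, 0, 1, 3, 1, 4, 0, 4,
  3, 0, 1, 3, 1, 4, 0, 1, 3, 4, 0, 3, 1, 3, 0, 1, 0, 1, 0]),
  ([(3, []), (29, [])], [0, 1, 4, 3, 1, 0, 4, 3, 1, 0, 4, 1, 3, 1, 0, 1, 3, 1, 3, 1, 3, 1, 4, 0, 1,
  3, 4, 0, 3, 1, 3, 0, 1, 0, 1, 0]),
  ([(7, []), (219, [])], [0, 1, 0, 1, 0, 3, 1, 3, 0, 4, 3, 1, 0, 4, 1, 3, 1, 4, 1, 3, 1, 3, 1, 4,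
  0, 1, 3, 1, 4, 0, 1, 3, 4, 0, 1, 0]),
  ([(7, []), (66, [])], [0, 1, 4, 3, 1, 0, 4, 3, 1, 0, 4, 1, 3, 1, 0, 1, 4, 0, 1, 3, 4, 0, 3, 1, 3,
  0, 1, 0, 1, 0]),
  ([(44, []), (13, [])], [0, 1, 4, 3, 1, 4, 3, 1, 0, 4, 1, 3, 1, 4, 1, 3, 1, 4, 0, 1, 3, 4, 3, 1,
  4, 3, 1, 0, 4, 1, 3, 1, 4, 1, 3, 1, 4, 0, 1, 3, 4, 1, 3, 1, 4, 3, 1, 0, 4, 1, 3, 1, 4, 1, 3, 1,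
  4, 0, 1, 3, 4, 3, 1, 0, 4, 3, 1, 0, 4, 1, 3, 1, 4, 0, 1, 3, 1, 3, 1, 0, 4, 1, 3, 1, 4, 0, 1, 3,
  1, 4, 3, 1, 4, 1, 3, 1, 4, 0, 1, 3, 4, 0, 1, 0]),
  ([(1, []), (48, [])], [0, 1, 0, 4, 3, 1, 0, 4, 1, 3, 1, 4, 1, 3, 4, 1, 3, 1, 0, 4, 1, 3, 1, 4, 1,
  3, 4, 0, 3, 1, 3, 0, 1, 0, 1, 0]),
  ([(221, []), (7, [])], [0, 1, 4, 3, 1, 4, 3, 1, 0, 4, 1, 3, 1, 4, 1, 3, 1, 4, 0, 1, 3, 4, 3, 1,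
  4, 3, 1, 0, 4, 1, 3, 1, 4, 1, 3, 1, 4, 0, 1, 3, 4, 1, 3, 1, 4, 3, 1, 0, 4, 1, 3, 1, 4, 1, 3, 1,
  4, 0, 1, 3, 4, 3, 1, 0, 4, 3, 1, 0, 4, 1, 3, 1, 4, 0, 1, 3, 4, 1, 3, 1, 4, 1, 3, 1, 4, 0, 1, 3,
  4, 0, 3, 1, 3, 0, 1, 0, 1, 0]),
  ([(22, []), (7, [])], [0, 1, 0, 4, 3, 1, 0, 4, 1, 3, 1, 0, 1, 3, 4, 1, 3, 1, 0, 4, 1, 3, 1, 4, 0,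
  1, 3, 4, 0, 1, 3, 4, 1, 0]),
  ([(48, []), (9, []), (501, [])], [0, 1, 0, 4, 3, 1, 0, 4, 1, 3, 1, 0, 1, 3, 4, 1, 3, 1, 4, 2, 3,
  4, 3, 2, 1, 3, 1, 4, 0, 1, 3, 4, 0, 1, 0, 1, 0, 1, 0, 4, 3, 1, 0, 4, 1, 3, 1, 2, 3, 4, 3, 2, 1,
  3, 1, 4, 0, 1, 3, 4, 0, 1, 0, 1, 0, 1, 0, 4, 3, 1, 0, 4, 1, 3, 1, 2, 3, 4, 3, 2, 1, 3, 1, 4, 0,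
  1, 4, 3, 4, 1, 3, 0, 4, 3, 1, 0, 4, 1, 3, 1, 4, 1, 3, 1, 4, 0, 1, 3, 1, 4, 1, 0, 1, 0, 4, 3, 1,
  0, 4, 1, 3, 1, 4, 1, 3, 1, 4, 0, 1, 3, 4, 0, 1, 0]),
  ([(225, []), (4, [])], [0, 1, 4, 3, 1, 4, 3, 1, 0, 4, 1, 3, 1, 4, 1, 3, 1, 4, 0, 1, 3, 4, 3, 1,
  4, 3, 1, 0, 4, 1, 3, 1, 4, 1, 3, 1, 4, 0, 1, 3, 4, 3, 1, 0, 4, 3, 1, 0, 4, 1, 3, 1, 4, 1, 3, 1,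
  4, 0, 1, 3, 4, 0, 1, 0, 4, 1, 3, 1, 4, 1, 3, 1, 4, 0, 1, 3, 4, 0, 3, 1, 3, 0, 1, 0, 1, 0]),
  ([(5, []), (31, [])], [0, 1, 4, 3, 1, 0, 4, 3, 1, 0, 4, 1, 3, 1, 4, 3, 1, 0, 4, 1, 3, 1, 4, 1, 3,
  1, 4, 0, 1, 3, 4, 1, 3, 4, 3, 1, 3, 0, 1, 0, 1, 0]),
  ([(32, []), (6, []), (627, [])], [0, 1, 0, 1, 0, 3, 1, 3, 4, 3, 1, 4, 3, 1, 0, 4, 1, 3, 1, 4, 1,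
  3, 1, 4, 0, 1, 3, 4, 2, 3, 4, 3, 2, 1, 3, 1, 4, 0, 1, 3, 4, 0, 1, 0, 1, 0, 1, 0, 4, 3, 1, 0, 4,
  1, 3, 1, 2, 3, 4, 3, 2, 1, 3, 1, 4, 0, 1, 3, 4, 0, 1, 0, 1, 0, 1, 0, 4, 3, 1, 0, 4, 1, 3, 1, 2,
  3, 4, 3, 2, 1, 3, 1, 4, 0, 1, 3, 4, 1, 3, 4, 1, 0]),
  ([(7, []), (56, [])], [0, 1, 0, 4, 3, 1, 0, 4, 1, 3, 1, 4, 1, 3, 1, 4, 0, 1, 3, 4, 0, 1, 0, 1, 4,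
  1, 3, 1, 0, 4, 1, 3, 1, 4, 1, 3, 1, 4, 0, 1, 3, 4, 0, 3, 1, 4, 3, 4, 1, 0, 4, 1, 3, 1, 2, 3, 4,
  3, 2, 1, 3, 1, 4, 0, 1, 3, 4, 0, 1, 0, 1, 0, 1, 0, 4, 3, 1, 0, 4, 1, 3, 1, 2, 3, 4, 3, 2, 1, 3,
  1, 4, 0, 1, 3, 4, 0, 1, 0, 1, 0, 1, 0, 4, 3, 1, 0, 4, 1, 3, 1, 2, 3, 4, 3, 2, 1, 4, 0, 1, 3, 4,
  0, 3, 1, 3, 0, 1, 0, 1, 0]),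
  ([(9, []), (49, []), (2, [])], [0, 1, 0, 4, 3, 1, 0, 4, 1, 3, 1, 4, 1, 3, 1, 4, 0, 1, 3, 4, 0, 1,
  0, 1, 4, 1, 3, 1, 0, 4, 1, 3, 1, 4, 1, 3, 1, 4, 0, 1, 3, 4, 0, 3, 1, 4, 3, 4, 1, 0, 4, 1, 3, 1,
  2, 3, 4, 3, 2, 1, 3, 1, 4, 0, 1, 3, 4, 0, 1, 0, 1, 0, 1, 0, 4, 3, 1, 0, 4, 1, 3, 1, 2, 3, 4, 3,
  2, 1, 3, 1, 4, 0, 1, 3, 4, 0, 1, 0, 1, 0, 1, 0, 4, 3, 1, 0, 4, 1, 3, 1, 2, 3, 4, 3, 0, 3, 4, 3,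
  2, 1, 3, 1, 4, 0, 1, 3, 4, 0, 1, 0, 1, 0, 1, 0, 4, 3, 1, 0, 4, 1, 3, 1, 2, 3, 4, 3, 2, 1, 3, 1,
  4, 0, 1, 3, 4, 0, 1, 0, 1, 0, 1, 0, 4, 3, 1, 0, 4, 1, 3, 1, 2, 3, 4, 3, 2, 1, 3, 1, 4, 0, 1, 3,
  4, 1, 3, 4, 1, 0]),
  ([(42, []), (10, [])], [0, 1, 0, 4, 3, 1, 0, 4, 1, 3, 1, 4, 1, 3, 4, 1, 3, 1, 0, 4, 1, 3, 1, 0,
  1, 3, 1, 2, 1, 4, 3, 2, 1, 3, 1, 4, 0, 1, 3, 4, 0, 1, 0, 1, 0, 1, 0, 4, 3, 1, 0, 4, 1, 3, 1, 2,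
  3, 4, 3, 2, 1, 3, 1, 4, 0, 1, 3, 4, 0, 1, 0, 1, 0, 1, 0, 4, 3, 1, 0, 4, 1, 3, 1, 2, 3, 4, 3, 2,
  1, 3, 1, 4, 0, 1, 4, 3, 4, 1, 3, 0, 4, 3, 1, 0, 4, 1, 3, 1, 4, 1, 3, 1, 4, 0, 1, 3, 1, 4, 1, 0,
  1, 0, 4, 3, 1, 0, 4, 1, 3, 1, 4, 1, 3, 1, 4, 0, 1, 3, 4, 0, 1, 0])]

/-- derivation xu, part 7 -/
def xu7 : List (List (ℕ × List ℕ) × List ℕ) := [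
  ([(15, []), (74, [])], [0, 1, 4, 3, 1, 0, 4, 3, 1, 0, 4, 1, 3, 1, 4, 0, 1, 4, 0, 1, 3, 4, 3, 1,
  3, 0, 1, 0, 1, 0]),
  ([(3, []), (61, [])], [0, 1, 0, 4, 3, 1, 0, 4, 1, 3, 1, 4, 1, 3, 1, 4, 0, 1, 3, 4, 0, 1, 0, 1, 4,
  1, 3, 1, 0, 4, 1, 3, 1, 4, 1, 3, 1, 4, 0, 1, 3, 4, 0, 3, 1, 4, 3, 4, 1, 0, 4, 1, 3, 1, 2, 3, 4,
  3, 2, 1, 3, 1, 4, 0, 1, 3, 4, 0, 1, 0, 1, 0, 1, 0, 4, 3, 1, 0, 4, 1, 3, 1, 2, 3, 4, 3, 2, 1, 3,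
  1, 4, 0, 1, 3, 4, 0, 1, 0, 1, 0, 1, 0, 4, 3, 1, 0, 4, 1, 3, 1, 2, 3, 4, 2, 3, 1, 4, 0, 1, 3, 4,
  0, 3, 1, 3, 0, 1, 0, 1, 0]),
  ([(5, []), (40, [])], [0, 1, 0, 4, 3, 1, 0, 4, 1, 3, 1, 4, 1, 3, 1, 4, 0, 1, 3, 4, 0, 1, 0, 1, 4,
  1, 3, 1, 0, 4, 1, 3, 1, 4, 1, 3, 1, 4, 0, 1, 3, 4, 0, 3, 1, 4, 3, 4, 1, 0, 4, 1, 3, 1, 2, 3, 4,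
  3, 2, 1, 3, 1, 4, 0, 1, 3, 4, 0, 1, 0, 1, 0, 1, 0, 4, 3, 1, 0, 4, 1, 3, 1, 2, 3, 4, 3, 2, 1, 3,
  1, 4, 0, 1, 3, 4, 0, 1, 0, 1, 0, 1, 0, 4, 3, 1, 0, 4, 1, 3, 1, 2, 3, 4, 1, 3, 4, 3, 2, 1, 3, 1,
  4, 0, 1, 3, 4, 0, 1, 0, 1, 0, 1, 0, 4, 3, 1, 0, 4, 1, 3, 1, 2, 3, 4, 3, 2, 1, 3, 1, 4, 0, 1, 3,
  4, 0, 1, 0, 1, 0, 1, 0, 4, 3, 1, 0, 4, 1, 3, 1, 2, 3, 4, 3, 2, 1, 3, 1, 4, 0, 1, 3, 4, 3, 1, 3,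
  0, 1, 0, 1, 0]),
  ([(582, []), (25, [])], [0, 1, 4, 3, 1, 4, 3, 1, 0, 4, 1, 3, 1, 4, 1, 3, 1, 4, 0, 1, 3, 4, 3, 1,
  4, 3, 1, 0, 4, 1, 3, 1, 4, 1, 3, 1, 4, 0, 1, 3, 4, 1, 3, 1, 4, 3, 1, 0, 4, 1, 3, 1, 4, 1, 3, 1,
  4, 0, 1, 3, 4, 3, 1, 0, 4, 3, 1, 0, 4, 1, 3, 1, 4, 1, 3, 1, 3, 1, 4, 1, 3, 1, 4, 0, 1, 3, 1, 4,
  3, 1, 4, 1, 3, 1, 4, 0, 1, 3, 4, 0, 1, 0]),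
  ([(111, []), (0, [])], [0, 1, 0, 1, 0, 3, 1, 3, 0, 4, 3, 1, 0, 4, 1, 3, 1, 0, 1, 3, 1, 4, 0, 1,
  3, 1, 4, 1, 3, 1, 4, 1, 3, 1, 4, 0, 1, 3, 1, 4, 3, 1, 4, 1, 3, 1, 4, 0, 1, 3, 4, 0, 1, 0]),
  ([(126, []), (0, [])], [0, 1, 0, 1, 0, 3, 1, 3, 4, 3, 1, 0, 4, 1, 3, 1, 4, 1, 3, 1, 4, 0, 1, 3,
  4, 0, 4, 1, 3, 1, 4, 1, 3, 1, 4, 0, 1, 3, 1, 4, 3, 1, 4, 1, 3, 1, 4, 0, 1, 3, 4, 0, 1, 0]),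
  ([(42, []), (38, []), (735, [0, 1, 0, 1, 0, 3, 1, 3, 0, 4, 3, 1, 0, 4, 1, 3, 1]), (41, [])], [0,
  1, 0, 1, 0, 3, 1, 3, 4, 3, 1, 0, 4, 3, 1, 0, 4, 1, 3, 1, 0, 1, 3, 1, 0, 4, 1, 3, 1, 0, 1, 3, 1,
  4, 0, 1, 3, 4, 0, 1, 3, 4, 1, 0]),
  ([(1, []), (44, [])], [0, 1, 4, 3, 1, 0, 4, 3, 1, 0, 4, 1, 3, 1, 0, 1, 3, 1, 4, 0, 4, 0, 1, 3, 1,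
  0, 1, 3, 1, 4, 0, 1, 3, 4, 0, 1, 3, 4, 1, 0]),
  ([(676, []), (740, [0, 1, 0, 1, 0, 3, 1, 3, 0, 4, 3, 1, 0, 4, 1, 3, 1]), (683, [])], [0, 3, 4, 1,
  4, 1, 3, 1, 0, 4, 1, 3, 1, 2, 3, 4, 3, 2, 1, 3, 1, 4, 0, 1, 3, 4, 0, 1, 0, 1, 0, 1, 0, 4, 3, 1,
  0, 4, 1, 3, 1, 2, 3, 4, 3, 2, 1, 3, 1, 4, 0, 1, 3, 4, 0, 1, 0, 1, 0, 1, 0, 4, 3, 1, 0, 4, 1, 3,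
  1, 2, 3, 4, 3, 0, 3, 4, 3, 2, 1, 3, 1, 4, 0, 1, 3, 4, 0, 1, 0, 1, 0, 1, 0, 4, 3, 1, 0, 4, 1, 3,
  1, 2, 3, 4, 3, 2, 1, 3, 1, 4, 0, 1, 3, 4, 0, 1, 0, 1, 0, 1, 0, 4, 3, 1, 0, 4, 1, 3, 1, 2, 3, 4,
  3, 2, 1, 3, 1, 4, 0, 1, 3, 4, 3, 1, 3, 0, 1, 0, 1, 0]),
  ([(168, []), (64, []), (684, []), (730, [0, 1, 0, 1, 0, 3, 1, 3, 0, 4, 3, 1, 0, 4, 1, 3, 1])],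
  [0, 1, 0, 4, 3, 1, 0, 4, 1, 3, 1, 4, 1, 3, 1, 4, 0, 1, 3, 4, 0, 1, 0, 1, 4, 1, 3, 1, 0, 4, 1, 3,
  1, 2, 3, 4, 3, 2, 1, 3, 1, 4, 0, 1, 3, 4, 0, 1, 0, 1, 0, 1, 0, 4, 3, 1, 0, 4, 1, 3, 1, 2, 3, 4,
  3, 2, 1, 3, 4, 3, 2, 1, 2, 3, 4, 3, 2, 1, 2, 1, 3, 1, 4, 0, 1, 3, 4, 0, 3, 1, 3, 0, 1, 0, 1, 0]),
  ([(0, []), (687, [])], [0, 1, 0, 4, 3, 1, 0, 4, 1, 3, 1, 4, 1, 3, 1, 4, 0, 1, 3, 4, 0, 1, 0, 1,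
  4, 1, 3, 1, 0, 4, 1, 3, 1, 2, 3, 4, 3, 2, 1, 3, 1, 4, 0, 1, 3, 4, 0, 1, 0, 1, 0, 1, 0, 4, 3, 1,
  0, 4, 1, 3, 1, 2, 3, 4, 3, 2, 1, 3, 4, 3, 2, 1, 2, 3, 4, 3, 2, 1, 3, 4, 3, 2, 1, 3, 1, 4, 0, 1,
  3, 4, 0, 1, 0, 1, 0, 1, 0, 4, 3, 1, 0, 4, 1, 3, 1, 2, 3, 4, 3, 2, 1, 3, 1, 4, 0, 1, 3, 4, 0, 1,
  0, 1, 0, 1, 0, 4, 3, 1, 0, 4, 1, 3, 1, 2, 3, 4, 3, 2, 1, 3, 1, 4, 0, 1, 3, 4, 3, 1, 3, 0, 1, 0,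
  1, 0]),
  ([(173, []), (2, []), (49, [])], [0, 1, 0, 4, 3, 1, 0, 4, 1, 3, 1, 4, 1, 3, 1, 4, 0, 1, 3, 4, 0,
  1, 0, 1, 4, 1, 3, 1, 0, 4, 1, 3, 1, 2, 3, 4, 3, 2, 1, 3, 4, 3, 2, 1, 2, 3, 4, 2, 1, 3, 1, 0, 1,
  3, 1, 4, 0, 1, 3, 4, 0, 1, 3, 4, 1, 0]),
  ([(2, []), (19, [])], [0, 1, 0, 4, 3, 1, 0, 4, 1, 3, 1, 4, 1, 3, 1, 4, 0, 1, 3, 4, 0, 1, 0, 1, 4,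
  1, 3, 1, 0, 4, 1, 3, 1, 2, 3, 4, 3, 2, 1, 3, 1, 4, 0, 1, 3, 4, 0, 1, 0, 1, 0, 1, 0, 4, 3, 1, 0,
  4, 1, 3, 1, 2, 3, 4, 3, 2, 1, 3, 4, 3, 2, 1, 2, 3, 4, 3, 2, 4, 3, 2, 1, 3, 1, 4, 0, 1, 3, 4, 0,
  1, 0, 1, 0, 1, 0, 4, 3, 1, 0, 4, 1, 3, 1, 2, 3, 4, 3, 2, 1, 3, 1, 4, 0, 1, 3, 4, 0, 1, 0, 1, 0,
  1, 0, 4, 3, 1, 0, 4, 1, 3, 1, 2, 3, 4, 3, 2, 1, 3, 1, 4, 0, 1, 4, 3, 4, 1, 3, 0, 4, 3, 1, 0, 4,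
  1, 3, 1, 4, 1, 3, 1, 4, 0, 1, 3, 1, 4, 1, 0, 1, 0, 4, 3, 1, 0, 4, 1, 3, 1, 4, 1, 3, 1, 4, 0, 1,
  3, 4, 0, 1, 0]),
  ([(146, []), (3, []), (72, [])], [0, 1, 4, 3, 1, 0, 4, 1, 3, 1, 2, 3, 4, 3, 2, 1, 3, 1, 4, 0, 1,
  3, 4, 0, 1, 0, 1, 0, 1, 0, 4, 3, 1, 0, 4, 1, 3, 1, 2, 3, 4, 3, 2, 1, 3, 4, 1, 3, 1, 0, 3, 2, 1,
  3, 1, 4, 0, 1, 3, 4, 0, 1, 0, 1, 0, 1, 0, 4, 3, 1, 0, 4, 1, 3, 1, 2, 3, 4, 3, 2, 1, 3, 1, 4, 0,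
  1, 3, 4, 0, 1, 0, 1, 0, 1, 0, 4, 3, 1, 0, 4, 1, 3, 1, 2, 3, 4, 3, 2, 1, 3, 1, 4, 0, 1, 3, 4, 3,
  1, 3, 0, 1, 0, 1, 0]),
  ([(2, []), (24, [])], [0, 1, 0, 4, 3, 1, 0, 4, 1, 3, 1, 4, 1, 3, 1, 4, 0, 1, 3, 4, 0, 1, 0, 1, 4,
  1, 3, 1, 0, 4, 1, 3, 1, 2, 3, 4, 3, 2, 1, 3, 1, 4, 0, 1, 3, 4, 0, 1, 0, 1, 0, 1, 0, 4, 3, 1, 0,
  4, 1, 3, 1, 2, 3, 4, 3, 2, 1, 3, 4, 3, 2, 1, 2, 3, 4, 1, 4, 0, 1, 3, 4, 0, 3, 1, 3, 0, 1, 0, 1,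
  0]),
  ([(186, []), (6, []), (619, [])], [0, 1, 0, 4, 3, 1, 0, 4, 1, 3, 1, 4, 1, 3, 1, 4, 0, 1, 3, 4, 0,
  1, 0, 1, 4, 1, 3, 1, 0, 4, 1, 3, 1, 2, 3, 4, 3, 2, 1, 3, 1, 4, 0, 1, 3, 4, 0, 1, 0, 1, 0, 1, 0,
  4, 3, 1, 0, 4, 1, 3, 1, 2, 3, 4, 1, 2, 0, 4, 1, 3, 1, 0, 1, 3, 1, 4, 0, 1, 3, 4, 1, 4, 0, 1, 3,
  1, 4, 0, 1, 3, 4, 0, 1, 0]),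
  ([(5, []), (159, []), (2, [])], [0, 1, 0, 1, 0, 3, 1, 3, 4, 3, 1, 0, 4, 1, 3, 1, 2, 3, 4, 3, 2,
  1, 3, 1, 4, 0, 1, 3, 4, 0, 1, 0, 1, 0, 1, 0, 4, 3, 1, 0, 4, 1, 3, 1, 2, 3, 4, 3, 2, 1, 3, 1, 4,
  0, 1, 3, 4, 0, 1, 0, 1, 0, 1, 0, 4, 3, 1, 0, 4, 1, 3, 1, 2, 3, 4, 1, 4, 0, 1, 3, 4, 0, 3, 1, 3,
  0, 1, 0, 1, 0]),
  ([(7, []), (154, [])], [0, 1, 0, 1, 0, 3, 1, 3, 4, 3, 1, 0, 4, 1, 3, 1, 2, 3, 4, 3, 2, 1, 3, 1,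
  4, 0, 1, 3, 4, 0, 1, 0, 1, 0, 1, 0, 4, 3, 1, 0, 4, 1, 3, 1, 2, 3, 4, 3, 2, 1, 3, 1, 4, 0, 1, 3,
  4, 0, 1, 0, 1, 0, 1, 0, 4, 3, 1, 0, 4, 1, 3, 1, 2, 3, 4, 2, 1, 3, 1, 0, 1, 3, 1, 4, 0, 1, 3, 4,
  0, 1, 3, 4, 1, 0]),
  ([(98, []), (7, []), (158, [])], [0, 1, 0, 4, 3, 1, 0, 4, 1, 3, 1, 0, 1, 3, 4, 1, 3, 1, 4, 3, 4,
  1, 0, 4, 1, 3, 1, 0, 1, 3, 1, 4, 0, 1, 3, 1, 3, 1, 0, 1, 3, 1, 4, 0, 1, 3, 4, 1, 3, 1, 0, 1, 2,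
  3, 4, 3, 2, 1, 3, 1, 4, 0, 1, 3, 4, 1, 0, 4, 3, 1, 0, 4, 1, 3, 1, 2, 3, 4, 3, 2, 1, 3, 1, 4, 0,
  1, 3, 4, 1, 0]),
  ([(185, []), (6, []), (595, [])], [0, 1, 0, 4, 3, 1, 0, 4, 1, 3, 1, 4, 1, 3, 1, 4, 0, 1, 3, 4, 0,
  1, 0, 1, 4, 1, 3, 1, 0, 4, 1, 3, 1, 2, 3, 4, 3, 2, 1, 3, 1, 4, 0, 1, 3, 4, 0, 1, 0, 1, 0, 1, 0,
  4, 3, 1, 0, 4, 1, 3, 1, 2, 3, 4, 3, 2, 0, 1, 3, 1, 4, 0, 1, 3, 4, 0, 1, 0]),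
  ([(83, []), (13, []), (362, [])], [0, 1, 0, 4, 3, 1, 0, 4, 1, 3, 1, 4, 1, 3, 1, 4, 0, 1, 3, 4, 0,
  1, 0, 1, 4, 1, 3, 1, 0, 4, 1, 3, 1, 2, 3, 4, 3, 2, 1, 3, 4, 1, 3, 1, 0, 3, 2, 1, 2, 3, 4, 3, 1,
  2, 3, 4, 3, 2, 1, 3, 1, 4, 0, 1, 3, 4, 0, 1, 0, 1, 0, 1, 0, 4, 3, 1, 0, 4, 1, 3, 1, 2, 3, 4, 3,
  2, 1, 3, 1, 4, 0, 1, 3, 4, 1, 0]),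
  ([(96, []), (9, []), (25, [])], [0, 1, 0, 1, 0, 3, 1, 3, 4, 3, 1, 4, 3, 1, 0, 4, 1, 3, 1, 4, 1,
  3, 1, 4, 0, 1, 2, 1, 3, 1, 4, 0, 1, 3, 4, 0, 1, 0, 1, 0, 1, 0, 4, 3, 1, 0, 4, 1, 3, 1, 2, 3, 4,
  3, 2, 1, 3, 1, 4, 0, 1, 3, 4, 0, 1, 0, 1, 0, 1, 0, 4, 3, 1, 0, 4, 1, 3, 1, 2, 3, 4, 3, 2, 1, 3,
  1, 4, 0, 1, 3, 1, 4, 1, 4, 3, 0]),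
  ([(371, []), (7, []), (258, [])], [0, 1, 4, 3, 1, 0, 4, 1, 3, 1, 2, 3, 4, 3, 2, 1, 3, 1, 4, 0, 1,
  3, 4, 0, 1, 0, 1, 0, 1, 0, 4, 3, 1, 0, 4, 1, 3, 1, 2, 3, 4, 3, 2, 1, 3, 1, 4, 0, 1, 3, 4, 0, 1,
  4, 1, 4, 1, 0, 1, 0, 4, 3, 1, 0, 4, 1, 3, 1, 4, 1, 3, 1, 4, 0, 1, 3, 4, 0, 1, 0]),
  ([(5, []), (89, [])], [0, 1, 4, 3, 1, 0, 4, 1, 3, 1, 2, 3, 4, 3, 2, 1, 3, 1, 4, 0, 1, 3, 4, 0, 1,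
  0, 1, 0, 1, 0, 4, 3, 1, 0, 4, 1, 3, 1, 2, 3, 4, 3, 2, 1, 3, 4, 3, 2, 1, 2, 3, 0, 3, 2, 1, 3, 1,
  4, 0, 1, 3, 4, 0, 1, 0, 1, 0, 1, 0, 4, 3, 1, 0, 4, 1, 3, 1, 2, 3, 4, 3, 2, 1, 3, 1, 4, 0, 1, 3,
  4, 0, 1, 0, 1, 0, 1, 0, 4, 3, 1, 0, 4, 1, 3, 1, 2, 3, 4, 3, 2, 1, 3, 1, 4, 0, 1, 3, 4, 3, 1, 3,
  0, 1, 0, 1, 0]),
  ([(14, []), (108, [])], [0, 1, 0, 1, 0, 3, 1, 3, 4, 3, 1, 0, 4, 1, 3, 1, 2, 3, 4, 3, 2, 1, 3, 1,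
  4, 0, 1, 3, 4, 0, 1, 0, 1, 0, 1, 0, 4, 3, 1, 0, 4, 1, 3, 1, 2, 3, 4, 3, 2, 1, 3, 1, 4, 0, 1, 3,
  4, 0, 1, 0, 1, 0, 1, 0, 4, 3, 1, 0, 4, 1, 3, 1, 2, 3, 1, 4, 0, 1, 3, 4, 3, 1, 3, 0, 1, 0, 1, 0]),
  ([(22, []), (16, [])], [0, 1, 4, 3, 1, 0, 4, 1, 3, 1, 2, 3, 4, 3, 2, 1, 3, 1, 4, 0, 1, 3, 4, 0,
  1, 0, 1, 0, 1, 0, 4, 3, 1, 0, 4, 1, 3, 1, 2, 3, 4, 3, 2, 1, 3, 4, 1, 3, 1, 0, 4, 1, 4, 0, 1, 3,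
  4, 0, 3, 1, 3, 0, 1, 0, 1, 0]),
  ([(56, []), (19, []), (16, [])], [0, 1, 0, 4, 3, 1, 0, 4, 1, 3, 1, 4, 1, 3, 1, 4, 0, 1, 3, 4, 0,
  1, 0, 1, 4, 1, 3, 1, 0, 4, 1, 3, 1, 4, 1, 3, 1, 4, 0, 1, 3, 4, 0, 3, 1, 4, 3, 4, 1, 0, 4, 1, 3,
  1, 2, 3, 4, 3, 2, 1, 3, 1, 4, 0, 1, 3, 4, 0, 1, 0, 1, 0, 1, 0, 4, 3, 1, 0, 4, 1, 3, 1, 2, 3, 4,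
  3, 2, 1, 3, 1, 4, 0, 1, 3, 4, 0, 1, 0, 1, 0, 1, 0, 4, 3, 1, 0, 4, 1, 3, 1, 2, 3, 4, 3, 1, 3, 1,
  0, 1, 3, 1, 4, 0, 1, 3, 4, 0, 1, 3, 4, 1, 0]),
  ([(62, []), (10, [])], [0, 1, 4, 3, 1, 0, 4, 3, 1, 0, 4, 1, 3, 1, 4, 3, 2, 1, 3, 1, 4, 0, 1, 3,
  4, 0, 1, 0, 1, 0, 1, 0, 4, 3, 1, 0, 4, 1, 3, 1, 2, 3, 4, 3, 2, 1, 3, 1, 4, 0, 1, 3, 4, 0, 1, 0,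
  1, 0, 1, 0, 4, 3, 1, 0, 4, 1, 3, 1, 2, 3, 4, 3, 2, 1, 3, 1, 4, 0, 1, 3, 1, 4, 1, 4, 3, 0]),
  ([(365, []), (10, []), (699, [])], [0, 1, 4, 3, 1, 0, 4, 1, 3, 1, 2, 3, 4, 3, 2, 1, 3, 1, 4, 0,
  1, 3, 4, 0, 1, 0, 1, 0, 1, 0, 4, 3, 1, 0, 4, 1, 3, 1, 2, 3, 4, 3, 2, 1, 3, 1, 4, 0, 1, 3, 4, 0,
  1, 0, 1, 0, 1, 0, 4, 3, 1, 0, 4, 1, 3, 1, 0, 1, 3, 1, 4, 0, 1, 3, 1, 4, 1, 0, 1, 0, 4, 3, 1, 0,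
  4, 1, 3, 1, 4, 1, 3, 1, 4, 0, 1, 3, 4, 0, 1, 0]),
  ([(10, []), (8, []), (57, [])], [0, 1, 4, 3, 1, 0, 4, 1, 3, 1, 2, 3, 4, 3, 2, 1, 3, 1, 4, 0, 1,
  3, 4, 0, 1, 0, 1, 0, 1, 0, 4, 3, 1, 0, 4, 1, 3, 1, 2, 3, 4, 3, 2, 1, 3, 4, 3, 2, 1, 2, 3, 4, 1,
  3, 1, 4, 0, 1, 3, 4, 0, 1, 3, 4, 1, 0]),
  ([(8, []), (83, [])], [0, 1, 4, 3, 1, 0, 4, 1, 3, 1, 2, 3, 4, 3, 2, 1, 3, 1, 4, 0, 1, 3, 4, 0, 1,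
  0, 1, 0, 1, 0, 4, 3, 1, 0, 4, 1, 3, 1, 2, 3, 4, 3, 2, 1, 3, 4, 1, 3, 1, 0, 4, 0, 1, 3, 1, 4, 0,
  1, 3, 4, 0, 1, 3, 4, 1, 0]),
  ([(46, []), (9, []), (64, [])], [0, 1, 4, 3, 1, 0, 4, 3, 1, 0, 4, 1, 3, 1, 0, 1, 3, 1, 4, 0, 4,
  3, 4, 3, 2, 1, 3, 1, 4, 0, 1, 3, 4, 0, 1, 0, 1, 0, 1, 0, 4, 3, 1, 0, 4, 1, 3, 1, 2, 3, 4, 3, 2,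
  1, 3, 1, 4, 0, 1, 3, 4, 0, 1, 0, 1, 0, 1, 0, 4, 3, 1, 0, 4, 1, 3, 1, 2, 3, 4, 3, 2, 1, 3, 1, 4,
  0, 1, 3, 4, 1, 3, 4, 1, 0]),
  ([(188, []), (18, []), (285, [])], [0, 1, 4, 3, 1, 0, 4, 1, 3, 1, 2, 3, 4, 3, 2, 1, 3, 1, 4, 0,
  1, 3, 4, 0, 1, 4, 3, 1, 0, 4, 1, 3, 1, 2, 3, 4, 3, 2, 1, 0, 1, 3, 1, 4, 3, 1, 0, 4, 1, 3, 1, 0,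
  1, 3, 1, 3, 4, 0, 1, 3, 4, 3, 1, 0, 4, 1, 3, 1, 4, 1, 3, 1, 4, 0, 1, 3, 4, 1, 3, 4, 1, 0]),
  ([(6, []), (10, [])], [0, 1, 4, 3, 1, 0, 4, 1, 3, 1, 2, 3, 4, 3, 2, 1, 3, 1, 4, 0, 1, 3, 4, 0, 1,
  0, 1, 0, 1, 0, 4, 3, 1, 0, 4, 1, 3, 1, 2, 3, 4, 3, 2, 1, 3, 4, 3, 2, 3, 1, 4, 0, 1, 3, 4, 0, 1,
  0, 1, 0, 1, 0, 4, 3, 1, 0, 4, 1, 3, 1, 2, 3, 4, 3, 2, 1, 3, 1, 4, 0, 1, 3, 4, 0, 1, 0, 1, 0, 1,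
  0, 4, 3, 1, 0, 4, 1, 3, 1, 2, 3, 4, 3, 2, 1, 3, 1, 4, 0, 1, 3, 1, 4, 1, 4, 3, 0]),
  ([(5, []), (585, [])], [0, 1, 4, 3, 1, 4, 3, 1, 0, 4, 1, 3, 1, 2, 3, 4, 3, 2, 1, 3, 1, 4, 0, 1,
  3, 4, 0, 1, 0, 1, 0, 1, 0, 4, 3, 1, 0, 4, 1, 3, 1, 2, 3, 4, 3, 2, 1, 3, 1, 4, 0, 1, 3, 4, 0, 1,
  0, 1, 0, 1, 0, 4, 3, 1, 0, 4, 1, 3, 1, 2, 3, 4, 3, 1, 3, 1, 0, 1, 3, 1, 4, 0, 1, 3, 1, 4, 3, 1,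
  0, 1, 3, 1, 4, 0, 1, 3, 4, 0, 1, 0]),
  ([(7, []), (98, [])], [0, 1, 4, 3, 1, 4, 3, 1, 0, 4, 1, 3, 1, 2, 3, 4, 3, 2, 1, 3, 1, 4, 0, 1, 3,
  4, 0, 1, 0, 1, 0, 1, 0, 4, 3, 1, 0, 4, 1, 3, 1, 2, 3, 4, 3, 2, 1, 3, 1, 4, 0, 1, 3, 4, 0, 1, 0,
  1, 0, 1, 0, 4, 3, 1, 0, 4, 1, 3, 1, 2, 3, 4, 0, 1, 3, 1, 4, 0, 1, 3, 4, 0, 3, 1, 3, 0, 1, 0, 1,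
  0]),
  ([(9, []), (56, [])], [0, 1, 4, 3, 1, 4, 3, 1, 0, 4, 1, 3, 1, 2, 3, 4, 3, 2, 1, 3, 1, 4, 0, 1, 3,
  4, 0, 1, 0, 1, 0, 1, 0, 4, 3, 1, 0, 4, 1, 3, 1, 2, 3, 4, 3, 2, 1, 3, 1, 4, 0, 1, 3, 4, 0, 1, 0,
  1, 0, 1, 0, 4, 3, 1, 0, 4, 1, 3, 1, 2, 3, 4, 3, 0, 1, 3, 1, 0, 1, 3, 1, 4, 0, 1, 3, 4, 0, 1, 3,
  4, 1, 0]),
  ([(138, []), (9, [])], [0, 1, 0, 1, 0, 3, 1, 3, 4, 3, 1, 0, 4, 1, 3, 1, 4, 1, 3, 1, 0, 1, 3, 1,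
  4, 0, 1, 3, 4, 1, 3, 1, 0, 1, 2, 3, 4, 3, 2, 1, 3, 1, 4, 0, 1, 3, 4, 1, 0, 4, 3, 1, 0, 4, 1, 3,
  1, 2, 3, 4, 3, 2, 1, 3, 1, 4, 0, 1, 3, 4, 1, 0]),
  ([(14, []), (3, [])], [0, 1, 4, 3, 1, 0, 4, 1, 3, 1, 2, 3, 4, 3, 2, 1, 3, 1, 4, 0, 1, 3, 4, 0, 1,
  0, 1, 0, 1, 0, 4, 3, 1, 0, 4, 1, 3, 1, 2, 3, 4, 3, 2, 1, 3, 4, 1, 3, 1, 0, 4, 1, 3, 1, 0, 3, 4,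
  3, 2, 1, 3, 1, 4, 0, 1, 3, 4, 0, 1, 0, 1, 0, 1, 0, 4, 3, 1, 0, 4, 1, 3, 1, 2, 3, 4, 3, 2, 1, 3,
  1, 4, 0, 1, 3, 4, 0, 1, 0, 1, 0, 1, 0, 4, 3, 1, 0, 4, 1, 3, 1, 2, 3, 4, 3, 2, 1, 3, 1, 4, 0, 1,
  3, 4, 1, 3, 4, 1, 0]),
  ([(359, []), (38, []), (774, [])], [0, 1, 4, 3, 1, 0, 4, 1, 3, 1, 2, 3, 4, 3, 2, 1, 3, 1, 4, 0,
  1, 3, 4, 0, 1, 0, 1, 0, 1, 0, 4, 3, 1, 0, 4, 1, 3, 1, 2, 3, 4, 3, 2, 1, 3, 1, 4, 0, 1, 3, 4, 0,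
  1, 0, 1, 0, 1, 0]),
  ([(12, []), (740, [])], [0, 1, 4, 3, 1, 0, 4, 1, 3, 1, 2, 3, 4, 3, 2, 1, 3, 1, 4, 0, 1, 3, 4, 0,
  1, 0, 1, 0, 1, 0, 4, 3, 1, 0, 4, 1, 3, 1, 2, 3, 4, 3, 2, 1, 3, 4, 3, 2, 1, 2, 3, 4, 3, 2, 0, 1,
  3, 1, 4, 0, 1, 3, 4, 0, 3, 1, 3, 0, 1, 0, 1, 0]),
  ([(4, []), (12, [])], [0, 1, 4, 3, 1, 0, 4, 1, 3, 1, 2, 3, 4, 3, 2, 1, 3, 1, 4, 0, 1, 3, 4, 0, 1,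
  0, 1, 0, 1, 0, 4, 3, 1, 0, 4, 1, 3, 1, 2, 3, 4, 3, 2, 1, 3, 4, 1, 3, 1, 0, 4, 1, 3, 1, 0, 1, 3,
  1, 0, 1, 3, 1, 4, 0, 1, 3, 1, 4, 3, 1, 0, 1, 3, 1, 4, 0, 1, 3, 4, 0, 1, 0]),
  ([(8, []), (471, [])], [0, 1, 0, 1, 0, 3, 1, 3, 4, 3, 1, 0, 4, 1, 3, 1, 4, 1, 3, 1, 4, 0, 4, 1,
  3, 1, 4, 0, 1, 3, 4, 1, 3, 1, 0, 1, 2, 3, 4, 3, 2, 1, 3, 1, 4, 0, 1, 3, 4, 1, 0, 4, 3, 1, 0, 4,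
  1, 3, 1, 2, 3, 4, 3, 2, 1, 3, 1, 4, 0, 1, 3, 4, 1, 0]),
  ([(6, []), (812, [])], [0, 1, 4, 3, 1, 0, 4, 1, 3, 1, 2, 3, 4, 3, 2, 1, 3, 1, 4, 0, 1, 3, 4, 0,
  1, 0, 1, 0, 1, 0, 4, 3, 1, 0, 4, 1, 3, 1, 2, 3, 4, 3, 2, 1, 3, 1, 4, 0, 1, 3, 4, 0]),
  ([(334, []), (31, []), (454, [])], [0, 3, 4, 3, 4, 1, 0, 4, 1, 3, 1, 2, 3, 4, 3, 2, 1, 3, 1, 4,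
  0, 1, 3, 4, 0, 1, 0, 1, 0, 1, 0, 4, 3, 1, 0, 4, 1, 3, 1, 2, 3, 4, 3, 2, 1, 3, 1, 4, 0, 1, 3, 4,
  1, 0]),
  ([(2, []), (813, [])], [0, 1, 4, 3, 1, 0, 4, 1, 3, 1, 2, 3, 4, 3, 2, 1, 3, 1, 4, 0, 1, 3, 4, 0,
  1, 0, 1, 0, 1, 0, 4, 3, 1, 0, 4, 1, 3, 1, 2, 3, 4, 3, 2, 1, 3, 1, 4, 0, 1, 3, 4, 0, 3, 0, 3, 0]),
  ([(9, []), (474, [])], [0, 1, 0, 4, 3, 1, 0, 4, 1, 3, 1, 0, 1, 3, 4, 1, 3, 1, 0, 4, 1, 3, 1, 0,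
  4, 2, 4, 3, 2, 1, 3, 1, 4, 0, 1, 3, 4, 1, 0, 4, 3, 1, 0, 4, 1, 3, 1, 2, 3, 4, 3, 2, 1, 3, 1, 4,
  0, 1, 3, 4, 1, 0]),
  ([(745, []), (37, [])], [0, 3, 0, 4, 3, 4, 3, 4, 0, 1, 0, 1, 0, 1, 0, 4, 3, 1, 0, 4, 1, 3, 1, 2,
  3, 4, 3, 2, 1, 3, 1, 4, 0, 1, 3, 4, 0, 1, 0, 1, 0, 1, 0, 4, 3, 1, 0, 4, 1, 3, 1, 2, 3, 4, 3, 2,
  1, 3, 1, 4, 0, 1, 3, 4, 1, 0]),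
  ([(457, []), (4, [])], [0, 1, 4, 3, 1, 0, 4, 1, 3, 1, 2, 3, 4, 3, 2, 1, 3, 1, 4, 0, 1, 3, 4, 0,
  1, 4, 3, 1, 0, 4, 1, 3, 1, 2, 3, 4, 3, 2, 1, 0, 1, 3, 1, 4, 3, 1, 0, 4, 1, 3, 1, 4, 1, 3, 1, 4,
  0, 1, 4, 0, 3, 0]),
  ([(13, []), (86, [])], [0, 1, 4, 3, 1, 0, 4, 1, 3, 1, 2, 3, 4, 3, 2, 1, 3, 1, 4, 0, 1, 3, 4, 0,
  1, 4, 3, 1, 0, 4, 1, 3, 1, 2, 3, 4, 3, 2, 1, 0, 1, 3, 1, 4, 3, 1, 0, 4, 1, 3, 1, 4, 1, 3, 4, 0,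
  4, 1, 3, 1, 4, 1, 3, 1, 4, 0, 1, 3, 1, 4, 3, 1, 4, 1, 3, 1, 4, 0, 1, 3, 4, 0, 1, 0])]

/-- derivation xu, part 8 -/
def xu8 : List (List (ℕ × List ℕ) × List ℕ) := [
  ([(5, []), (788, [])], [0, 1, 4, 3, 1, 0, 4, 1, 3, 1, 2, 3, 4, 3, 2, 1, 3, 1, 4, 0, 1, 3, 4, 0,
  1, 0, 1, 0, 1, 0, 4, 3, 1, 0, 4, 1, 3, 1, 2, 3, 4, 3, 2, 1, 3, 1, 4, 0, 1, 3, 4, 0, 1, 0, 1, 0,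
  1, 0, 4, 0, 1, 0, 4, 3, 1, 0, 4, 1, 3, 1, 4, 1, 3, 1, 4, 0, 1, 3, 4, 0, 1, 0]),
  ([(811, [0, 1, 4, 3, 1, 0, 4, 1, 3, 1, 2, 3, 4, 3, 2, 1, 3, 1, 4, 0, 1, 3, 4, 0, 1, 0, 1, 0, 1,
  0, 4, 3, 1, 0, 4, 1, 3, 1, 2, 3, 4, 3, 2, 1, 3, 1, 4, 0, 1]), (14, [])], [0, 1, 4, 3, 1, 0, 4, 1,
  3, 1, 2, 3, 4, 3, 2, 1, 3, 1, 4, 0, 1, 3, 4, 0, 1, 0, 1, 0, 1, 0, 4, 3, 1, 0, 4, 1, 3, 1, 2, 3,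
  4, 3, 2, 1, 3, 1, 4, 0, 1, 4, 3, 4, 3, 0]),
  ([(6, []), (779, [])], [0, 1, 4, 3, 1, 0, 4, 1, 3, 1, 2, 3, 4, 3, 2, 1, 3, 1, 4, 0, 1, 3, 4, 0,
  1, 4, 3, 1, 0, 4, 1, 3, 1, 2, 3, 4, 3, 2, 1, 0, 1, 3, 1, 4, 3, 1, 0, 4, 1, 3, 1, 4, 1, 3, 1, 3,
  1, 0, 4, 1, 3, 1, 4, 1, 3, 1, 4, 0, 1, 3, 4, 0, 3, 1, 3, 0, 1, 0, 1, 0]),
  ([(2, []), (769, [])], [0, 1, 4, 3, 1, 0, 4, 1, 3, 1, 2, 3, 4, 3, 2, 1, 3, 1, 4, 0, 1, 3, 4, 0,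
  1, 0, 1, 0, 1, 0, 4, 3, 1, 0, 4, 1, 3, 1, 2, 3, 4, 3, 2, 1, 3, 1, 4, 0, 1, 4, 3, 1, 0, 4, 3, 1,
  0, 4, 1, 3, 1, 4, 0, 1, 3, 1, 4, 0, 1, 3, 4, 0, 3, 1, 3, 0, 1, 0, 1, 0]),
  ([(530, []), (19, []), (668, [])], [0, 1, 4, 3, 1, 0, 4, 1, 3, 1, 2, 3, 4, 3, 2, 1, 3, 1, 4, 0,
  1, 3, 4, 0, 1, 4, 3, 1, 0, 4, 1, 3, 1, 2, 3, 4, 3, 2, 1, 3, 1, 4, 0, 1, 3, 4, 1, 0]),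
  ([(536, []), (21, []), (618, [])], [0, 1, 4, 3, 1, 0, 4, 1, 3, 1, 2, 3, 4, 3, 2, 1, 3, 4, 3, 2,
  1, 2, 3, 4, 2, 4, 0, 1, 3, 4, 0, 1, 3, 4, 1, 0]),
  ([(527, []), (2, []), (828, [0, 1, 4, 3, 1, 0, 4])], [0, 1, 4, 3, 1, 0, 4, 1, 3, 1, 2, 3, 4, 3,
  2, 1, 3, 1, 4, 0, 1, 3, 4, 0, 1, 4, 3, 1, 0, 4, 1, 3, 1, 2, 3, 4, 2, 1, 3, 4, 0, 1, 3, 4, 1, 0]),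
  ([(538, []), (2, []), (129, [])], [0, 1, 4, 3, 1, 0, 4, 1, 3, 1, 2, 3, 4, 3, 2, 1, 3, 1, 4, 0, 1,
  3, 4, 0, 1, 0, 1, 0, 1, 0, 4, 3, 1, 0, 4, 1, 3, 1, 2, 3, 4, 1, 2, 1, 4, 1, 3, 1, 4, 0, 1, 3, 1,
  4, 3, 1, 0, 1, 3, 1, 4, 0, 1, 3, 4, 0, 1, 0]),
  ([(6, []), (733, [])], [0, 1, 4, 3, 1, 0, 4, 1, 3, 1, 2, 3, 4, 3, 2, 1, 3, 1, 4, 0, 1, 3, 4, 0,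
  1, 4, 3, 1, 0, 4, 1, 3, 1, 2, 3, 4, 3, 2, 1, 4, 3, 4, 3, 1, 4, 0, 1, 3, 4, 0, 1, 0]),
  ([(5, []), (25, [])], [0, 1, 4, 3, 1, 0, 4, 3, 1, 4, 0, 1, 3, 1, 4, 0, 1, 3, 1, 4, 3, 1, 0, 1, 3,
  1, 4, 0, 1, 3, 4, 0, 1, 0]),
  ([(8, []), (135, [])], [0, 1, 4, 3, 1, 0, 4, 1, 3, 1, 2, 3, 4, 3, 2, 1, 3, 4, 3, 2, 1, 2, 3, 4,
  2, 1, 3, 1, 4, 0, 1, 3, 1, 4, 3, 1, 0, 1, 3, 1, 4, 0, 1, 3, 4, 0, 1, 0]),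
  ([(11, []), (539, [])], [0, 1, 4, 3, 1, 0, 4, 3, 1, 0, 4, 3, 2, 1, 2, 3, 4, 3, 2, 1, 2, 3, 4, 3,
  1, 2, 3, 4, 3, 2, 1, 3, 1, 4, 0, 1, 3, 4, 0, 1, 0, 1, 0, 1, 0, 4, 3, 1, 0, 4, 1, 3, 1, 2, 3, 4,
  3, 2, 1, 3, 1, 4, 0, 1, 3, 4, 1, 0]),
  ([(9, []), (534, [])], [0, 1, 0, 4, 3, 1, 0, 4, 1, 3, 1, 0, 1, 3, 4, 1, 3, 1, 0, 4, 1, 3, 1, 4,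
  1, 3, 1, 3, 1, 2, 3, 4, 3, 2, 1, 3, 1, 4, 0, 1, 3, 4, 0, 1, 0, 1, 0, 1, 0, 4, 3, 1, 0, 4, 1, 3,
  1, 2, 3, 4, 3, 2, 1, 3, 1, 4, 0, 1, 3, 4, 1, 0]),
  ([(569, []), (37, [])], [0, 1, 4, 3, 1, 0, 4, 1, 3, 1, 2, 3, 4, 3, 2, 1, 3, 4, 3, 2, 1, 2, 3, 2,
  4, 3, 2, 1, 3, 1, 4, 0, 1, 4, 3, 4, 3, 0]),
  ([(464, []), (10, [])], [0, 1, 4, 3, 1, 0, 4, 1, 3, 1, 2, 3, 4, 3, 2, 1, 3, 1, 4, 0, 1, 3, 4, 0,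
  1, 4, 3, 1, 0, 4, 1, 3, 1, 2, 3, 4, 3, 2, 1, 0, 1, 3, 1, 0, 1, 3, 1, 0, 4, 1, 3, 1, 4, 1, 3, 1,
  3, 4, 3, 1, 4, 0, 1, 3, 4, 0, 1, 0]),
  ([(364, []), (11, [])], [0, 1, 0, 4, 3, 1, 0, 4, 1, 3, 1, 0, 4, 1, 4, 3, 1, 0, 4, 1, 3, 1, 0, 1,
  3, 1, 4, 1, 0, 4, 1, 3, 1, 2, 3, 4, 3, 2, 1, 3, 1, 4, 0, 1, 3, 4, 0, 1, 0, 1, 0, 1, 0, 4, 3, 1,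
  0, 4, 1, 3, 1, 2, 3, 4, 3, 2, 1, 3, 1, 4, 0, 1, 3, 4, 0, 1, 0, 1, 0, 1, 0, 4, 3, 1, 0, 4, 1, 3,
  1, 2, 3, 4, 3, 2, 4, 1, 3, 4, 0, 1, 3, 4, 1, 0]),
  ([(598, []), (5, []), (10, [])], [0, 1, 4, 3, 1, 0, 4, 1, 3, 1, 2, 3, 4, 3, 2, 1, 3, 4, 1, 3, 1,
  0, 4, 1, 3, 1, 0, 1, 3, 1, 2, 1, 3, 1, 4, 0, 1, 3, 1, 4, 3, 1, 0, 1, 3, 1, 4, 0, 1, 3, 4, 0, 1,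
  0]),
  ([(7, []), (583, [])], [0, 3, 4, 3, 4, 1, 0, 4, 1, 3, 1, 2, 3, 4, 2, 1, 3, 1, 4, 3, 1, 2, 3, 4,
  3, 2, 1, 3, 1, 4, 0, 1, 3, 4, 1, 0]),
  ([(5, []), (370, [])], [0, 1, 4, 3, 1, 0, 4, 3, 1, 4, 0, 1, 3, 1, 4, 0, 1, 3, 1, 4, 3, 1, 0, 1,
  3, 1, 4, 0, 1, 3, 4, 0, 1, 0]),
  ([(5, []), (604, [])], [0, 1, 0, 4, 3, 1, 0, 4, 1, 3, 1, 0, 1, 3, 4, 1, 3, 1, 0, 4, 1, 3, 1, 2,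
  4, 2, 4, 3, 2, 1, 3, 1, 4, 0, 1, 4, 3, 4, 3, 0]),
  ([(150, []), (862, [0, 1, 0, 1, 0, 3, 1, 3, 0, 4, 3, 1, 0, 4, 1, 3, 1, 4, 1, 3, 1, 4, 0, 1])],
  [0, 1, 4, 3, 1, 4, 3, 1, 0, 4, 1, 3, 1, 4, 1, 3, 1, 4, 0, 1, 3, 4, 3, 1, 4, 3, 1, 0, 4, 1, 3, 1,
  4, 1, 3, 1, 4, 0, 1, 3, 4, 3, 1, 0, 4, 3, 1, 0, 4, 1, 3, 1, 4, 1, 3, 1, 4, 0, 1, 3, 4, 3, 0, 3,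
  1, 0, 4, 1, 3, 1, 4, 1, 3, 1, 4, 0, 1, 3, 4, 0, 3, 1, 3, 0, 1, 0, 1, 0]),
  ([(0, []), (862, [0, 1, 0, 1, 0, 3, 1, 3, 0, 4, 3, 1, 0, 4, 1, 3, 1, 4, 1, 3, 1, 4, 0, 1, 3])],
  [0, 1, 4, 3, 1, 4, 3, 1, 0, 4, 1, 3, 1, 4, 1, 3, 1, 4, 0, 1, 3, 4, 3, 1, 4, 3, 1, 0, 4, 1, 3, 1,
  4, 1, 3, 1, 4, 0, 1, 3, 4, 3, 1, 0, 4, 3, 1, 0, 4, 1, 3, 1, 4, 1, 3, 1, 4, 0, 1, 3, 4, 3, 4, 0,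
  4, 3, 1, 0, 4, 1, 3, 1, 4, 1, 3, 1, 4, 0, 1, 3, 4, 0, 3, 1, 3, 0, 1, 0, 1, 0]),
  ([(248, []), (1, []), (2, [])], [0, 3, 4, 1, 4, 1, 3, 1, 0, 4, 1, 3, 1, 0, 4, 1, 3, 1, 4, 0, 1,
  3, 4, 3, 1, 0, 4, 1, 3, 1, 4, 1, 3, 1, 4, 0, 1, 3, 4, 0, 3, 1, 3, 0, 1, 0, 1, 0]),
  ([(243, []), (0, []), (41, [])], [0, 3, 4, 1, 4, 1, 3, 1, 0, 4, 1, 3, 1, 4, 1, 3, 1, 4, 0, 1, 3,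
  4, 3, 1, 4, 1, 3, 1, 4, 0, 1, 3, 4, 1, 3, 1, 0, 1, 2, 3, 4, 3, 2, 1, 3, 1, 4, 0, 1, 3, 4, 1, 0,
  4, 3, 1, 0, 4, 1, 3, 1, 2, 3, 4, 3, 2, 1, 3, 1, 4, 0, 1, 3, 4, 1, 0]),
  ([(0, []), (48, [])], [0, 3, 4, 1, 4, 1, 3, 1, 0, 4, 1, 3, 1, 4, 1, 3, 1, 4, 0, 1, 3, 0, 4, 1, 3,
  1, 4, 1, 3, 1, 4, 0, 1, 3, 1, 4, 3, 1, 4, 1, 3, 1, 4, 0, 1, 3, 4, 0, 1, 0]),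
  ([(42, []), (400, []), (864, [0, 1, 0, 1, 0, 3, 1, 3, 0, 4, 3, 1, 0, 4, 1, 3, 1, 4, 1, 3, 1, 4,
  0, 1, 3, 1]), (45, []), (50, [])], [0, 1, 4, 3, 1, 0, 4, 1, 3, 1, 2, 3, 4, 3, 2, 1, 3, 1, 4, 0,
  1, 3, 4, 0, 1, 0, 1, 0, 1, 0, 4, 3, 1, 0, 4, 1, 3, 1, 2, 3, 4, 3, 2, 1, 3, 1, 4, 0, 1, 4, 3, 1,
  0, 4, 1, 0, 4, 1, 3, 1, 4, 1, 3, 1, 4, 0, 1, 3, 1, 4, 3, 1, 4, 1, 3, 1, 4, 0, 1, 3, 4, 0, 1, 0]),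
  ([(2, []), (1, [])], [0, 3, 4, 1, 4, 1, 3, 1, 0, 4, 1, 3, 1, 4, 1, 3, 1, 4, 0, 1, 3, 1, 4, 0, 1,
  3, 4, 1, 0, 4, 1, 3, 1, 2, 3, 4, 3, 2, 1, 3, 1, 4, 0, 1, 3, 4, 0, 1, 0, 1, 0, 1, 0, 4, 3, 1, 0,
  4, 1, 3, 1, 2, 3, 4, 3, 2, 1, 3, 1, 4, 0, 1, 3, 4, 1, 0]),
  ([(0, []), (489, [])], [0, 3, 4, 1, 4, 1, 3, 1, 0, 4, 1, 3, 1, 4, 1, 3, 1, 4, 1, 3, 1, 4, 0, 1,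
  3, 1, 0, 1, 3, 1, 0, 1, 2, 3, 4, 3, 2, 1, 3, 1, 4, 0, 1, 3, 4, 1, 0, 4, 3, 1, 0, 4, 1, 3, 1, 2,
  3, 4, 3, 2, 1, 3, 1, 4, 0, 1, 3, 4, 1, 0]),
  ([(0, []), (26, [])], [0, 3, 4, 1, 4, 1, 3, 1, 0, 4, 1, 3, 1, 4, 3, 4, 3, 1, 4, 0, 1, 3, 4, 0, 1,
  0]),
  ([(0, []), (774, [])], [0, 3, 4, 1, 4, 1, 3, 1, 0, 4, 1, 3, 1, 3, 1, 4, 0, 1, 3, 4, 1, 0]),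
  ([(877, [0, 1, 4, 3, 1, 0, 4]), (1, [])], [0, 1, 4, 3, 1, 0, 4, 3, 4, 0, 1, 3, 1, 4, 1, 4, 3,
  0]),
  ([(1, []), (42, [])], [0, 3, 4, 1, 4, 1, 3, 1, 0, 4, 1, 4, 0, 1, 3, 1, 4, 0, 1, 3, 1, 4, 3, 1, 0,
  1, 3, 1, 4, 0, 1, 3, 4, 0, 1, 0]),
  ([(95, []), (92, []), (881, [0, 1, 0, 1, 0, 3, 1, 3, 0, 4, 3, 1, 0, 4, 1, 3, 1, 0])], [0, 1, 0,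
  4, 3, 1, 0, 4, 1, 3, 1, 0, 1, 3, 4, 1, 3, 1, 0, 4, 1, 3, 1, 0, 3, 1, 0, 1, 3, 1, 4, 0, 1, 3, 4,
  0, 3, 1, 3, 0, 1, 0, 1, 0]),
  ([(46, []), (0, [])], [0, 1, 4, 3, 1, 0, 4, 3, 1, 4, 3, 1, 0, 1, 3, 1, 4, 0, 1, 3, 4, 0, 3, 1, 3,
  0, 1, 0, 1, 0]),
  ([(3, []), (31, [])], [0, 1, 0, 1, 0, 3, 1, 3, 0, 4, 3, 1, 0, 4, 1, 3, 1, 0, 1, 3, 4, 1, 3, 4, 0,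
  1, 3, 4, 1, 0]),
  ([(5, []), (7, [])], [0, 1, 0, 1, 0, 3, 1, 3, 0, 4, 3, 1, 0, 4, 1, 3, 1, 0, 1, 3, 4, 1, 4, 0, 1,
  3, 1, 4, 1, 4, 3, 0]),
  ([(90, []), (5, []), (673, [])], [0, 1, 4, 3, 1, 0, 4, 1, 3, 1, 2, 3, 4, 3, 2, 1, 3, 1, 4, 0, 1,
  3, 4, 0, 1, 0, 1, 0, 1, 0, 4, 3, 1, 0, 4, 1, 3, 1, 2, 3, 4, 3, 2, 1, 3, 4, 3, 2, 1, 2, 3, 4, 3,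
  2, 1, 2, 1, 2, 3, 4, 0, 4, 1, 3, 1, 0, 1, 3, 1, 4, 0, 1, 3, 4, 0, 1, 3, 4, 1, 0]),
  ([(1, []), (92, [])], [0, 1, 4, 3, 1, 0, 4, 3, 1, 0, 4, 1, 3, 1, 0, 1, 3, 1, 4, 0, 4, 3, 2, 1, 2,
  1, 0, 1, 3, 1, 4, 0, 1, 3, 4, 0, 3, 1, 3, 0, 1, 0, 1, 0]),
  ([(3, []), (53, [])], [0, 1, 4, 3, 1, 0, 4, 3, 1, 0, 4, 1, 3, 1, 0, 1, 3, 1, 4, 0, 4, 3, 2, 1, 3,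
  4, 0, 1, 3, 4, 0, 1, 3, 4, 1, 0]),
  ([(192, []), (1, []), (2, []), (890, [0, 1, 0, 1, 0, 3, 1, 3, 0, 4, 3, 1, 0, 4, 1, 3, 1, 0, 1])],
  [0, 1, 0, 4, 3, 1, 0, 4, 1, 3, 1, 0, 1, 3, 4, 1, 3, 1, 0, 4, 1, 3, 1, 2, 3, 1, 0, 1, 3, 1, 4, 0,
  1, 3, 4, 0, 3, 1, 3, 0, 1, 0, 1, 0]),
  ([(11, []), (1, []), (194, [])], [0, 1, 4, 3, 1, 0, 4, 3, 1, 4, 2, 4, 0, 1, 3, 4, 0, 1, 3, 4, 1,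
  0]),
  ([(43, []), (2, []), (10, [])], [0, 3, 4, 3, 4, 1, 0, 4, 1, 3, 1, 2, 3, 4, 2, 1, 4, 0, 1, 3, 1,
  4, 1, 4, 3, 0]),
  ([(49, []), (0, [])], [0, 1, 4, 3, 1, 0, 4, 1, 3, 1, 2, 3, 4, 3, 2, 1, 3, 4, 1, 3, 4, 0, 1, 3, 1,
  4, 1, 4, 3, 0]),
  ([(670, []), (4, []), (201, [])], [0, 1, 4, 3, 1, 0, 4, 1, 3, 1, 2, 3, 4, 1, 2, 1, 4, 1, 3, 1, 4,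
  0, 1, 3, 1, 4, 3, 1, 0, 1, 3, 1, 4, 0, 1, 3, 4, 0, 1, 0]),
  ([(647, []), (2, []), (27, [])], [0, 1, 4, 3, 1, 0, 4, 1, 3, 1, 2, 3, 4, 3, 2, 1, 3, 1, 4, 0, 1,
  3, 4, 0, 1, 0, 1, 0, 1, 0, 1, 0]),
  ([(65, []), (3, []), (668, [])], [0, 1, 4, 3, 1, 0, 4, 1, 3, 1, 2, 3, 4, 3, 2, 1, 3, 1, 4, 0, 1,
  3, 4, 0, 1, 0, 1, 0, 1, 0, 1, 0]),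
  ([(649, []), (2, []), (830, [])], [0, 1, 4, 3, 1, 0, 4, 1, 3, 1, 2, 3, 4, 3, 2, 1, 3, 1, 4, 0, 1,
  3, 4, 0, 1, 0]),
  ([(2, []), (0, [])], [0, 1, 4, 3, 1, 0, 4, 1, 3, 1, 2, 3, 4, 3, 2, 1, 3, 1, 4, 0, 1, 3, 4, 0, 1,
  0, 1, 0, 1, 0, 4, 3, 1, 0, 4, 1, 3, 1, 2, 3, 4, 3, 2, 1, 3, 1, 4, 0, 1, 3, 4, 0, 1, 0]),
  ([(568, []), (0, []), (841, [])], [0, 1, 4, 3, 1, 0, 4, 1, 3, 1, 2, 3, 4, 3, 2, 1, 3, 1, 4, 0, 1,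
  3, 4, 0, 1, 0, 1, 0, 1, 0, 4, 3, 1, 0, 4, 1, 3, 1, 2, 3, 4, 3, 2, 1, 3, 1, 4, 0, 1, 3, 4, 0, 1,
  0, 1, 0, 1, 0, 1, 0]),
  ([(1, []), (96, [])], [0, 1, 4, 0, 1, 0, 4, 3, 1, 0, 4, 1, 3, 1, 4, 1, 3, 1, 4, 0, 1, 3, 4, 0, 1,
  0])]

/-- derivation xu, part 9 -/
def xu9 : List (List (ℕ × List ℕ) × List ℕ) := [
  ([(0, []), (900, [])], [0, 1]),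
  ([(928, []), (1, [])], [0, 1, 0, 1]),
  ([(1, []), (930, [])], [0, 1]),
  ([(0, []), (0, [])], [0, 1, 0, 1])]

/-- derivation xu -/
def xu : List (List (ℕ × List ℕ) × List ℕ) := xu0 ++ xu1 ++ xu2 ++ xu3 ++ xu4 ++ xu5 ++ xu6 ++ xu7 ++ xu8 ++ xu9

end

end Cfsg.Agent.FischerTwins.FootData
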