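import Cfsg.Agent.Lib.FischerTwins.Line
import Cfsg.Agent.Lib.FischerTwins.FootData
import Cfsg.Agent.Lib.FischerSolvable.Config

/-!
Every class of twins at `x` meets the partners of a member not commuting with `x`.
-/

set_option autoImplicit false
set_option maxRecDepth 20000

namespace Cfsg.Agent.FischerTwins

open Cfsg.Agent Cfsg.Agent.Fischer Subgroup Cfsg.Agent.CosetCert
open Cfsg.Agent.FischerSolvable (genOf genOf_invol sq_of_commute cube_of_not not_commute_third)
open Cfsg.Agent.Fischer.OddCoreLocal (Ctx X)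
open Cfsg.Agent.Fischer.LocalSymThree (nb nb_symm)

variable {G : Type*} [Group G] {D : Set G}

theorem gx_ok : WordProof.steps FootData.base FootData.gx = true := by decide +kernel

theorem gb_ok : WordProof.steps FootData.base FootData.gb = true := by decide +kernel

theorem xu_ok : WordProof.steps (FootData.extra ++ FootData.base) FootData.xu = true := by decide +kernel

theorem gx_last : (FootData.gx.map Prod.snd).getLastD [] =
    [0, 1, 0, 4, 3, 1, 0, 4, 1, 3, 1, 0, 1, 3, 1, 4, 0, 1, 3, 4, 0, 1] := by decide +kernel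

theorem gb_last : (FootData.gb.map Prod.snd).getLastD [] =
    [0, 1, 0, 4, 3, 1, 0, 4, 1, 3, 1, 4, 1, 3, 1, 4, 0, 1, 3, 4, 0, 1, 0, 4] := by decide +kernel

theorem xu_last : (FootData.xu.map Prod.snd).getLastD [] = [0, 1, 0, 1] := by decide +kernel

namespace Hyp

variable (hH : Hyp D)
include hH

theorem tset : IsThreeTranspositionSet D := hH.ctx.tg.1

theorem eq_one_of_commute {g : G} (h : ∀ u ∈ D, Commute g u) : g = 1 := by
  have := mem_center_of_commute_gen hH.ctx.tg.2.2 h
  rwa [hH.cz, mem_bot] at this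

theorem foot_base {x u : G} (hx : x ∈ D) (hu : u ∈ D) (hxu : ¬ Commute x u) :
    ∃ a ∈ nb D x, Commute u a := by
  have key : ∀ (p q : D) (_ : (Cfsg.commutingGraph D).Walk p q), Commute x (p : G) →
      ¬ Commute x (q : G) → ∃ m z : G, m ∈ nb D x ∧ z ∈ D ∧ ¬ Commute x z ∧ Commute m z := by
    intro p q W
    induction W with
    | nil => exact fun h h' => absurd h h'
    | @cons p r q hadj _ ih =>
      intro hp hq
      by_cases hr : Commute x (r : G)
      · exact ih hr hq
      rw [Cfsg.commutingGraph, SimpleGraph.fromRel_adj] at hadj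
      have hc : Commute (p : G) (r : G) := hadj.2.elim id fun h => h.symm
      exact ⟨p, r, ⟨p.2, fun e => hr (e ▸ hc), hp⟩, r.2, hr, hc⟩
  obtain ⟨W⟩ := hH.conn.preconnected ⟨x, hx⟩ ⟨u, hu⟩
  obtain ⟨m, z, hm, hz, hxz, hmz⟩ := key _ _ W (Commute.refl x) hxu
  obtain ⟨g, hg, rfl⟩ := hH.ctx.trn x hx z hz u hu hxz hxu
  have hgx : Commute g x := by
    have hle : commClosure D x ≤ centralizer ({x} : Set G) :=
      (closure_le _).2 fun y hy => mem_centralizer_singleton_iff.2 hy.2.symm.eq
    exact mem_centralizer_singleton_iff.1 (hle hg)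
  refine ⟨g * m * g⁻¹, ?_, (commute_conj_iff g z m).2 hmz.symm⟩
  have := hH.ctx.nb_conj g hm
  rwa [conj_eq_self_of_commute hgx] at this

variable [Finite G] in
theorem foot_step {x u a b : G} (hx : x ∈ D) (hu : u ∈ D) (hxu : ¬ Commute x u) (ha : a ∈ nb D x)
    (hb : b ∈ nb D x) (hab : ¬ Commute a b) (hP : ∃ v, Twin D x a v ∧ Commute u v) :
    ∃ v, Twin D x b v ∧ Commute u v := by
  obtain ⟨t, hat, hut⟩ := hP
  have htb : ¬ Commute t b := fun h => hab ((hat.2 b hb).2 h)
  by_contra hno
  push Not at hno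
  have hub := hno b (Twin.refl hb)
  obtain ⟨t', htne, htt⟩ := hH.twin x hx t hat.1
  have hut' : ¬ Commute u t' := by
    intro h
    obtain ⟨hl, -⟩ := (hH.twin_iff_line hx hat.1).1 htt
    exact hxu (hH.all_of_two hx hat.1 (right_mem_line hat.1.1) hl htne hu hut h (left_mem_line hx)).symm
  have htb' : ¬ Commute t' b := fun h => htb ((htt.2 b hb).2 h)
  have htw := hH.pair x hx t t' hat.1 htt b hb
  have hb'D : t * t' * b * (t * t')⁻¹ ∈ D := hH.ctx.conj_mem _ hb.1
  have hub' := hno _ htw
  set l := [x, u, t, t', b] with hl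
  have hinv : ∀ i, genOf l i * genOf l i = 1 := genOf_invol fun y hy => TSet.sq hH.tset (by
    simp only [hl, List.mem_cons, List.not_mem_nil, or_false] at hy
    rcases hy with rfl | rfl | rfl | rfl | rfl
    exacts [hx, hu, hat.1.1, htt.1.1, hb.1])
  have hbe : t * t' * b * (t * t')⁻¹ = t * (t' * (b * (t' * t))) := by
    rw [mul_inv_rev, TSet.inv hH.tset hat.1.1, TSet.inv hH.tset htt.1.1]
    simp only [mul_assoc]
  have hbase : ∀ w ∈ FootData.base, wprod (genOf l) w = 1 := by
    intro w hw
    simp only [FootData.base, List.mem_cons, List.not_mem_nil, or_false] at hw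
    rcases hw with rfl | rfl | rfl | rfl | rfl | rfl | rfl | rfl | rfl | rfl | rfl <;>
      simp only [hl, wprod, genOf, List.map_cons, List.map_nil, List.prod_cons, List.prod_nil, mul_one,
        List.getD_cons_zero, List.getD_cons_succ]
    · have := cube_of_not hH.tset hu hb'D hub'
      rw [hbe] at this
      simpa [mul_assoc] using this
    · exact cube_of_not hH.tset htt.1.1 hb.1 htb'
    · exact cube_of_not hH.tset hat.1.1 hb.1 htb
    · exact sq_of_commute hH.tset hat.1.1 htt.1.1 htt.commute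
    · exact cube_of_not hH.tset hu hb.1 hub
    · exact cube_of_not hH.tset hu htt.1.1 hut'
    · exact sq_of_commute hH.tset hu hat.1.1 hut
    · exact sq_of_commute hH.tset hx hb.1 hb.2.2
    · exact sq_of_commute hH.tset hx htt.1.1 htt.1.2.2
    · exact sq_of_commute hH.tset hx hat.1.1 hat.1.2.2
    · exact cube_of_not hH.tset hx hu hxu
  set g := wprod (genOf l) [0, 1, 0, 4, 3, 1, 0, 4, 1, 3, 1] with hg
  have hgi : g⁻¹ = wprod (genOf l) [1, 3, 1, 4, 0, 1, 3, 4, 0, 1, 0] := by
    rw [hg, ← WordProof.wprod_reverse hinv]; rfl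
  have egx : g * x * g⁻¹ = x := by
    have h1 := WordProof.last_one hinv hbase gx_ok
    rw [gx_last] at h1
    have h2 : g * x * g⁻¹ * x = 1 := by
      rw [hgi, hg, ← h1]
      simp [hl, wprod, genOf, mul_assoc, TSet.sq hH.tset hx]
    rwa [mul_eq_one_iff_eq_inv, TSet.inv hH.tset hx] at h2
  have egb : g * b * g⁻¹ = b := by
    have h1 := WordProof.last_one hinv hbase gb_ok
    rw [gb_last] at h1
    have h2 : g * b * g⁻¹ * b = 1 := by
      rw [hgi, hg, ← h1]
      simp [hl, wprod, genOf, mul_assoc]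
    rwa [mul_eq_one_iff_eq_inv, TSet.inv hH.tset hb.1] at h2
  have hd := twin_conj hH.ctx g htw
  rw [egx, egb] at hd
  have hud := cube_of_not hH.tset hu hd.1.1 (hno _ hd)
  rw [hbe, hgi, hg] at hud
  have hext : ∀ w ∈ FootData.extra ++ FootData.base, wprod (genOf l) w = 1 := by
    intro w hw
    rcases List.mem_append.1 hw with hw | hw
    swap
    · exact hbase w hw
    simp only [FootData.extra, List.mem_cons, List.not_mem_nil, or_false] at hw
    rcases hw with rfl | rfl | rfl
    · have h1 := WordProof.last_one hinv hbase gb_ok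
      rw [gb_last] at h1
      exact h1
    · have h1 := WordProof.last_one hinv hbase gx_ok
      rw [gx_last] at h1
      exact h1
    · simp only [hl, wprod, genOf, List.map_cons, List.map_nil, List.prod_cons, List.prod_nil, mul_one,
        List.getD_cons_zero, List.getD_cons_succ, mul_assoc] at hud ⊢
      exact hud
  have h1 := WordProof.last_one hinv hext xu_ok
  rw [xu_last] at h1
  refine hxu ((commute_iff_sq_eq_one (TSet.sq hH.tset hx) (TSet.sq hH.tset hu)).2 ?_)
  simpa [hl, wprod, genOf, pow_two, mul_assoc] using h1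

variable [Finite G]

/-- Every class of twins at `x` meets the partners of `u`. -/
theorem foot {x u a : G} (hx : x ∈ D) (hu : u ∈ D) (hxu : ¬ Commute x u) (ha : a ∈ nb D x) :
    ∃ v, Twin D x a v ∧ Commute u v := by
  obtain ⟨a₀, ha₀, hua₀⟩ := hH.foot_base hx hu hxu
  set S : Set G := {b | b ∈ nb D x ∧ ∃ v, Twin D x b v ∧ Commute u v} with hS
  have step : ∀ e ∈ nb D x, ∀ v ∈ S, e * v * e⁻¹ ∈ S := by
    intro e he v hv
    by_cases hev : Commute e v
    · rwa [conj_eq_self_of_commute hev]
    have heS := hH.foot_step hx hu hxu hv.1 he (fun h => hev h.symm) hv.2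
    have hw : e * v * e⁻¹ ∈ nb D x := by
      have := hH.ctx.nb_conj e hv.1
      rwa [conj_eq_self_of_commute he.2.2.symm] at this
    refine ⟨hw, hH.foot_step hx hu hxu he hw (fun h => hev ?_) heS⟩
    rwa [← commute_conj_iff e, conj_eq_self_of_commute (Commute.refl e)]
  have hall : ∀ g ∈ closure (nb D x), ∀ v ∈ S, g * v * g⁻¹ ∈ S := by
    intro g hg
    induction hg using Subgroup.closure_induction'' with
    | mem t ht => exact step t ht
    | inv_mem t ht =>
      rw [TSet.inv hH.tset ht.1]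
      exact step t ht
    | one => intro v hv; simpa using hv
    | mul a b _ _ ha hb =>
      intro v hv
      rw [show a * b * v * (a * b)⁻¹ = a * (b * v * b⁻¹) * a⁻¹ by group]
      exact ha _ (hb v hv)
  obtain ⟨g, hg, rfl⟩ := hH.ctx.trc x hx a₀ ha₀ a ha
  exact (hall g hg a₀ ⟨ha₀, a₀, Twin.refl ha₀, hua₀⟩).2

theorem exists_foot {p q u : G} (hp : p ∈ D) (hq : q ∈ nb D p) (hu : u ∈ D) :
    ∃ e ∈ Line D p q, Commute u e := by
  by_cases h : Commute p u
  · exact ⟨p, left_mem_line hp, h.symm⟩
  obtain ⟨v, hv, hc⟩ := hH.foot hp hu h hq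
  exact ⟨v, ((hH.twin_iff_line hp hq).1 hv).1, hc⟩

theorem foot_unique {p q u v e f : G} (hp : p ∈ D) (hq : q ∈ nb D p) (hu : u ∈ D) (hv : v ∈ Line D p q)
    (huv : ¬ Commute u v) (he : e ∈ Line D p q) (hf : f ∈ Line D p q) (h1 : Commute u e)
    (h2 : Commute u f) : e = f := by
  by_contra hne
  exact huv (hH.all_of_two hp hq he hf (Ne.symm hne) hu h1 h2 hv)

end Hyp

end Cfsg.Agent.FischerTwins
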