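import Cfsg.Agent.Lib.FischerTwins.Base

/-!
Every member is given by a vector on the points of a base.
-/

set_option autoImplicit false
set_option maxRecDepth 20000

namespace Cfsg.Agent.FischerTwins

open Cfsg Cfsg.Agent Cfsg.Agent.Fischer Subgroup Cfsg.Agent.RigidGraph.He
open Cfsg.Agent.FischerTwins.LocalCheck (allowed)
open Cfsg.Agent.FischerSolvable.Model (tv vec weight)
open Cfsg.Agent.Fischer.LocalSymThree (nb nb_symm)

variable {G : Type*} [Group G] {D : Set G}

/-- A vector is an isotropic multiple of a listed point. -/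
def isPoint (c : ℕ) : Bool :=
  Nat.beq c 0 || Nat.beq (weight 4 c % 2) 1 || (List.range 45).any fun i =>
    decide (∃ a : K4, a ≠ 0 ∧ ∀ l : Fin 4, vec 4 c l = a * vec 4 (LocalData.pts.getD i 0) l)

theorem points_cover : (List.range 256).all isPoint = true := by decide +kernel

theorem point_iso : ∀ i < 45, hermForm 4 K4 2 (point i) (point i) = 0 ∧ ∃ l, point i l ≠ 0 := by
  decide +kernel

theorem point_ne (i : ℕ) (hi : i < 45) : point i ≠ 0 := by
  obtain ⟨l, hl⟩ := (point_iso i hi).2
  exact fun e => hl (by rw [e]; rfl)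

theorem exists_point {v : Fin 4 → K4} (hv0 : v ≠ 0) (hv : hf 4 v v = 0) :
    ∃ i < 45, ∃ a : K4, a ≠ 0 ∧ v = a • point i := by
  obtain ⟨c, hc, rfl⟩ := FischerSolvable.exists_code 4 v
  have h := List.all_eq_true.1 points_cover c (List.mem_range.2 hc)
  simp only [isPoint, Bool.or_eq_true, Nat.beq_eq, List.any_eq_true, decide_eq_true_eq] at h
  rcases h with (h | h) | ⟨i, hi, a, ha, h⟩
  · subst h
    exact absurd (funext fun i => by simp [vec, K4.ofDigit]; rfl) hv0
  · exact absurd hv (FischerSolvable.weight_four c hc h)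
  · exact ⟨i, List.mem_range.1 hi, a, ha, funext h⟩

/-- A block is a line or a hyperbolic line. -/
noncomputable def blockOK : List ℕ → Bool
  | [i, j, l] =>
    decide (i < 45 ∧ j < 45 ∧ l < 45 ∧ hermForm 4 K4 2 (point i) (point j) ≠ 0 ∧
      ∃ a : K4, a ≠ 0 ∧ ∀ t : Fin 4, point l t = a * tv (point i) (point j) t)
  | [i, j, l, m, o] =>
    decide (∀ p ∈ [i, j, l, m, o], p < 45) &&
    decide (∀ p ∈ [i, j, l, m, o], ∀ q ∈ [i, j, l, m, o], hermForm 4 K4 2 (point p) (point q) = 0) &&
    decide (∀ u : Fin 4, ∀ t : Fin 4, (([i, j, l, m, o].map point).foldr tv (Pi.single u 1)) t =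
      (Pi.single u 1 : Fin 4 → K4) t) &&
    decide ([i, j, l, m, o].Pairwise fun p q => ∃ s ∈ List.range 45,
      hermForm 4 K4 2 (point p) (point s) = 0 ∧ hermForm 4 K4 2 (point q) (point s) ≠ 0)
  | _ => false

theorem blocks_ok : LocalData.cons.all blockOK = true := by decide +kernel

namespace Hyp

variable (hH : Hyp D) [Finite G] (h5 : ∀ p ∈ D, ∀ q ∈ nb D p, (Line D p q).ncard = 5)
include hH

/-- Two of a commuting pair and the conjugate. -/
theorem triple_count {d a b : G} (ha : a ∈ D) (hb : b ∈ D) (hab : ¬ Commute a b) :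
    (Commute d a → Commute d b → Commute d (a * b * a)) ∧
      (Commute d a → Commute d (a * b * a) → Commute d b) ∧
      (Commute d b → Commute d (a * b * a) → Commute d a) := by
  have hD := hH.tset
  have e1 : a * (a * b * a) * a = b := by
    rw [show a * (a * b * a) * a = (a * a) * b * (a * a) by simp only [mul_assoc], TSet.sq hD ha, one_mul,
      mul_one]
  have e2 : b * (a * b * a) * b = a := by
    rw [TSet.braid hD ha hb hab, show b * (b * a * b) * b = (b * b) * a * (b * b) by simp only [mul_assoc],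
      TSet.sq hD hb, one_mul, mul_one]
  exact ⟨fun h1 h2 => (h1.mul_right h2).mul_right h1, fun h1 h2 => e1 ▸ (h1.mul_right h2).mul_right h1,
    fun h1 h2 => e2 ▸ (h1.mul_right h2).mul_right h1⟩

include h5

theorem block_count {d : G} (hd : d ∈ D) (p : Fin 5 → G) (hp : ∀ i, p i ∈ D)
    (hc : ∀ i j, Commute (p i) (p j)) (hne : Function.Injective p)
    (hprod : p 0 * p 1 * (p 2 * p 3 * p 4) = 1) :
    (∀ i, Commute d (p i)) ∨ ∃! i, Commute d (p i) := by
  have hpq : p 1 ∈ nb D (p 0) := ⟨hp 1, fun e => absurd (hne e) (by decide), hc 0 1⟩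
  have hmem : ∀ i, p i ∈ Line D (p 0) (p 1) := by
    have key : ∀ x y z : Fin 5, x ≠ y → x ≠ z → y ≠ z →
        p 0 * p 1 * (p x * p y * p z) = 1 → p x ∈ Line D (p 0) (p 1) := fun x y z h1 h2 h3 h =>
      hH.five_line (hp 0) (hp 1) (hp x) (hp y) (hp z) (hc x y) (hc x z) (hc y z)
        ⟨fun e => h1 (hne e), fun e => h2 (hne e), fun e => h3 (hne e)⟩ h
    intro i
    fin_cases i
    · exact left_mem_line (hp 0)
    · exact right_mem_line (hp 1)
    · exact key 2 3 4 (by decide) (by decide) (by decide) hprod
    · exact key 3 2 4 (by decide) (by decide) (by decide) (by rwa [(hc 3 2).eq])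
    · refine key 4 2 3 (by decide) (by decide) (by decide) ?_
      rwa [mul_assoc (p 4), ((hc 4 2).mul_right (hc 4 3)).eq]
  have hall : Line D (p 0) (p 1) = Set.range p := by
    refine (Set.eq_of_subset_of_ncard_le (Set.range_subset_iff.2 hmem) ?_ (Set.toFinite _)).symm
    rw [h5 _ (hp 0) _ hpq, Set.ncard_range_of_injective hne, Nat.card_fin]
  obtain ⟨e, he, hde⟩ := hH.exists_foot (hp 0) hpq hd
  rw [hall] at he
  obtain ⟨i, rfl⟩ := he
  by_cases h : ∀ j, Commute d (p j) → j = i
  · exact Or.inr ⟨i, hde, h⟩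
  push Not at h
  obtain ⟨j, hdj, hji⟩ := h
  exact Or.inl fun l => hH.all_of_two (hp 0) hpq (hmem i) (hmem j) (fun e => hji (hne e)) hd hde hdj (hmem l)

/-- A member is given by a vector on a base. -/
theorem base_vec (B : Base D) {d : G} (hd : d ∈ D) :
    ∃ u : Fin 4 → K4, ∀ v, v ≠ 0 → hf 4 v v = 0 → (Commute d (B.T v) ↔ hf 4 v u = 0) := by
  classical
  set f : ℕ → Bool := fun i => decide (Commute d (B.T (point i))) with hfdef
  have hblock : ∀ c ∈ LocalData.cons, allowed c.length (c.countP f) = true := by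
    intro c hc
    have h := List.all_eq_true.1 blocks_ok c hc
    match c, h with
    | [i, j, l], h =>
      rw [blockOK, decide_eq_true_eq] at h
      obtain ⟨hi, hj, hl, hne, a, ha, hlv⟩ := h
      have hij : hf 4 (point j) (point j) = 0 := (point_iso j hj).1
      have hii : hf 4 (point i) (point i) = 0 := (point_iso i hi).1
      have hT : B.T (point l) = B.T (point i) * B.T (point j) * B.T (point i) := by
        rw [show point l = a • tv (point i) (point j) from funext hlv, B.scalar _ a ha (by
          rw [tv_iso hii]; exact hij), B.conj _ _ hii hij]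
      have hDi := B.mem _ (point_ne i hi) hii
      have hDj := B.mem _ (point_ne j hj) hij
      obtain ⟨t1, t2, t3⟩ := hH.triple_count (d := d) hDi hDj
        fun h => hne ((B.comm _ _ (point_ne i hi) (point_ne j hj) hii hij).1 h)
      rw [← hT] at t1 t2 t3
      by_cases e1 : Commute d (B.T (point i)) <;> by_cases e2 : Commute d (B.T (point j)) <;>
        by_cases e3 : Commute d (B.T (point l)) <;>
        simp_all [allowed, List.countP_cons, hfdef] <;> rfl
    | [i, j, l, m, o], h =>
      simp only [blockOK, Bool.and_eq_true, decide_eq_true_eq] at h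
      obtain ⟨⟨⟨hlt, horth⟩, hfix⟩, hsep⟩ := h
      set P : Fin 5 → ℕ := ![i, j, l, m, o] with hP
      have hPm : ∀ t, P t ∈ [i, j, l, m, o] := fun t => by fin_cases t <;> simp [hP]
      have hiso : ∀ t, hf 4 (point (P t)) (point (P t)) = 0 := fun t => (point_iso _ (hlt _ (hPm t))).1
      have hn0 : ∀ t, point (P t) ≠ 0 := fun t => point_ne _ (hlt _ (hPm t))
      have hinj : Function.Injective fun t => B.T (point (P t)) := by
        have hdiff : ∀ t t', t < t' → B.T (point (P t)) ≠ B.T (point (P t')) := by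
          intro t t' htt he
          have hof : [i, j, l, m, o] = List.ofFn P := by simp [hP]
          rw [hof, List.pairwise_ofFn] at hsep
          obtain ⟨s, hs, h1, h2⟩ := hsep htt
          have hs' := List.mem_range.1 hs
          have hsi : hf 4 (point s) (point s) = 0 := (point_iso s hs').1
          have := (B.comm _ _ (hn0 t) (point_ne s hs') (hiso t) hsi).2 h1
          rw [he] at this
          exact h2 ((B.comm _ _ (hn0 t') (point_ne s hs') (hiso t') hsi).1 this)
        intro t t' he
        rcases lt_trichotomy t t' with h | h | h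
        exacts [absurd he (hdiff t t' h), h, absurd he.symm (hdiff t' t h)]
      have hprod := B.prod ([i, j, l, m, o].map point) (fun v hv => by
        obtain ⟨q, hq, rfl⟩ := List.mem_map.1 hv
        exact (point_iso q (hlt q hq)).1) (fun u => funext (hfix u))
      have hres := hH.block_count h5 hd (fun t => B.T (point (P t)))
        (fun t => B.mem _ (hn0 t) (hiso t))
        (fun t t' => (B.comm _ _ (hn0 t) (hn0 t') (hiso t) (hiso t')).2 (horth _ (hPm t) _ (hPm t')))
        hinj (by simpa [hP, mul_assoc] using hprod)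
      rcases hres with hall | ⟨t, ht, huniq⟩
      · have e0 := hall 0; have e1 := hall 1; have e2 := hall 2; have e3 := hall 3; have e4 := hall 4
        simp only [hP, Matrix.cons_val_zero, Matrix.cons_val_one, Matrix.cons_val] at e0 e1 e2 e3 e4
        simp [allowed, List.countP_cons, hfdef, e0, e1, e2, e3, e4] <;> rfl
      · have hnot : ∀ t' : Fin 5, t' ≠ t → ¬ Commute d (B.T (point (P t'))) := fun t' hne h => hne (huniq t' h)
        have e0 := hnot 0; have e1 := hnot 1; have e2 := hnot 2; have e3 := hnot 3; have e4 := hnot 4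
        simp only [hP, Matrix.cons_val_zero, Matrix.cons_val_one, Matrix.cons_val] at e0 e1 e2 e3 e4
        fin_cases t <;>
          simp [hP] at ht e0 e1 e2 e3 e4 <;>
          simp [allowed, List.countP_cons, hfdef, ht, e0, e1, e2, e3, e4] <;> rfl
  obtain ⟨u, hu⟩ := local_vec hblock
  refine ⟨u, fun v hv0 hv => ?_⟩
  obtain ⟨i, hi, a, ha, rfl⟩ := exists_point hv0 hv
  rw [B.scalar _ a ha (point_iso i hi).1, hf_smul_left, mul_eq_zero, or_iff_right ha, ← hu i hi, hfdef,
    decide_eq_true_eq]

end Hyp

end Cfsg.Agent.FischerTwins
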