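import Cfsg.Agent.Lib.FischerTwins.Two
import Cfsg.Agent.Lib.FischerTwins.LocalBase

/-!
Frames: the weight-two points of a higher dimension among the members, and the vectors of all members.
-/

set_option autoImplicit false

namespace Cfsg.Agent.FischerTwins

open Cfsg Cfsg.Agent Cfsg.Agent.Fischer Subgroup Cfsg.Agent.RigidGraph.He
open Cfsg.Agent.FischerSolvable.Model (tv)
open Cfsg.Agent.Fischer.LocalSymThree (nb nb_symm)

variable {G : Type*} [Group G] {D : Set G}

/-- The vector of ones. -/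
def ones : Fin 4 → K4 := fun _ => 1

theorem ones_iso : hermForm 4 K4 2 ones ones = 0 := by decide +kernel

theorem ones_ne : ones ≠ 0 := fun h => one_ne_zero (congrFun h 0)

/-- The vector of ones on the first four coordinates. -/
def wvec {k : ℕ} (hk : 4 ≤ k) : Fin k → K4 := push (Fin.castLE hk) ones

theorem wvec_iso {k : ℕ} (hk : 4 ≤ k) : hf k (wvec hk) (wvec hk) = 0 := by
  rw [wvec, hf_push_push (Fin.castLE_injective hk)]
  exact ones_iso

/-- A frame of dimension `k`. -/
structure Frame (B : Base D) (k : ℕ) where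
  hk : 4 ≤ k
  M : (Fin k → K4) → G
  mem : ∀ v, Two v → M v ∈ D
  scalar : ∀ v, ∀ c : K4, Two v → c ≠ 0 → M (c • v) = M v
  comm : ∀ v w, Two v → Two w → (Commute (M v) (M w) ↔ hf k v w = 0)
  conj : ∀ v w, Two v → Two w → M (tv v w) = M v * M w * M v
  base : ∀ u, Two u → M (push (Fin.castLE hk) u) = B.T u
  wcomm : ∀ m, Two m → (Commute (B.T ones) (M m) ↔ hf k m (wvec hk) = 0)

/-- The frame of dimension four. -/
def Base.frame (B : Base D) : Frame B 4 where
  hk := le_rfl
  M := B.T
  mem v hv := B.mem v hv.ne_zero hv.iso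
  scalar v c hv hc := B.scalar v c hc hv.iso
  comm v w hv hw := B.comm v w hv.ne_zero hw.ne_zero hv.iso hw.iso
  conj v w hv hw := B.conj v w hv.iso hw.iso
  base u _ := by
    congr 1
    funext i
    exact push_apply (Fin.castLE_injective le_rfl) u i
  wcomm m hm := by
    have e : wvec (le_refl 4) = ones := funext fun i => push_apply (Fin.castLE_injective le_rfl) ones i
    rw [e, B.comm _ _ ones_ne hm.ne_zero ones_iso hm.iso, hf_zero_iff]

namespace Frame

variable {B : Base D} {k : ℕ} (F : Frame B k)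

theorem scalar' {v w : Fin k → K4} (hv : Two v) (h : Par v w) : F.M w = F.M v := by
  obtain ⟨c, hc, rfl⟩ := h
  exact F.scalar v c hv hc

variable (hH : Hyp D) [Finite G] (h5 : ∀ p ∈ D, ∀ q ∈ nb D p, (Line D p q).ncard = 5)
include hH h5

omit h5 in
theorem commute_conj {s d x : G} (hs : s ∈ D) : Commute (s * d * s) x ↔ Commute d (s * x * s) := by
  have hD := hH.tset
  rw [← commute_conj_iff s (s * d * s) x, TSet.inv hD hs,
    show s * (s * d * s) * s = (s * s) * d * (s * s) by simp only [mul_assoc], TSet.sq hD hs, one_mul,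
    mul_one]

omit h5 in
theorem conj_D {s d : G} (hs : s ∈ D) (hd : d ∈ D) : s * d * s ∈ D := by
  simpa [TSet.inv hH.tset hs] using hH.ctx.conj_mem s hd

omit h5 in
theorem vec_comp {i j : Fin k} (h : i ≠ j) {a b : Fin k} {x y : K4} :
    tv (m2 i j 1 1) (m2 a b x y) = m2 (Equiv.swap i j a) (Equiv.swap i j b) x y := by
  rw [tv_swap_coord h]
  have := m2_comp (Equiv.swap i j) a b x y
  rwa [Equiv.symm_swap] at this

theorem localOK_cast {d : G} (hd : d ∈ D) :
    ∃ u : Fin 4 → K4, ∀ i j, i ≠ j →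
      PairOK (fun m => Commute d (F.M m)) (Fin.castLE F.hk i) (Fin.castLE F.hk j) (u i) (u j) := by
  obtain ⟨u, hu⟩ := hH.base_vec h5 B hd
  refine ⟨u, fun i j hij a b ha hb => ?_⟩
  have h2 := two_m2 hij ha hb
  show Commute d (F.M _) ↔ _
  rw [← push_m2, F.base _ h2, hu _ h2.ne_zero h2.iso, hf_m2]

theorem localOK {d : G} (hd : d ∈ D) : LocalOK fun m => Commute d (F.M m) := by
  intro e he
  obtain ⟨σ, hσ⟩ : ∃ σ : Equiv.Perm (Fin k), ∀ i, σ (Fin.castLE F.hk i) = e i := by
    classical
    let f : {x // x ∈ Set.range (Fin.castLE F.hk)} ≃ {x // x ∈ Set.range e} :=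
      (Equiv.ofInjective _ (Fin.castLE_injective F.hk)).symm.trans (Equiv.ofInjective e he)
    refine ⟨f.extendSubtype, fun i => ?_⟩
    rw [Equiv.extendSubtype_apply_of_mem f _ ⟨i, rfl⟩]
    show ((Equiv.ofInjective e he) ((Equiv.ofInjective _ (Fin.castLE_injective F.hk)).symm
      ⟨Fin.castLE F.hk i, _⟩) : Fin k) = e i
    rw [Equiv.ofInjective_symm_apply (Fin.castLE_injective F.hk) i]
    rfl
  suffices key : ∀ d ∈ D, ∃ u : Fin 4 → K4, ∀ i j, i ≠ j →
      PairOK (fun m => Commute d (F.M m)) (σ (Fin.castLE F.hk i)) (σ (Fin.castLE F.hk j)) (u i) (u j) by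
    simpa only [hσ] using key d hd
  clear hσ hd d
  induction σ using Equiv.Perm.swap_induction_on with
  | one => intro d hd; exact F.localOK_cast hH h5 hd
  | swap_mul σ a b hab ih =>
    intro d hd
    have hs2 : Two (m2 a b (1 : K4) 1) := two_m2 hab one_ne_zero one_ne_zero
    have hsD := F.mem _ hs2
    obtain ⟨u, hu⟩ := ih _ (conj_D hH hsD hd)
    refine ⟨u, fun i j hij x y hx hy => ?_⟩
    have hne : σ (Fin.castLE F.hk i) ≠ σ (Fin.castLE F.hk j) := fun e =>
      hij (Fin.castLE_injective F.hk (σ.injective e))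
    rw [← hu i j hij x y hx hy]
    beta_reduce
    rw [commute_conj hH hsD,
      ← F.conj _ _ hs2 (two_m2 hne hx hy), vec_comp hH hab]
    rfl

open Classical in
/-- The vector of a member. -/
noncomputable def proj (d : G) : Fin k → K4 :=
  if h : ∃ v, Agree (fun m => Commute d (F.M m)) v then h.choose else 0

theorem proj_spec {d : G} (hd : d ∈ D) {m : Fin k → K4} (hm : Two m) :
    Commute d (F.M m) ↔ hf k m (F.proj d) = 0 := by
  have h := exists_agree F.hk (F.localOK hH h5 hd)
  rw [proj, dif_pos h]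
  exact h.choose_spec m hm

theorem proj_unique {d : G} (hd : d ∈ D) {v : Fin k → K4}
    (hv : ∀ m, Two m → (Commute d (F.M m) ↔ hf k m v = 0)) : Par v (F.proj d) :=
  agree_unique (le_trans (by norm_num) F.hk) (f := fun m => Commute d (F.M m)) hv
    fun m hm => F.proj_spec hH h5 hd hm

theorem proj_M {v : Fin k → K4} (hv : Two v) : Par v (F.proj (F.M v)) :=
  F.proj_unique hH h5 (F.mem v hv) fun m hm => by rw [F.comm v m hv hm, hf_zero_iff]

theorem proj_base {d : G} (hd : d ∈ D) {u : Fin 4 → K4} (hu0 : u ≠ 0) (hu : hf 4 u u = 0) :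
    Commute d (B.T u) ↔ hf k (push (Fin.castLE F.hk) u) (F.proj d) = 0 := by
  obtain ⟨v, hv⟩ := hH.base_vec h5 B hd
  have h : Par v (fun i => F.proj d (Fin.castLE F.hk i)) :=
    agree_unique (by norm_num) (f := fun m => Commute d (B.T m)) (fun m hm => hv m hm.ne_zero hm.iso)
      fun m hm => by
        show Commute d (B.T m) ↔ _
        rw [← F.base m hm, F.proj_spec hH h5 hd (two_push (Fin.castLE_injective F.hk) hm), hf_push]
  rw [hv u hu0 hu, hf_push, h.hf_right]

theorem proj_W {d : G} (hd : d ∈ D) : Commute d (B.T ones) ↔ hf k (wvec F.hk) (F.proj d) = 0 :=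
  F.proj_base hH h5 hd ones_ne ones_iso

theorem proj_conj_M {d : G} (hd : d ∈ D) {v : Fin k → K4} (hv : Two v) :
    Par (tv v (F.proj d)) (F.proj (F.M v * d * F.M v)) := by
  have hs := F.mem v hv
  refine F.proj_unique hH h5 (conj_D hH hs hd) fun m hm => ?_
  rw [commute_conj hH hs, ← F.conj v m hv hm, F.proj_spec hH h5 hd (two_tv hv hm), hf_tv_left hv.iso]

theorem proj_conj_W {d : G} (hd : d ∈ D) :
    Par (tv (wvec F.hk) (F.proj d)) (F.proj (B.T ones * d * B.T ones)) := by
  have hs : B.T ones ∈ D := B.mem _ ones_ne ones_iso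
  refine F.proj_unique hH h5 (conj_D hH hs hd) fun m hm => ?_
  have hMm := F.mem m hm
  rw [commute_conj hH hs, ← hf_tv_left (wvec_iso F.hk)]
  by_cases h : hf k m (wvec F.hk) = 0
  · have hc := (F.wcomm m hm).2 h
    rw [show B.T ones * F.M m * B.T ones = F.M m by
      rw [hc.eq, mul_assoc, TSet.sq hH.tset hs, mul_one], tv_fix h, F.proj_spec hH h5 hd hm]
  · have hc : ¬ Commute (B.T ones) (F.M m) := fun hc => h ((F.wcomm m hm).1 hc)
    have hne : hf k (wvec F.hk) m ≠ 0 := fun e => h ((hf_zero_iff _ _).1 e)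
    rw [TSet.braid hH.tset hs hMm hc, ← commute_conj hH hMm, F.proj_W hH h5 (conj_D hH hMm hd),
      (F.proj_conj_M hH h5 hd hm).hf_right, ← hf_tv_left hm.iso, ← tv_swap hne, hf_smul_left, mul_eq_zero,
      or_iff_right hne]

end Frame

end Cfsg.Agent.FischerTwins
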