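import Cfsg.Agent.Lib.FischerTwins.Vec

/-!
A predicate on vectors of weight two given by a vector on every four coordinates is given by a vector,
unique up to a scalar.
-/

set_option autoImplicit false
set_option maxRecDepth 20000

namespace Cfsg.Agent.FischerTwins

open Cfsg Cfsg.Agent.RigidGraph.He

variable {k : ℕ}

/-- The values `x`, `y` at the coordinates `i`, `j` explain `f` there. -/
def PairOK (f : (Fin k → K4) → Prop) (i j : Fin k) (x y : K4) : Prop :=
  ∀ a b : K4, a ≠ 0 → b ≠ 0 → (f (m2 i j a b) ↔ a * x ^ 2 + b * y ^ 2 = 0)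

/-- The vector explains `f` on all vectors of weight two. -/
def Agree (f : (Fin k → K4) → Prop) (v : Fin k → K4) : Prop := ∀ m, Two m → (f m ↔ hf k m v = 0)

theorem agree_iff {f : (Fin k → K4) → Prop} {v : Fin k → K4} :
    Agree f v ↔ ∀ i j, i ≠ j → PairOK f i j (v i) (v j) := by
  constructor
  · intro h i j hij a b ha hb
    rw [h _ (two_m2 hij ha hb), hf_m2]
  · rintro h _ ⟨i, j, a, b, hij, ha, hb, rfl⟩
    rw [h i j hij a b ha hb, hf_m2]

theorem PairOK.symm {f : (Fin k → K4) → Prop} {i j : Fin k} {x y : K4} (h : PairOK f i j x y) :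
    PairOK f j i y x := fun a b ha hb => by rw [m2_comm, h b a hb ha, add_comm]

theorem PairOK.scale {f : (Fin k → K4) → Prop} {i j : Fin k} {x y : K4} (h : PairOK f i j x y) {c : K4}
    (hc : c ≠ 0) : PairOK f i j (c * x) (c * y) := fun a b ha hb => by
  rw [h a b ha hb, mul_pow, mul_pow, mul_left_comm a, mul_left_comm b, ← mul_add, mul_eq_zero,
    sq_eq_zero_iff, or_iff_right hc]

/-- The six numbers have equal patterns only if proportional, as a computation. -/
def threeOK (x y z x' y' z' : K4) : Bool :=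
  !decide (∀ a b : K4, a ≠ 0 → b ≠ 0 → ((a * x ^ 2 + b * y ^ 2 = 0 ↔ a * x' ^ 2 + b * y' ^ 2 = 0) ∧
      (a * x ^ 2 + b * z ^ 2 = 0 ↔ a * x' ^ 2 + b * z' ^ 2 = 0) ∧
      (a * y ^ 2 + b * z ^ 2 = 0 ↔ a * y' ^ 2 + b * z' ^ 2 = 0))) ||
    decide (∃ c : K4, c ≠ 0 ∧ x' = c * x ∧ y' = c * y ∧ z' = c * z)

theorem threeOK_all : ∀ x y z x' y' z' : K4, threeOK x y z x' y' z' = true := by decide +kernel

theorem three_pattern (x y z x' y' z' : K4)
    (h : ∀ a b : K4, a ≠ 0 → b ≠ 0 → ((a * x ^ 2 + b * y ^ 2 = 0 ↔ a * x' ^ 2 + b * y' ^ 2 = 0) ∧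
      (a * x ^ 2 + b * z ^ 2 = 0 ↔ a * x' ^ 2 + b * z' ^ 2 = 0) ∧
      (a * y ^ 2 + b * z ^ 2 = 0 ↔ a * y' ^ 2 + b * z' ^ 2 = 0))) :
    ∃ c : K4, c ≠ 0 ∧ x' = c * x ∧ y' = c * y ∧ z' = c * z := by
  have e := threeOK_all x y z x' y' z'
  rw [threeOK, decide_eq_true h, Bool.not_true, Bool.false_or] at e
  exact of_decide_eq_true e

/-- Two explanations on three coordinates are proportional. -/
theorem three_eq {f : (Fin k → K4) → Prop} {i j l : Fin k} {x y z x' y' z' : K4} (h1 : PairOK f i j x y)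
    (h2 : PairOK f i l x z) (h3 : PairOK f j l y z) (h1' : PairOK f i j x' y')
    (h2' : PairOK f i l x' z') (h3' : PairOK f j l y' z') :
    ∃ c : K4, c ≠ 0 ∧ x' = c * x ∧ y' = c * y ∧ z' = c * z :=
  three_pattern x y z x' y' z' fun a b ha hb => ⟨(h1 a b ha hb).symm.trans (h1' a b ha hb),
    (h2 a b ha hb).symm.trans (h2' a b ha hb), (h3 a b ha hb).symm.trans (h3' a b ha hb)⟩

theorem exists_two_others (hk : 3 ≤ k) (a : Fin k) : ∃ b e : Fin k, b ≠ a ∧ e ≠ a ∧ e ≠ b := by
  have h : 1 < (Finset.univ.erase a).card := by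
    rw [Finset.card_erase_of_mem (Finset.mem_univ a), Finset.card_univ, Fintype.card_fin]; omega
  obtain ⟨b, e, hb, he, hbe⟩ := Finset.one_lt_card_iff.1 h
  exact ⟨b, e, Finset.ne_of_mem_erase hb, Finset.ne_of_mem_erase he, hbe.symm⟩

theorem agree_unique (hk : 3 ≤ k) {f : (Fin k → K4) → Prop} {v v' : Fin k → K4} (hv : Agree f v)
    (hv' : Agree f v') : ∃ c : K4, c ≠ 0 ∧ v' = c • v := by
  rw [agree_iff] at hv hv'
  have tri : ∀ i j l, i ≠ j → i ≠ l → j ≠ l →
      ∃ c : K4, c ≠ 0 ∧ v' i = c * v i ∧ v' j = c * v j ∧ v' l = c * v l := fun i j l hij hil hjl =>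
    three_eq (hv i j hij) (hv i l hil) (hv j l hjl) (hv' i j hij) (hv' i l hil) (hv' j l hjl)
  by_cases h0 : ∀ i, v i = 0
  · refine ⟨1, one_ne_zero, funext fun i => ?_⟩
    obtain ⟨b, e, hb, he, hbe⟩ := exists_two_others hk i
    obtain ⟨c, -, hc, -, -⟩ := tri i b e hb.symm he.symm hbe.symm
    rw [hc, one_smul, h0, mul_zero]
  push Not at h0
  obtain ⟨a, ha⟩ := h0
  obtain ⟨b, e, hb, he, hbe⟩ := exists_two_others hk a
  obtain ⟨c, hc0, hca, hcb, hce⟩ := tri a b e hb.symm he.symm hbe.symm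
  refine ⟨c, hc0, funext fun x => ?_⟩
  rw [Pi.smul_apply, smul_eq_mul]
  by_cases hxa : x = a
  · rw [hxa, hca]
  by_cases hxb : x = b
  · rw [hxb, hcb]
  obtain ⟨c', -, h1, -, h3⟩ := tri a b x hb.symm (Ne.symm hxa) (Ne.symm hxb)
  rw [h3, mul_right_cancel₀ ha (h1.symm.trans hca)]

theorem inj_four {a b c d : Fin k} (h1 : a ≠ b) (h2 : a ≠ c) (h3 : a ≠ d) (h4 : b ≠ c) (h5 : b ≠ d)
    (h6 : c ≠ d) : Function.Injective ![a, b, c, d] := by
  intro i j h
  fin_cases i <;> fin_cases j <;> first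
    | rfl
    | exact absurd h (by simp [h1, h2, h3, h4, h5, h6, h1.symm, h2.symm, h3.symm, h4.symm, h5.symm, h6.symm])

/-- `f` is explained on every four coordinates. -/
def LocalOK (f : (Fin k → K4) → Prop) : Prop :=
  ∀ e : Fin 4 → Fin k, Function.Injective e →
    ∃ u : Fin 4 → K4, ∀ i j, i ≠ j → PairOK f (e i) (e j) (u i) (u j)

theorem LocalOK.four {f : (Fin k → K4) → Prop} (hL : LocalOK f) {a b c d : Fin k} (h1 : a ≠ b)
    (h2 : a ≠ c) (h3 : a ≠ d) (h4 : b ≠ c) (h5 : b ≠ d) (h6 : c ≠ d) :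
    ∃ p q r s : K4, PairOK f a b p q ∧ PairOK f a c p r ∧ PairOK f a d p s ∧ PairOK f b c q r ∧
      PairOK f b d q s ∧ PairOK f c d r s := by
  obtain ⟨u, hu⟩ := hL _ (inj_four h1 h2 h3 h4 h5 h6)
  exact ⟨u 0, u 1, u 2, u 3, hu 0 1 (by decide), hu 0 2 (by decide), hu 0 3 (by decide), hu 1 2 (by decide),
    hu 1 3 (by decide), hu 2 3 (by decide)⟩

theorem exists_agree_on {f : (Fin k → K4) → Prop} (hL : LocalOK f) {e : Fin 4 → Fin k}
    (he : Function.Injective e) (B : Finset (Fin k)) :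
    ∃ v : Fin k → K4, ∀ i ∈ Finset.univ.image e ∪ B, ∀ j ∈ Finset.univ.image e ∪ B, i ≠ j →
      PairOK f i j (v i) (v j) := by
  classical
  induction B using Finset.induction_on with
  | empty =>
    obtain ⟨u, hu⟩ := hL e he
    refine ⟨push e u, ?_⟩
    simp only [Finset.union_empty, Finset.mem_image, Finset.mem_univ, true_and]
    rintro _ ⟨i, rfl⟩ _ ⟨j, rfl⟩ hij
    rw [push_apply he, push_apply he]
    exact hu i j fun h => hij (h ▸ rfl)
  | insert c B _ ih =>
    obtain ⟨v, hv⟩ := ih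
    set A := Finset.univ.image e ∪ B with hA
    rw [Finset.union_insert, ← hA]
    by_cases hcA : c ∈ A
    · exact ⟨v, by rwa [Finset.insert_eq_of_mem hcA]⟩
    have hcard : 4 ≤ A.card := by
      refine le_trans (le_of_eq ?_) (Finset.card_le_card Finset.subset_union_left)
      rw [Finset.card_image_of_injective _ he, Finset.card_univ, Fintype.card_fin]
    obtain ⟨a, haA, hva⟩ : ∃ a ∈ A, v a = 0 → ∀ i ∈ A, v i = 0 := by
      by_cases h : ∃ a ∈ A, v a ≠ 0
      · obtain ⟨a, ha, h'⟩ := h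
        exact ⟨a, ha, fun e => absurd e h'⟩
      · obtain ⟨a, ha⟩ := Finset.card_pos.1 (show 0 < A.card by omega)
        exact ⟨a, ha, fun _ i hi => not_not.1 fun e => h ⟨i, hi, e⟩⟩
    obtain ⟨b, d, hb, hd, hbd⟩ := Finset.one_lt_card_iff.1
      (show 1 < (A.erase a).card by rw [Finset.card_erase_of_mem haA]; omega)
    have hba := Finset.ne_of_mem_erase hb
    have hda := Finset.ne_of_mem_erase hd
    have hbA := Finset.mem_of_mem_erase hb
    have hdA := Finset.mem_of_mem_erase hd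
    have ne_c : ∀ {i : Fin k}, i ∈ A → i ≠ c := fun hi e => hcA (e ▸ hi)
    obtain ⟨p, q, r, s, hpq, hpr, hps, hqr, hqs, hrs⟩ :=
      hL.four hba.symm hda.symm (ne_c haA) hbd (ne_c hbA) (ne_c hdA)
    obtain ⟨t, ht, hta, htb, htd⟩ := three_eq hpq hpr hqr (hv a haA b hbA hba.symm)
      (hv a haA d hdA hda.symm) (hv b hbA d hdA hbd)
    refine ⟨Function.update v c (t * s), ?_⟩
    have new : ∀ x ∈ A, PairOK f x c (v x) (t * s) := by
      intro x hx
      by_cases hxa : x = a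
      · rw [hxa, hta]; exact hps.scale ht
      by_cases hxb : x = b
      · rw [hxb, htb]; exact hqs.scale ht
      obtain ⟨p', q', r', s', h1, h2, h3, h4, h5, h6⟩ :=
        hL.four hba.symm (Ne.symm hxa) (ne_c haA) (Ne.symm hxb) (ne_c hbA) (ne_c hx)
      obtain ⟨τ, hτ, hτa, hτb, hτx⟩ := three_eq h1 h2 h4 (hv a haA b hbA hba.symm)
        (hv a haA x hx (Ne.symm hxa)) (hv b hbA x hx (Ne.symm hxb))
      have e1 : PairOK f a c (v a) (t * s) := hta ▸ hps.scale ht
      have e2 : PairOK f b c (v b) (t * s) := htb ▸ hqs.scale ht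
      obtain ⟨σ, hσ, hσa, -, hσc⟩ := three_eq h1 h3 h5 (hv a haA b hbA hba.symm) e1 e2
      by_cases h0 : v a = 0
      · have hr' : r' = 0 := by
          have := hva h0 x hx
          rw [hτx] at this
          exact (mul_eq_zero.1 this).resolve_left hτ
        have hs' := h6.scale hσ
        rwa [hr', mul_zero, ← hσc, ← hva h0 x hx] at hs'
      · have hp' : p' ≠ 0 := fun e => h0 (by rw [hτa, e, mul_zero])
        have : τ = σ := mul_right_cancel₀ hp' (hτa.symm.trans hσa)
        subst this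
        have hs' := h6.scale hτ
        rwa [← hτx, ← hσc] at hs'
    intro i hi j hj hij
    rw [Finset.mem_insert] at hi hj
    rcases hi with rfl | hi <;> rcases hj with rfl | hj
    · exact absurd rfl hij
    · rw [Function.update_self, Function.update_of_ne hij.symm]
      exact (new j hj).symm
    · rw [Function.update_self, Function.update_of_ne hij]
      exact new i hi
    · rw [Function.update_of_ne (ne_c hi), Function.update_of_ne (ne_c hj)]
      exact hv i hi j hj hij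

theorem exists_agree (hk : 4 ≤ k) {f : (Fin k → K4) → Prop} (hL : LocalOK f) :
    ∃ v : Fin k → K4, Agree f v := by
  classical
  obtain ⟨v, hv⟩ := exists_agree_on hL (Fin.castLE_injective hk) Finset.univ
  exact ⟨v, agree_iff.2 fun i j hij => hv i (Finset.mem_union_right _ (Finset.mem_univ i)) j
    (Finset.mem_union_right _ (Finset.mem_univ j)) hij⟩

end Cfsg.Agent.FischerTwins
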