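import Cfsg.Agent.Lib.FischerTwins.Twins

/-!
Lines: any member commuting with two points of a line commutes with all of them.
-/

set_option autoImplicit false

namespace Cfsg.Agent.FischerTwins

open Cfsg.Agent Cfsg.Agent.Fischer Subgroup
open Cfsg.Agent.Fischer.OddCoreLocal (Ctx X)
open Cfsg.Agent.Fischer.LocalSymThree (nb nb_symm)

variable {G : Type*} [Group G] {D : Set G}

/-- The members commuting with both. -/
def perp2 (D : Set G) (p q : G) : Set G := {u | u ∈ D ∧ Commute u p ∧ Commute u q}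

/-- The line through two commuting members. -/
def Line (D : Set G) (p q : G) : Set G := {v | v ∈ D ∧ ∀ u ∈ perp2 D p q, Commute u v}

theorem left_mem_line {p q : G} (hp : p ∈ D) : p ∈ Line D p q := ⟨hp, fun _ h => h.2.1⟩

theorem right_mem_line {p q : G} (hq : q ∈ D) : q ∈ Line D p q := ⟨hq, fun _ h => h.2.2⟩

theorem perp2_eq {p q : G} (hp : p ∈ D) (hq : q ∈ nb D p) :
    perp2 D p q = insert p (insert q (X D p q)) := by
  ext u
  constructor
  · rintro ⟨hu, h1, h2⟩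
    by_cases e1 : u = p
    · exact Or.inl e1
    by_cases e2 : u = q
    · exact Or.inr (Or.inl e2)
    exact Or.inr (Or.inr ⟨⟨hu, e1, h1.symm⟩, hu, e2, h2.symm⟩)
  · rintro (rfl | rfl | h)
    · exact ⟨hp, Commute.refl _, hq.2.2⟩
    · exact ⟨hq.1, hq.2.2.symm, Commute.refl _⟩
    · exact ⟨h.1.1, h.1.2.2.symm, h.2.2.2.symm⟩

theorem line_clique {p q u v : G} (hp : p ∈ D) (hq : q ∈ nb D p) (hu : u ∈ Line D p q)
    (hv : v ∈ Line D p q) : Commute u v :=
  hv.2 u ⟨hu.1, (hu.2 p ⟨hp, Commute.refl _, hq.2.2⟩).symm,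
    (hu.2 q ⟨hq.1, hq.2.2.symm, Commute.refl _⟩).symm⟩

theorem perp2_conj (hC : Ctx D) (g : G) {p q u : G} (h : u ∈ perp2 D p q) :
    g * u * g⁻¹ ∈ perp2 D (g * p * g⁻¹) (g * q * g⁻¹) :=
  ⟨hC.conj_mem g h.1, (commute_conj_iff g u p).2 h.2.1, (commute_conj_iff g u q).2 h.2.2⟩

theorem line_conj (hC : Ctx D) (g : G) {p q v : G} (h : v ∈ Line D p q) :
    g * v * g⁻¹ ∈ Line D (g * p * g⁻¹) (g * q * g⁻¹) := by
  refine ⟨hC.conj_mem g h.1, fun u hu => ?_⟩
  have := perp2_conj hC g⁻¹ hu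
  rw [inv_inv, show g⁻¹ * (g * p * g⁻¹) * g = p by group,
    show g⁻¹ * (g * q * g⁻¹) * g = q by group] at this
  rw [← commute_conj_iff g⁻¹, inv_inv, show g⁻¹ * (g * v * g⁻¹) * g = v by group]
  exact h.2 _ this

theorem line_comm (p q : G) : Line D p q = Line D q p := by
  ext v
  simp only [Line, perp2, Set.mem_ofPred_eq]
  exact and_congr_right fun _ =>
    ⟨fun h u hu => h u ⟨hu.1, hu.2.2, hu.2.1⟩, fun h u hu => h u ⟨hu.1, hu.2.2, hu.2.1⟩⟩

namespace Hyp

variable (hH : Hyp D) [Finite G]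
include hH

theorem perp2_card {p q p' q' : G} (hp : p ∈ D) (hq : q ∈ nb D p) (hp' : p' ∈ D) (hq' : q' ∈ nb D p') :
    (perp2 D p q).ncard = (perp2 D p' q').ncard := by
  have key : ∀ {p q : G}, p ∈ D → q ∈ nb D p →
      (perp2 D p q).ncard = (X D p q).ncard + 2 := by
    intro p q hp hq
    rw [perp2_eq hp hq, Set.ncard_insert_of_notMem ?_ (Set.toFinite _),
      Set.ncard_insert_of_notMem (fun h => h.2.2.1 rfl) (Set.toFinite _)]
    rintro (h | h)
    · exact hq.2.1 h.symm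
    · exact h.1.2.1 rfl
  rw [key hp hq, key hp' hq', hH.ctx.card_X hp hq hp' hq']

theorem perp2_of_line {p q r t : G} (hp : p ∈ D) (hq : q ∈ nb D p) (hr : r ∈ Line D p q)
    (ht : t ∈ Line D p q) (hrt : t ≠ r) : t ∈ nb D r ∧ perp2 D r t = perp2 D p q := by
  have htn : t ∈ nb D r := ⟨ht.1, hrt, line_clique hp hq hr ht⟩
  refine ⟨htn, (Set.eq_of_subset_of_ncard_le (show perp2 D p q ⊆ perp2 D r t from fun u hu => ⟨hu.1, hr.2 u hu, ht.2 u hu⟩) ?_
    (Set.toFinite _)).symm⟩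
  exact (hH.perp2_card hr.1 htn hp hq).le

theorem line_eq {p q r t : G} (hp : p ∈ D) (hq : q ∈ nb D p) (hr : r ∈ Line D p q)
    (ht : t ∈ Line D p q) (hrt : t ≠ r) : t ∈ nb D r ∧ Line D r t = Line D p q := by
  obtain ⟨htn, he⟩ := hH.perp2_of_line hp hq hr ht hrt
  exact ⟨htn, by ext v; simp only [Line, Set.mem_ofPred_eq, he]⟩

/-- A member commuting with two points of a line commutes with all of them. -/
theorem all_of_two {p q r t u v : G} (hp : p ∈ D) (hq : q ∈ nb D p) (hr : r ∈ Line D p q)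
    (ht : t ∈ Line D p q) (hrt : t ≠ r) (hu : u ∈ D) (h1 : Commute u r) (h2 : Commute u t)
    (hv : v ∈ Line D p q) : Commute u v := by
  refine hv.2 u ?_
  rw [← (hH.perp2_of_line hp hq hr ht hrt).2]
  exact ⟨hu, h1, h2⟩

theorem twin_iff_line {x a v : G} (hx : x ∈ D) (ha : a ∈ nb D x) :
    Twin D x a v ↔ v ∈ Line D x a ∧ v ≠ x := by
  constructor
  · intro h
    refine ⟨⟨h.1.1, fun u ⟨hu, h1, h2⟩ => ?_⟩, h.1.2.1⟩
    by_cases e : u = x
    · exact e ▸ h.1.2.2
    exact ((h.2 u ⟨hu, e, h1.symm⟩).1 h2.symm).symm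
  · rintro ⟨hv, hvx⟩
    obtain ⟨hvn, he⟩ := hH.perp2_of_line hx ha (left_mem_line hx) hv hvx
    refine ⟨hvn, fun e hen => ⟨fun h => ?_, fun h => ?_⟩⟩
    · exact (hv.2 e ⟨hen.1, hen.2.2.symm, h.symm⟩).symm
    · have : e ∈ perp2 D x v := ⟨hen.1, hen.2.2.symm, h.symm⟩
      rw [he] at this
      exact this.2.2.symm

theorem line_ncard {x a : G} (hx : x ∈ D) (ha : a ∈ nb D x) :
    (Line D x a).ncard = {v | Twin D x a v}.ncard + 1 := by
  have e : Line D x a = insert x {v | Twin D x a v} := by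
    ext v
    constructor
    · intro h
      by_cases e : v = x
      exacts [Or.inl e, Or.inr ((hH.twin_iff_line hx ha).2 ⟨h, e⟩)]
    · rintro (rfl | h)
      exacts [left_mem_line hx, ((hH.twin_iff_line hx ha).1 h).1]
  rw [e, Set.ncard_insert_of_notMem (fun h => h.1.2.1 rfl) (Set.toFinite _)]

theorem line_odd {x a : G} (hx : x ∈ D) (ha : a ∈ nb D x) : Odd (Line D x a).ncard := by
  rw [hH.line_ncard hx ha]
  exact (hH.even x hx a ha).add_one

omit [Finite G] in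
theorem ncard_line_eq {p q p' q' : G} (hp : p ∈ D) (hq : q ∈ nb D p) (hp' : p' ∈ D)
    (hq' : q' ∈ nb D p') : (Line D p q).ncard = (Line D p' q').ncard := by
  obtain ⟨g, rfl, rfl⟩ := hH.ctx.pair_move hp hq hp' hq'
  rw [← Set.ncard_image_of_injective (Line D p q)
    (f := fun z => g * z * g⁻¹) (fun y z h => mul_left_cancel (mul_right_cancel h))]
  congr 1
  ext v
  constructor
  · rintro ⟨w, hw, rfl⟩
    exact line_conj hH.ctx g hw
  · intro hv
    refine ⟨g⁻¹ * v * g, ?_, by group⟩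
    have := line_conj hH.ctx g⁻¹ hv
    rwa [inv_inv, show g⁻¹ * (g * p * g⁻¹) * g = p by group,
      show g⁻¹ * (g * q * g⁻¹) * g = q by group] at this

theorem three_le_line {x a : G} (hx : x ∈ D) (ha : a ∈ nb D x) : 3 ≤ (Line D x a).ncard := by
  obtain ⟨v, hv, ht⟩ := hH.twin x hx a ha
  have h2 : 1 < {v | Twin D x a v}.ncard :=
    (Set.one_lt_ncard_iff (Set.toFinite _)).2 ⟨v, a, ht, Twin.refl ha, hv⟩
  rw [hH.line_ncard hx ha]
  omega

end Hyp

end Cfsg.Agent.FischerTwins
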