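import Cfsg.Agent.Lib.Compute.CosetCert

/-!
Checkable case trees for functions on a small set of points with prescribed counts on given blocks:
one or five on a block of five, not two on a block of three.
-/

set_option autoImplicit false

namespace Cfsg.Agent.FischerTwins.LocalCheck

open Cfsg.Agent.CosetCert (bit insBit)

/-- A case tree. -/
inductive Cert where
  | done (v : ℕ)
  | fail (k : ℕ)
  | force (k i : ℕ) (b : Bool) (rest : Cert)
  | split (i : ℕ) (yes no : Cert)

/-- Allowed counts. -/
def allowed (len n : ℕ) : Bool :=
  if Nat.beq len 5 then Nat.beq n 1 || Nat.beq n 5 else !Nat.beq n 2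

/-- Some allowed count is compatible with what is known. -/
def consistent (c : List ℕ) (T F : ℕ) : Bool :=
  let s := c.countP fun i => bit T i
  let r := c.countP fun i => !bit T i && !bit F i
  (List.range (r + 1)).any fun n => allowed c.length (s + n)

/-- The tree is sound. -/
def check (cons : List (List ℕ)) (isSig : ℕ → ℕ → ℕ → Bool) : Cert → ℕ → ℕ → Bool
  | .done v, T, F => isSig v T F
  | .fail k, T, F => Nat.blt k cons.length && !consistent (cons.getD k []) T F
  | .force k i b rest, T, F =>
    Nat.blt k cons.length && !bit T i && !bit F i &&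
      (if b then !consistent (cons.getD k []) T (insBit F i) && check cons isSig rest (insBit T i) F
        else !consistent (cons.getD k []) (insBit T i) F && check cons isSig rest T (insBit F i))
  | .split i y n, T, F => check cons isSig y (insBit T i) F && check cons isSig n T (insBit F i)

/-- The masks hold of `f`. -/
def Sound (f : ℕ → Bool) (T F : ℕ) : Prop :=
  (∀ i, bit T i = true → f i = true) ∧ (∀ i, bit F i = true → f i = false)

theorem Sound.insT {f : ℕ → Bool} {T F i : ℕ} (h : Sound f T F) (hi : f i = true) :
    Sound f (insBit T i) F :=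
  ⟨fun j hj => (CosetCert.bit_insBit hj).elim (fun e => e ▸ hi) (h.1 j), h.2⟩

theorem Sound.insF {f : ℕ → Bool} {T F i : ℕ} (h : Sound f T F) (hi : f i = false) :
    Sound f T (insBit F i) :=
  ⟨h.1, fun j hj => (CosetCert.bit_insBit hj).elim (fun e => e ▸ hi) (h.2 j)⟩

theorem count_split {f : ℕ → Bool} {T F : ℕ} (h : Sound f T F) : ∀ c : List ℕ,
    c.countP f = c.countP (fun i => bit T i) + c.countP (fun i => f i && (!bit T i && !bit F i))
  | [] => rfl
  | a :: c => by
    rw [List.countP_cons, List.countP_cons, List.countP_cons, count_split h c]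
    have h1 := h.1 a
    have h2 := h.2 a
    cases e : f a <;> cases e1 : bit T a <;> cases e2 : bit F a <;> simp_all <;> omega

theorem consistent_of_sound {f : ℕ → Bool} {T F : ℕ} (h : Sound f T F) (c : List ℕ)
    (hc : allowed c.length (c.countP f) = true) : consistent c T F = true := by
  rw [consistent, List.any_eq_true]
  refine ⟨c.countP (fun i => f i && (!bit T i && !bit F i)), List.mem_range.2 (Nat.lt_succ_of_le ?_), ?_⟩
  · refine List.countP_mono_left fun i _ hi => ?_
    rw [Bool.and_eq_true] at hi
    exact hi.2
  · rw [← count_split h]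
    exact hc

theorem check_spec {cons : List (List ℕ)} {isSig : ℕ → ℕ → ℕ → Bool} {f : ℕ → Bool}
    (hf : ∀ c ∈ cons, allowed c.length (c.countP f) = true) :
    ∀ (t : Cert) (T F : ℕ), check cons isSig t T F = true → Sound f T F →
      ∃ v T' F', isSig v T' F' = true ∧ Sound f T' F'
  | .done v, T, F, h, hs => ⟨v, T, F, h, hs⟩
  | .fail k, T, F, h, hs => by
    rw [check, Bool.and_eq_true, Nat.blt_eq, Bool.not_eq_true'] at h
    obtain ⟨hk, h⟩ := h
    rw [List.getD_eq_getElem _ _ hk, consistent_of_sound hs _ (hf _ (List.getElem_mem hk))] at h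
    exact Bool.noConfusion h
  | .force k i b rest, T, F, h, hs => by
    rw [check, Bool.and_eq_true, Bool.and_eq_true, Bool.and_eq_true, Nat.blt_eq] at h
    obtain ⟨⟨⟨hk, -⟩, -⟩, h⟩ := h
    rw [List.getD_eq_getElem _ _ hk] at h
    have hc := hf _ (List.getElem_mem hk)
    cases b
    · rw [if_neg Bool.false_ne_true, Bool.and_eq_true, Bool.not_eq_true'] at h
      cases e : f i
      · exact check_spec hf rest _ _ h.2 (hs.insF e)
      · rw [consistent_of_sound (hs.insT e) _ hc] at h
        exact Bool.noConfusion h.1
    · rw [if_pos rfl, Bool.and_eq_true, Bool.not_eq_true'] at h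
      cases e : f i
      · rw [consistent_of_sound (hs.insF e) _ hc] at h
        exact Bool.noConfusion h.1
      · exact check_spec hf rest _ _ h.2 (hs.insT e)
  | .split i y n, T, F, h, hs => by
    rw [check, Bool.and_eq_true] at h
    cases e : f i
    · exact check_spec hf n _ _ h.2 (hs.insF e)
    · exact check_spec hf y _ _ h.1 (hs.insT e)

end Cfsg.Agent.FischerTwins.LocalCheck
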