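import Cfsg.Agent.Lib.FischerTwins.LocalCheck

/-!
The case tree for the 45 isotropic points of the unitary geometry of dimension four.
-/

set_option autoImplicit false
set_option maxRecDepth 20000

namespace Cfsg.Agent.FischerTwins.LocalData

noncomputable section

open LocalCheck

/-- the points -/
def pts : List ℕ := [
  80, 144, 208, 68, 132, 196, 20, 36, 52, 65, 129, 193, 17, 33, 49, 5, 85, 149, 213, 101, 165, 229,
  117, 181, 245, 9, 89, 153, 217, 105, 169, 233, 121, 185, 249, 13, 93, 157, 221, 109, 173, 237,
  125, 189, 253]

/-- lines and hyperbolic lines -/
def cons : List (List ℕ) := [
  [0, 15, 16, 20, 24], [0, 25, 26, 30, 34], [0, 35, 36, 40, 44], [1, 15, 17, 21, 22],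
  [1, 25, 27, 31, 32], [1, 35, 37, 41, 42], [2, 15, 18, 19, 23], [2, 25, 28, 29, 33],
  [2, 35, 38, 39, 43], [3, 12, 16, 27, 38], [3, 13, 19, 30, 41], [3, 14, 22, 33, 44],
  [4, 12, 17, 28, 36], [4, 13, 20, 31, 39], [4, 14, 23, 34, 42], [5, 12, 18, 26, 37],
  [5, 13, 21, 29, 40], [5, 14, 24, 32, 43], [6, 9, 16, 29, 42], [6, 10, 17, 30, 43],
  [6, 11, 18, 31, 44], [7, 9, 19, 32, 36], [7, 10, 20, 33, 37], [7, 11, 21, 34, 38],
  [8, 9, 22, 26, 39], [8, 10, 23, 27, 40], [8, 11, 24, 28, 41], [0, 1, 2], [0, 3, 6], [0, 4, 7],
  [0, 5, 8], [0, 9, 12], [0, 10, 13], [0, 11, 14], [0, 17, 19], [0, 18, 22], [0, 21, 23],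
  [0, 27, 29], [0, 28, 32], [0, 31, 33], [0, 37, 39], [0, 38, 42], [0, 41, 43], [1, 3, 8],
  [1, 4, 6], [1, 5, 7], [1, 9, 14], [1, 10, 12], [1, 11, 13], [1, 16, 23], [1, 18, 20],
  [1, 19, 24], [1, 26, 33], [1, 28, 30], [1, 29, 34], [1, 36, 43], [1, 38, 40], [1, 39, 44],
  [2, 3, 7], [2, 4, 8], [2, 5, 6], [2, 9, 13], [2, 10, 14], [2, 11, 12], [2, 16, 21], [2, 17, 24],
  [2, 20, 22], [2, 26, 31], [2, 27, 34], [2, 30, 32], [2, 36, 41], [2, 37, 44], [2, 40, 42],
  [3, 4, 5], [3, 9, 15], [3, 10, 25], [3, 11, 35], [3, 17, 26], [3, 18, 36], [3, 20, 29],
  [3, 21, 39], [3, 23, 32], [3, 24, 42], [3, 28, 37], [3, 31, 40], [3, 34, 43], [4, 9, 35],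
  [4, 10, 15], [4, 11, 25], [4, 16, 37], [4, 18, 27], [4, 19, 40], [4, 21, 30], [4, 22, 43],
  [4, 24, 33], [4, 26, 38], [4, 29, 41], [4, 32, 44], [5, 9, 25], [5, 10, 35], [5, 11, 15],
  [5, 16, 28], [5, 17, 38], [5, 19, 31], [5, 20, 41], [5, 22, 34], [5, 23, 44], [5, 27, 36],
  [5, 30, 39], [5, 33, 42], [6, 7, 8], [6, 12, 15], [6, 13, 25], [6, 14, 35], [6, 19, 26],
  [6, 20, 27], [6, 21, 28], [6, 22, 36], [6, 23, 37], [6, 24, 38], [6, 32, 39], [6, 33, 40],
  [6, 34, 41], [7, 12, 35], [7, 13, 15], [7, 14, 25], [7, 16, 39], [7, 17, 40], [7, 18, 41],
  [7, 22, 29], [7, 23, 30], [7, 24, 31], [7, 26, 42], [7, 27, 43], [7, 28, 44], [8, 12, 25],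
  [8, 13, 35], [8, 14, 15], [8, 16, 32], [8, 17, 33], [8, 18, 34], [8, 19, 42], [8, 20, 43],
  [8, 21, 44], [8, 29, 36], [8, 30, 37], [8, 31, 38], [9, 10, 11], [9, 17, 44], [9, 18, 30],
  [9, 20, 38], [9, 21, 33], [9, 23, 41], [9, 24, 27], [9, 28, 40], [9, 31, 43], [9, 34, 37],
  [10, 16, 31], [10, 18, 42], [10, 19, 34], [10, 21, 36], [10, 22, 28], [10, 24, 39], [10, 26, 41],
  [10, 29, 44], [10, 32, 38], [11, 16, 43], [11, 17, 29], [11, 19, 37], [11, 20, 32], [11, 22, 40],
  [11, 23, 26], [11, 27, 39], [11, 30, 42], [11, 33, 36], [12, 13, 14], [12, 19, 44], [12, 20, 42],
  [12, 21, 43], [12, 22, 30], [12, 23, 31], [12, 24, 29], [12, 32, 40], [12, 33, 41], [12, 34, 39],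
  [13, 16, 33], [13, 17, 34], [13, 18, 32], [13, 22, 38], [13, 23, 36], [13, 24, 37], [13, 26, 43],
  [13, 27, 44], [13, 28, 42], [14, 16, 41], [14, 17, 39], [14, 18, 40], [14, 19, 27], [14, 20, 28],
  [14, 21, 26], [14, 29, 37], [14, 30, 38], [14, 31, 36], [15, 25, 35], [15, 26, 44], [15, 27, 42],
  [15, 28, 43], [15, 29, 38], [15, 30, 36], [15, 31, 37], [15, 32, 41], [15, 33, 39], [15, 34, 40],
  [16, 17, 18], [16, 19, 22], [16, 25, 40], [16, 26, 36], [16, 30, 44], [16, 34, 35], [17, 20, 23],
  [17, 25, 41], [17, 27, 37], [17, 31, 42], [17, 32, 35], [18, 21, 24], [18, 25, 39], [18, 28, 38],
  [18, 29, 43], [18, 33, 35], [19, 20, 21], [19, 25, 43], [19, 28, 35], [19, 29, 39], [19, 33, 38],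
  [20, 25, 44], [20, 26, 35], [20, 30, 40], [20, 34, 36], [21, 25, 42], [21, 27, 35], [21, 31, 41],
  [21, 32, 37], [22, 23, 24], [22, 25, 37], [22, 27, 41], [22, 31, 35], [22, 32, 42], [23, 25, 38],
  [23, 28, 39], [23, 29, 35], [23, 33, 43], [24, 25, 36], [24, 26, 40], [24, 30, 35], [24, 34, 44],
  [26, 27, 28], [26, 29, 32], [27, 30, 33], [28, 31, 34], [29, 30, 31], [32, 33, 34], [36, 37, 38],
  [36, 39, 42], [37, 40, 43], [38, 41, 44], [39, 40, 41], [42, 43, 44]]

/-- part of the tree -/
def node0 : Cert :=
  .force 18 16 true <| .force 18 29 true <| .force 18 42 true <| .force 21 19 true <|
  .force 21 32 true <| .force 21 36 true <| .force 24 22 true <| .force 24 26 true <|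
  .force 24 39 true <| .force 31 12 true <| .force 34 17 true <| .force 35 18 true <|
  .force 37 27 true <| .force 38 28 true <| .force 40 37 true <| .force 41 38 true <|
  .force 46 14 true <| .force 47 10 true <| .force 49 23 true <| .force 50 20 true <|
  .force 51 24 true <| .force 52 33 true <| .force 53 30 true <| .force 54 34 true <|
  .force 55 43 true <| .force 56 40 true <| .force 57 44 true <| .force 61 13 true <|
  .force 63 11 true <| .force 64 21 true <| .force 67 31 true <| .force 70 41 true <|
  .force 74 15 true <| .force 75 25 true <| .force 76 35 true <| .done 0

/-- part of the tree -/
def node1 : Cert :=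
  .force 18 16 false <| .force 18 29 false <| .force 18 42 false <| .force 21 19 false <|
  .force 21 32 false <| .force 21 36 false <| .force 24 22 false <| .force 24 26 false <|
  .force 24 39 false <| .force 31 12 false <| .force 34 17 false <| .force 35 18 false <|
  .force 37 27 false <| .force 38 28 false <| .force 40 37 false <| .force 41 38 false <|
  .force 46 14 false <| .force 47 10 false <| .force 49 23 false <| .force 50 20 false <|
  .force 51 24 false <| .force 52 33 false <| .force 53 30 false <| .force 54 34 false <|
  .force 55 43 false <| .force 56 40 false <| .force 57 44 false <| .force 61 13 false <|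
  .force 63 11 false <| .force 64 21 false <| .force 67 31 false <| .force 70 41 false <|
  .force 74 15 false <| .force 75 25 false <| .force 76 35 false <| .done 1

/-- part of the tree -/
def node2 : Cert :=
  .force 28 6 true <| .force 43 8 true <| .force 44 4 true <| .force 58 7 true <|
  .force 60 5 true <| .split 9 node0 node1

/-- part of the tree -/
def node3 : Cert :=
  .force 0 16 true <| .force 0 20 true <| .force 0 24 true <| .force 3 17 true <|
  .force 3 21 true <| .force 3 22 true <| .force 6 18 true <| .force 6 19 true <|
  .force 6 23 true <| .force 9 12 false <| .force 9 27 false <| .force 9 38 false <|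
  .force 10 13 false <| .force 10 30 false <| .force 10 41 false <| .force 11 14 false <|
  .force 11 33 false <| .force 11 44 false <| .force 12 28 false <| .force 12 36 false <|
  .force 13 31 false <| .force 13 39 false <| .force 14 34 false <| .force 14 42 false <|
  .force 15 26 false <| .force 15 37 false <| .force 16 29 false <| .force 16 40 false <|
  .force 17 32 false <| .force 17 43 false <| .force 18 9 false <| .force 19 10 false <|
  .force 20 11 false <| .force 215 25 false <| .force 218 35 false <| .done 5

/-- part of the tree -/
def node4 : Cert :=
  .force 1 26 true <| .force 1 30 true <| .force 1 34 true <| .force 4 27 true <|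
  .force 4 31 true <| .force 4 32 true <| .force 7 28 true <| .force 7 29 true <|
  .force 7 33 true <| .force 9 12 false <| .force 9 38 false <| .force 10 13 false <|
  .force 10 41 false <| .force 11 14 false <| .force 11 44 false <| .force 12 36 false <|
  .force 13 39 false <| .force 14 42 false <| .force 15 37 false <| .force 16 40 false <|
  .force 17 43 false <| .force 18 9 false <| .force 19 10 false <| .force 20 11 false <|
  .force 203 35 false <| .done 9

/-- part of the tree -/
def node5 : Cert :=
  .force 18 42 false <| .force 21 36 false <| .force 24 39 false <| .force 31 12 true <|
  .force 40 37 false <| .force 41 38 false <| .force 46 14 true <| .force 47 10 true <|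
  .force 55 43 false <| .force 56 40 false <| .force 57 44 false <| .force 61 13 true <|
  .force 63 11 true <| .force 70 41 false <| .force 76 35 false <| .done 4

/-- part of the tree -/
def node6 : Cert :=
  .force 18 42 true <| .force 21 36 true <| .force 24 39 true <| .force 31 12 false <|
  .force 40 37 true <| .force 41 38 true <| .force 46 14 false <| .force 47 10 false <|
  .force 55 43 true <| .force 56 40 true <| .force 57 44 true <| .force 61 13 false <|
  .force 63 11 false <| .force 70 41 true <| .force 2 35 true <| .done 13

/-- part of the tree -/
def node7 : Cert :=
  .force 1 26 false <| .force 1 30 false <| .force 1 34 false <| .force 4 27 false <|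
  .force 4 31 false <| .force 4 32 false <| .force 7 28 false <| .force 7 29 false <|
  .force 7 33 false <| .split 9 node5 node6

/-- part of the tree -/
def node8 : Cert :=
  .force 0 16 false <| .force 0 20 false <| .force 0 24 false <| .force 3 17 false <|
  .force 3 21 false <| .force 3 22 false <| .force 6 18 false <| .force 6 19 false <|
  .force 6 23 false <| .split 25 node4 node7

/-- part of the tree -/
def node9 : Cert :=
  .force 28 6 false <| .force 43 8 false <| .force 44 4 false <| .force 58 7 false <|
  .force 60 5 false <| .split 15 node3 node8

/-- part of the tree -/
def node10 : Cert :=
  .force 27 2 true <| .split 3 node2 node9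

/-- part of the tree -/
def node11 : Cert :=
  .force 18 16 true <| .force 18 29 true <| .force 18 42 true <| .force 21 19 false <|
  .force 21 32 false <| .force 21 36 false <| .force 24 22 false <| .force 24 26 false <|
  .force 24 39 false <| .force 31 12 true <| .force 34 17 false <| .force 35 18 false <|
  .force 37 27 true <| .force 38 28 false <| .force 40 37 false <| .force 41 38 true <|
  .force 46 14 false <| .force 47 10 false <| .force 49 23 false <| .force 54 34 false <|
  .force 56 40 false <| .force 61 13 false <| .force 63 11 false <| .force 64 21 false <|
  .force 74 15 true <| .force 75 25 false <| .force 76 35 false <| .force 79 20 true <|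
  .force 82 24 true <| .force 84 31 false <| .force 85 43 false <| .force 94 33 false <|
  .force 96 41 false <| .force 148 44 false <| .force 149 30 false <| .done 85

/-- part of the tree -/
def node12 : Cert :=
  .force 19 17 true <| .force 19 30 true <| .force 19 43 true <| .force 22 33 false <|
  .force 22 37 false <| .force 25 23 false <| .force 25 40 false <| .force 32 13 true <|
  .force 34 19 true <| .force 36 21 false <| .force 39 31 false <| .force 40 39 false <|
  .force 42 41 true <| .force 48 11 false <| .force 53 28 false <| .force 55 36 false <|
  .force 62 14 false <| .force 69 32 false <| .force 75 25 true <| .force 76 35 false <|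
  .force 77 26 true <| .force 78 18 false <| .force 85 34 true <| .force 93 22 false <|
  .force 148 44 false <| .done 169

/-- part of the tree -/
def node13 : Cert :=
  .force 20 18 true <| .force 20 31 true <| .force 20 44 true <| .force 23 21 false <|
  .force 26 28 false <| .force 33 14 true <| .force 35 22 true <| .force 36 23 false <|
  .force 38 32 false <| .force 39 33 true <| .force 57 39 false <| .force 71 37 false <|
  .force 76 35 true <| .force 78 36 true <| .force 84 40 true <| .done 253

/-- part of the tree -/
def node14 : Cert :=
  .force 20 18 false <| .force 20 31 false <| .force 20 44 false <| .force 23 21 true <|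
  .force 26 28 true <| .force 33 14 false <| .force 35 22 false <| .force 36 23 true <|
  .force 38 32 true <| .force 39 33 false <| .force 76 35 false <| .force 78 36 false <|
  .force 80 39 true <| .force 83 37 true <| .force 84 40 false <| .done 84

/-- part of the tree -/
def node15 : Cert :=
  .force 19 17 false <| .force 19 30 false <| .force 19 43 false <| .force 32 13 false <|
  .force 34 19 false <| .force 42 41 false <| .force 75 25 false <| .force 77 26 false <|
  .force 85 34 false <| .split 11 node13 node14

/-- part of the tree -/
def node16 : Cert :=
  .force 18 16 false <| .force 18 29 false <| .force 18 42 false <| .force 31 12 false <|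
  .force 37 27 false <| .force 41 38 false <| .force 74 15 false <| .force 79 20 false <|
  .force 82 24 false <| .split 10 node12 node15

/-- part of the tree -/
def node17 : Cert :=
  .force 28 6 true <| .force 43 8 false <| .force 44 4 false <| .force 58 7 false <|
  .force 60 5 false <| .split 9 node11 node16

/-- part of the tree -/
def node18 : Cert :=
  .force 12 28 false <| .force 12 36 false <| .force 13 13 true <| .force 13 31 true <|
  .force 13 39 true <| .force 14 14 false <| .force 14 34 false <| .force 16 5 false <|
  .force 16 40 false <| .force 17 32 false <| .force 17 43 false <| .force 20 11 false <|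
  .force 20 44 false <| .force 21 7 true <| .force 22 10 true <| .force 22 33 true <|
  .force 22 37 true <| .force 24 8 false <| .force 24 26 false <| .force 26 41 false <|
  .force 75 25 false <| .force 86 35 false <| .force 92 30 false <| .done 165

/-- part of the tree -/
def node19 : Cert :=
  .force 15 26 false <| .force 16 40 false <| .force 17 14 true <| .force 17 32 true <|
  .force 17 43 true <| .force 19 30 false <| .force 21 36 false <| .force 24 8 true <|
  .force 26 11 true <| .force 26 28 true <| .force 26 41 true <| .force 76 35 false <|
  .force 85 34 false <| .force 88 25 false <| .force 97 44 false <| .done 245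

/-- part of the tree -/
def node20 : Cert :=
  .force 15 26 true <| .force 16 40 true <| .force 17 14 false <| .force 17 32 false <|
  .force 17 43 false <| .force 19 30 true <| .force 21 36 true <| .force 24 8 false <|
  .force 26 11 false <| .force 26 28 false <| .force 26 41 false <| .force 204 44 true <|
  .force 212 34 true <| .force 215 25 true <| .force 218 35 true <| .done 80

/-- part of the tree -/
def node21 : Cert :=
  .force 13 13 false <| .force 13 31 false <| .force 13 39 false <| .force 29 7 false <|
  .force 32 10 false <| .force 39 33 false <| .force 40 37 false <| .split 5 node19 node20

/-- part of the tree -/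
def node22 : Cert :=
  .force 0 16 true <| .force 0 20 true <| .force 0 24 true <| .force 3 17 false <|
  .force 3 21 false <| .force 3 22 false <| .force 6 18 false <| .force 6 19 false <|
  .force 6 23 false <| .force 9 12 false <| .force 9 27 false <| .force 9 38 false <|
  .force 18 9 false <| .force 18 29 false <| .force 18 42 false <| .split 4 node18 node21

/-- part of the tree -/
def node23 : Cert :=
  .force 12 12 false <| .force 13 39 false <| .force 14 14 true <| .force 14 23 true <|
  .force 14 42 true <| .force 15 5 false <| .force 15 18 false <| .force 15 37 false <|
  .force 16 21 true <| .force 18 9 false <| .force 20 11 true <| .force 21 7 true <|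
  .force 23 38 true <| .force 24 8 false <| .force 24 22 false <| .done 249

/-- part of the tree -/
def node24 : Cert :=
  .force 12 12 true <| .force 13 39 true <| .force 14 14 false <| .force 14 23 false <|
  .force 14 42 false <| .force 15 5 true <| .force 15 18 true <| .force 15 37 true <|
  .force 16 21 false <| .force 18 9 true <| .force 20 11 false <| .force 21 7 false <|
  .force 23 38 false <| .force 24 8 true <| .force 24 22 true <| .done 89

/-- part of the tree -/
def node25 : Cert :=
  .force 1 26 true <| .force 1 30 true <| .force 1 34 true <| .force 4 27 false <|
  .force 4 31 false <| .force 4 32 false <| .force 7 28 false <| .force 7 29 false <|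
  .force 7 33 false <| .force 10 13 false <| .force 10 19 false <| .force 10 41 false <|
  .force 19 10 false <| .force 19 17 false <| .force 19 43 false <| .force 203 35 false <|
  .force 204 44 false <| .force 208 36 false <| .force 212 40 false <| .split 4 node23 node24

/-- part of the tree -/
def node26 : Cert :=
  .force 12 12 true <| .force 12 17 true <| .force 12 28 true <| .force 13 13 false <|
  .force 14 23 false <| .force 15 5 false <| .force 16 21 false <| .force 16 29 false <|
  .force 17 32 true <| .force 18 9 true <| .force 19 10 false <| .force 21 7 true <|
  .force 21 19 true <| .force 24 8 false <| .force 25 27 false <| .done 93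

/-- part of the tree -/
def node27 : Cert :=
  .force 12 12 false <| .force 12 17 false <| .force 12 28 false <| .force 13 13 true <|
  .force 14 23 true <| .force 15 5 true <| .force 16 21 true <| .force 16 29 true <|
  .force 17 32 false <| .force 18 9 false <| .force 19 10 true <| .force 21 7 false <|
  .force 21 19 false <| .force 24 8 true <| .force 25 27 true <| .done 173

/-- part of the tree -/
def node28 : Cert :=
  .force 2 36 true <| .force 2 40 true <| .force 2 44 true <| .force 5 37 false <|
  .force 5 41 false <| .force 5 42 false <| .force 8 38 false <| .force 8 39 false <|
  .force 8 43 false <| .force 11 14 false <| .force 11 22 false <| .force 11 33 false <|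
  .force 20 11 false <| .force 20 18 false <| .force 20 31 false <| .split 4 node26 node27

/-- part of the tree -/
def node29 : Cert :=
  .force 12 12 false <| .force 12 17 false <| .force 12 28 false <| .force 13 13 false <|
  .force 13 31 false <| .force 13 39 false <| .force 14 14 false <| .force 14 23 false <|
  .force 14 42 false <| .force 29 7 true <| .force 31 9 false <| .force 32 10 false <|
  .force 33 11 false <| .force 34 19 false <| .force 36 21 false <| .force 38 32 false <|
  .force 39 33 false <| .force 40 37 false <| .force 41 38 false <| .force 45 5 false <|
  .force 59 8 false <| .force 3 22 true <| .force 4 27 true <| .force 5 41 true <|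
  .force 6 18 true <| .force 7 29 true <| .force 8 43 true <| .done 164

/-- part of the tree -/
def node30 : Cert :=
  .force 15 12 false <| .force 15 18 false <| .force 15 37 false <| .force 16 13 false <|
  .force 16 21 false <| .force 16 29 false <| .force 17 14 false <| .force 17 32 false <|
  .force 17 43 false <| .force 30 8 true <| .force 31 9 false <| .force 32 10 false <|
  .force 33 11 false <| .force 35 22 false <| .force 36 23 false <| .force 37 27 false <|
  .force 38 28 false <| .force 40 39 false <| .force 42 41 false <| .force 3 17 true <|
  .force 4 31 true <| .force 5 42 true <| .force 6 19 true <| .force 7 33 true <|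
  .force 8 38 true <| .done 244

/-- part of the tree -/
def node31 : Cert :=
  .force 18 29 false <| .force 18 42 false <| .force 21 19 false <| .force 21 32 false <|
  .force 24 22 false <| .force 24 39 false <| .force 31 12 true <| .force 34 17 false <|
  .force 35 18 false <| .force 37 27 false <| .force 38 28 false <| .force 40 37 false <|
  .force 41 38 false <| .force 46 14 false <| .force 47 10 false <| .force 61 13 false <|
  .force 63 11 false <| .force 3 21 true <| .force 4 31 true <| .force 5 41 true <|
  .force 6 23 true <| .force 7 33 true <| .force 8 43 true <| .done 81

/-- part of the tree -/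
def node32 : Cert :=
  .force 3 21 false <| .force 3 22 false <| .force 12 28 false <| .force 19 10 false <|
  .force 19 43 false <| .force 24 39 true <| .force 32 13 false <| .force 34 19 true <|
  .force 35 18 false <| .force 36 23 false <| .force 38 32 false <| .force 40 37 true <|
  .force 42 41 false <| .force 102 38 false <| .force 103 31 false <| .force 139 33 false <|
  .force 141 42 false <| .force 168 11 true <| .force 172 27 true <| .force 195 14 true <|
  .force 200 29 true <| .done 241

/-- part of the tree -/
def node33 : Cert :=
  .force 12 28 true <| .force 26 11 false <| .force 26 41 false <| .force 33 14 false <|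
  .force 34 19 false <| .force 38 32 true <| .force 42 43 false <| .force 81 23 false <|
  .force 83 37 false <| .force 116 21 false <| .force 120 39 false <| .force 255 27 false <|
  .force 256 29 false <| .force 258 31 false <| .force 260 33 false <| .force 3 22 true <|
  .force 5 42 true <| .force 6 18 true <| .force 8 38 true <| .force 10 13 true <|
  .force 19 10 true <| .done 161

/-- part of the tree -/
def node34 : Cert :=
  .force 31 12 false <| .split 17 node32 node33

/-- part of the tree -/
def node35 : Cert :=
  .force 30 8 false <| .split 9 node31 node34

/-- part of the tree -/
def node36 : Cert :=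
  .force 29 7 false <| .split 5 node30 node35

/-- part of the tree -/
def node37 : Cert :=
  .force 2 36 false <| .force 2 40 false <| .force 2 44 false <| .split 4 node29 node36

/-- part of the tree -/
def node38 : Cert :=
  .force 1 26 false <| .force 1 30 false <| .force 1 34 false <| .split 35 node28 node37

/-- part of the tree -/
def node39 : Cert :=
  .force 0 16 false <| .force 0 20 false <| .force 0 24 false <| .split 25 node25 node38

/-- part of the tree -/
def node40 : Cert :=
  .force 28 6 false <| .split 15 node22 node39

/-- part of the tree -/
def node41 : Cert :=
  .force 27 2 false <| .split 3 node17 node40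

/-- part of the tree -/
def node42 : Cert :=
  .split 1 node10 node41

/-- part of the tree -/
def node43 : Cert :=
  .force 18 16 false <| .force 18 29 false <| .force 18 42 false <| .force 21 19 false <|
  .force 21 32 false <| .force 21 36 false <| .force 24 22 true <| .force 24 26 true <|
  .force 24 39 true <| .force 31 12 false <| .force 35 18 false <| .force 40 37 false <|
  .force 46 14 true <| .force 47 10 false <| .force 49 23 false <| .force 50 20 false <|
  .force 51 24 false <| .force 52 33 true <| .force 54 34 false <| .force 55 43 false <|
  .force 57 44 true <| .force 61 13 false <| .force 67 31 false <| .force 74 15 true <|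
  .force 75 25 false <| .force 77 17 true <| .force 80 21 true <| .force 83 28 false <|
  .force 84 40 false <| .force 86 35 false <| .force 92 30 false <| .force 95 38 false <|
  .force 100 11 false <| .force 152 41 false <| .force 153 27 false <| .done 117

/-- part of the tree -/
def node44 : Cert :=
  .force 19 30 false <| .force 19 43 false <| .force 22 20 false <| .force 22 37 false <|
  .force 25 23 true <| .force 25 27 true <| .force 25 40 true <| .force 32 13 false <|
  .force 37 29 false <| .force 47 12 true <| .force 48 11 false <| .force 49 16 true <|
  .force 50 18 false <| .force 53 28 false <| .force 54 34 false <| .force 55 36 false <|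
  .force 56 38 true <| .force 72 42 false <| .force 75 25 true <| .force 76 35 false <|
  .force 81 32 true <| .force 82 24 false <| .force 84 31 true <| .force 91 19 false <|
  .force 152 41 false <| .done 153

/-- part of the tree -/
def node45 : Cert :=
  .force 20 18 false <| .force 23 34 false <| .force 26 24 true <| .force 26 28 true <|
  .force 26 41 true <| .force 42 43 false <| .force 48 13 true <| .force 50 20 false <|
  .force 51 19 true <| .force 53 30 true <| .force 54 29 false <| .force 55 36 false <|
  .force 76 35 true <| .force 82 42 true <| .force 83 37 true <| .done 237

/-- part of the tree -/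
def node46 : Cert :=
  .force 20 18 true <| .force 23 34 true <| .force 26 24 false <| .force 26 28 false <|
  .force 26 41 false <| .force 48 13 false <| .force 50 20 true <| .force 51 19 false <|
  .force 53 30 false <| .force 54 29 true <| .force 76 35 false <| .force 78 36 true <|
  .force 82 42 false <| .force 83 37 false <| .force 85 43 true <| .done 116

/-- part of the tree -/
def node47 : Cert :=
  .force 25 23 false <| .force 25 27 false <| .force 25 40 false <| .force 47 12 false <|
  .force 49 16 false <| .force 56 38 false <| .force 75 25 false <| .force 81 32 false <|
  .force 84 31 false <| .split 11 node45 node46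

/-- part of the tree -/
def node48 : Cert :=
  .force 24 22 false <| .force 24 26 false <| .force 24 39 false <| .force 46 14 false <|
  .force 52 33 false <| .force 57 44 false <| .force 74 15 false <| .force 77 17 false <|
  .force 80 21 false <| .split 10 node44 node47

/-- part of the tree -/
def node49 : Cert :=
  .force 28 6 false <| .force 43 8 true <| .force 44 4 false <| .force 58 7 false <|
  .force 73 5 false <| .split 9 node43 node48

/-- part of the tree -/
def node50 : Cert :=
  .force 12 12 true <| .force 12 28 true <| .force 12 36 true <| .force 13 13 false <|
  .force 13 31 false <| .force 14 34 false <| .force 14 42 false <| .force 15 5 false <|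
  .force 15 37 false <| .force 16 29 false <| .force 16 40 false <| .force 18 6 true <|
  .force 19 10 true <| .force 19 30 true <| .force 19 43 true <| .force 20 11 false <|
  .force 21 7 false <| .force 21 32 false <| .force 23 38 false <| .force 25 27 false <|
  .force 26 41 false <| .force 75 25 false <| .force 86 35 false <| .done 149

/-- part of the tree -/
def node51 : Cert :=
  .force 15 37 false <| .force 16 13 true <| .force 16 29 true <| .force 16 40 true <|
  .force 17 32 false <| .force 18 42 false <| .force 21 7 true <| .force 23 11 true <|
  .force 23 34 true <| .force 23 38 true <| .force 25 27 false <| .force 26 41 false <|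
  .force 76 35 false <| .force 84 31 false <| .force 88 25 false <| .done 229

/-- part of the tree -/
def node52 : Cert :=
  .force 15 37 true <| .force 16 13 false <| .force 16 29 false <| .force 16 40 false <|
  .force 17 32 true <| .force 18 42 true <| .force 21 7 false <| .force 23 11 false <|
  .force 23 34 false <| .force 23 38 false <| .force 25 27 true <| .force 26 41 true <|
  .force 209 31 true <| .force 220 25 true <| .force 223 35 true <| .done 144

/-- part of the tree -/
def node53 : Cert :=
  .force 12 12 false <| .force 12 28 false <| .force 12 36 false <| .force 44 6 false <|
  .force 47 10 false <| .force 53 30 false <| .force 55 43 false <| .split 5 node51 node52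

/-- part of the tree -/
def node54 : Cert :=
  .force 0 16 false <| .force 0 20 false <| .force 0 24 false <| .force 3 17 true <|
  .force 3 21 true <| .force 3 22 true <| .force 6 18 false <| .force 6 19 false <|
  .force 6 23 false <| .force 11 14 false <| .force 11 33 false <| .force 11 44 false <|
  .force 24 9 false <| .force 24 26 false <| .force 24 39 false <| .split 4 node50 node53

/-- part of the tree -/
def node55 : Cert :=
  .force 12 36 false <| .force 13 13 true <| .force 13 20 true <| .force 13 39 true <|
  .force 14 14 false <| .force 16 5 false <| .force 17 24 false <| .force 17 43 false <|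
  .force 19 6 true <| .force 20 11 true <| .force 20 18 true <| .force 20 44 true <|
  .force 21 7 false <| .force 21 9 false <| .force 21 19 false <| .done 233

/-- part of the tree -/
def node56 : Cert :=
  .force 12 36 true <| .force 13 13 false <| .force 13 20 false <| .force 13 39 false <|
  .force 14 14 true <| .force 16 5 true <| .force 17 24 true <| .force 17 43 true <|
  .force 19 6 false <| .force 20 11 false <| .force 20 18 false <| .force 20 44 false <|
  .force 21 7 true <| .force 21 9 true <| .force 21 19 true <| .done 121

/-- part of the tree -/
def node57 : Cert :=
  .force 1 26 false <| .force 1 30 false <| .force 1 34 false <| .force 4 27 true <|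
  .force 4 31 true <| .force 4 32 true <| .force 7 28 false <| .force 7 29 false <|
  .force 7 33 false <| .force 9 12 false <| .force 9 16 false <| .force 9 38 false <|
  .force 25 10 false <| .force 25 23 false <| .force 25 40 false <| .force 203 35 false <|
  .force 205 42 false <| .force 209 37 false <| .force 210 41 false <| .split 4 node55 node56

/-- part of the tree -/
def node58 : Cert :=
  .force 12 12 false <| .force 13 20 false <| .force 14 14 true <| .force 14 23 true <|
  .force 14 34 true <| .force 15 5 false <| .force 15 18 false <| .force 15 26 false <|
  .force 16 29 true <| .force 18 6 true <| .force 18 9 true <| .force 18 16 true <|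
  .force 19 10 false <| .force 21 7 false <| .force 22 33 false <| .done 125

/-- part of the tree -/
def node59 : Cert :=
  .force 12 12 true <| .force 13 20 true <| .force 14 14 false <| .force 14 23 false <|
  .force 14 34 false <| .force 15 5 true <| .force 15 18 true <| .force 15 26 true <|
  .force 16 29 false <| .force 18 6 false <| .force 18 9 false <| .force 18 16 false <|
  .force 19 10 true <| .force 21 7 true <| .force 22 33 true <| .done 157

/-- part of the tree -/
def node60 : Cert :=
  .force 2 36 false <| .force 2 40 false <| .force 2 44 false <| .force 5 37 true <|
  .force 5 41 true <| .force 5 42 true <| .force 8 38 false <| .force 8 39 false <|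
  .force 8 43 false <| .force 10 13 false <| .force 10 19 false <| .force 10 30 false <|
  .force 26 11 false <| .force 26 24 false <| .force 26 28 false <| .split 4 node58 node59

/-- part of the tree -/
def node61 : Cert :=
  .force 12 12 false <| .force 12 28 false <| .force 12 36 false <| .force 13 13 false <|
  .force 13 20 false <| .force 13 39 false <| .force 14 14 false <| .force 14 23 false <|
  .force 14 34 false <| .force 29 7 false <| .force 44 6 true <| .force 45 5 false <|
  .force 46 9 false <| .force 47 10 false <| .force 48 11 false <| .force 49 16 false <|
  .force 50 18 false <| .force 53 30 false <| .force 54 29 false <| .force 55 43 false <|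
  .force 57 44 false <| .force 0 24 true <| .force 1 26 true <| .force 2 40 true <|
  .force 6 19 true <| .force 7 33 true <| .force 8 38 true <| .done 148

/-- part of the tree -/
def node62 : Cert :=
  .force 15 12 false <| .force 15 18 false <| .force 15 26 false <| .force 16 13 false <|
  .force 16 29 false <| .force 16 40 false <| .force 17 14 false <| .force 17 24 false <|
  .force 17 43 false <| .force 45 7 true <| .force 46 9 false <| .force 47 10 false <|
  .force 48 11 false <| .force 50 20 false <| .force 51 19 false <| .force 52 33 false <|
  .force 54 34 false <| .force 55 36 false <| .force 56 38 false <| .force 0 16 true <|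
  .force 1 30 true <| .force 2 44 true <| .force 6 23 true <| .force 7 28 true <|
  .force 8 39 true <| .done 228

/-- part of the tree -/
def node63 : Cert :=
  .force 18 16 false <| .force 18 29 false <| .force 21 19 false <| .force 21 36 false <|
  .force 24 26 false <| .force 24 39 false <| .force 31 12 false <| .force 46 14 true <|
  .force 47 10 false <| .force 49 23 false <| .force 51 24 false <| .force 52 33 false <|
  .force 54 34 false <| .force 55 43 false <| .force 57 44 false <| .force 61 13 false <|
  .force 147 11 false <| .force 0 20 true <| .force 1 30 true <| .force 2 40 true <|
  .force 6 18 true <| .force 7 28 true <| .force 8 38 true <| .done 113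

/-- part of the tree -/
def node64 : Cert :=
  .force 0 20 false <| .force 0 24 false <| .force 9 12 false <| .force 9 38 false <|
  .force 17 43 true <| .force 18 29 false <| .force 19 10 false <| .force 19 30 false <|
  .force 22 33 true <| .force 49 23 true <| .force 50 18 false <| .force 51 19 false <|
  .force 52 26 true <| .force 53 28 false <| .force 54 34 false <| .force 55 36 true <|
  .force 56 40 false <| .force 106 44 false <| .force 126 39 false <| .force 166 11 true <|
  .force 185 13 true <| .done 225

/-- part of the tree -/
def node65 : Cert :=
  .force 18 29 true <| .force 49 23 false <| .force 54 34 true <| .force 79 20 false <|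
  .force 85 43 false <| .force 140 18 false <| .force 144 36 false <| .force 167 11 false <|
  .force 186 13 false <| .force 207 38 false <| .force 212 40 false <| .force 256 26 false <|
  .force 258 28 false <| .force 259 30 false <| .force 260 33 false <| .force 0 24 true <|
  .force 2 44 true <| .force 6 19 true <| .force 8 39 true <| .force 9 12 true <|
  .force 19 10 true <| .done 145

/-- part of the tree -/
def node66 : Cert :=
  .force 46 14 false <| .split 16 node64 node65

/-- part of the tree -/
def node67 : Cert :=
  .force 45 7 false <| .split 9 node63 node66

/-- part of the tree -/
def node68 : Cert :=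
  .force 44 6 false <| .split 5 node62 node67

/-- part of the tree -/
def node69 : Cert :=
  .force 5 37 false <| .force 5 41 false <| .force 5 42 false <| .split 4 node61 node68

/-- part of the tree -/
def node70 : Cert :=
  .force 4 27 false <| .force 4 31 false <| .force 4 32 false <| .split 35 node60 node69

/-- part of the tree -/
def node71 : Cert :=
  .force 3 17 false <| .force 3 21 false <| .force 3 22 false <| .split 25 node57 node70

/-- part of the tree -/
def node72 : Cert :=
  .force 43 8 false <| .split 15 node54 node71

/-- part of the tree -/
def node73 : Cert :=
  .force 27 2 false <| .split 3 node49 node72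

/-- part of the tree -/
def node74 : Cert :=
  .force 18 16 false <| .force 18 29 false <| .force 18 42 false <| .force 21 19 true <|
  .force 21 32 true <| .force 21 36 true <| .force 24 22 false <| .force 24 26 false <|
  .force 24 39 false <| .force 31 12 false <| .force 34 17 false <| .force 38 28 false <|
  .force 46 14 false <| .force 51 24 false <| .force 55 43 false <| .force 61 13 true <|
  .force 62 10 false <| .force 63 11 false <| .force 64 21 false <| .force 66 20 false <|
  .force 67 31 false <| .force 69 30 true <| .force 70 41 true <| .force 72 40 false <|
  .force 74 15 true <| .force 75 25 false <| .force 76 35 false <| .force 78 18 true <|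
  .force 81 23 true <| .force 83 37 false <| .force 85 34 false <| .force 90 27 false <|
  .force 97 44 false <| .force 150 38 false <| .force 151 33 false <| .done 101

/-- part of the tree -/
def node75 : Cert :=
  .force 19 17 false <| .force 19 43 false <| .force 22 20 true <| .force 22 33 true <|
  .force 22 37 true <| .force 25 27 false <| .force 25 40 false <| .force 39 31 false <|
  .force 40 39 false <| .force 47 12 false <| .force 52 26 false <| .force 62 14 true <|
  .force 63 11 false <| .force 65 24 false <| .force 66 22 true <| .force 68 34 false <|
  .force 71 44 true <| .force 72 42 false <| .force 75 25 true <| .force 76 35 false <|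
  .force 79 29 true <| .force 80 21 false <| .force 83 28 true <| .force 89 16 false <|
  .force 150 38 false <| .done 185

/-- part of the tree -/
def node76 : Cert :=
  .force 20 31 false <| .force 23 21 true <| .force 23 34 true <| .force 23 38 true <|
  .force 26 24 false <| .force 41 42 false <| .force 56 40 false <| .force 63 12 true <|
  .force 64 16 true <| .force 65 17 false <| .force 67 26 false <| .force 68 27 true <|
  .force 76 35 true <| .force 80 39 true <| .force 85 43 true <| .done 221

/-- part of the tree -/
def node77 : Cert :=
  .force 20 31 true <| .force 23 21 false <| .force 23 34 false <| .force 23 38 false <|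
  .force 26 24 true <| .force 63 12 false <| .force 64 16 false <| .force 65 17 true <|
  .force 67 26 true <| .force 68 27 false <| .force 76 35 false <| .force 80 39 false <|
  .force 82 42 true <| .force 84 40 true <| .force 85 43 false <| .done 100

/-- part of the tree -/
def node78 : Cert :=
  .force 22 20 false <| .force 22 33 false <| .force 22 37 false <| .force 62 14 false <|
  .force 66 22 false <| .force 71 44 false <| .force 75 25 false <| .force 79 29 false <|
  .force 83 28 false <| .split 11 node76 node77

/-- part of the tree -/
def node79 : Cert :=
  .force 21 19 false <| .force 21 32 false <| .force 21 36 false <| .force 61 13 false <|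
  .force 69 30 false <| .force 70 41 false <| .force 74 15 false <| .force 78 18 false <|
  .force 81 23 false <| .split 10 node75 node78

/-- part of the tree -/
def node80 : Cert :=
  .force 28 6 false <| .force 43 8 false <| .force 58 7 true <| .force 59 4 false <|
  .force 60 5 false <| .split 9 node74 node79

/-- part of the tree -/
def node81 : Cert :=
  .force 12 12 false <| .force 12 28 false <| .force 13 31 false <| .force 13 39 false <|
  .force 14 14 true <| .force 14 34 true <| .force 14 42 true <| .force 15 5 false <|
  .force 15 26 false <| .force 15 37 false <| .force 17 43 false <| .force 18 6 false <|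
  .force 18 29 false <| .force 19 10 true <| .force 20 11 false <| .force 20 44 false <|
  .force 22 33 false <| .force 23 38 false <| .force 24 8 true <| .force 25 27 true <|
  .force 25 40 true <| .force 75 25 false <| .force 86 35 false <| .done 181

/-- part of the tree -/
def node82 : Cert :=
  .force 15 12 true <| .force 15 26 true <| .force 15 37 true <| .force 16 29 false <|
  .force 17 43 false <| .force 18 6 true <| .force 20 11 true <| .force 20 31 true <|
  .force 20 44 true <| .force 22 33 false <| .force 23 38 false <| .force 24 39 false <|
  .force 26 28 false <| .force 76 35 false <| .force 88 25 false <| .done 213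

/-- part of the tree -/
def node83 : Cert :=
  .force 15 12 false <| .force 15 26 false <| .force 15 37 false <| .force 16 29 true <|
  .force 17 43 true <| .force 18 6 false <| .force 20 11 false <| .force 20 31 false <|
  .force 20 44 false <| .force 22 33 true <| .force 23 38 true <| .force 24 39 true <|
  .force 26 28 true <| .force 225 25 true <| .force 228 35 true <| .done 208

/-- part of the tree -/
def node84 : Cert :=
  .force 14 14 false <| .force 14 34 false <| .force 14 42 false <| .force 59 8 false <|
  .force 62 10 false <| .force 68 27 false <| .force 72 40 false <| .split 5 node82 node83

/-- part of the tree -/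
def node85 : Cert :=
  .force 0 16 false <| .force 0 20 false <| .force 0 24 false <| .force 3 17 false <|
  .force 3 21 false <| .force 3 22 false <| .force 6 18 true <| .force 6 19 true <|
  .force 6 23 true <| .force 10 13 false <| .force 10 30 false <| .force 10 41 false <|
  .force 21 9 false <| .force 21 32 false <| .force 21 36 false <| .split 4 node81 node84

/-- part of the tree -/
def node86 : Cert :=
  .force 12 12 true <| .force 12 17 true <| .force 12 36 true <| .force 13 13 false <|
  .force 14 42 false <| .force 15 5 false <| .force 16 21 false <| .force 16 40 false <|
  .force 17 24 true <| .force 18 6 false <| .force 18 9 false <| .force 18 16 false <|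
  .force 20 11 true <| .force 24 8 true <| .force 26 41 true <| .done 217

/-- part of the tree -/
def node87 : Cert :=
  .force 12 12 false <| .force 12 17 false <| .force 12 36 false <| .force 13 13 true <|
  .force 14 42 true <| .force 15 5 true <| .force 16 21 true <| .force 16 40 true <|
  .force 17 24 false <| .force 18 6 true <| .force 18 9 true <| .force 18 16 true <|
  .force 20 11 false <| .force 24 8 false <| .force 26 41 false <| .done 105

/-- part of the tree -/
def node88 : Cert :=
  .force 1 26 false <| .force 1 30 false <| .force 1 34 false <| .force 4 27 false <|
  .force 4 31 false <| .force 4 32 false <| .force 7 28 true <| .force 7 29 true <|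
  .force 7 33 true <| .force 11 14 false <| .force 11 22 false <| .force 11 44 false <|
  .force 22 10 false <| .force 22 20 false <| .force 22 37 false <| .force 203 35 false <|
  .force 206 43 false <| .force 207 38 false <| .force 211 39 false <| .split 4 node86 node87

/-- part of the tree -/
def node89 : Cert :=
  .force 12 17 false <| .force 13 13 true <| .force 13 20 true <| .force 13 31 true <|
  .force 14 14 false <| .force 16 5 false <| .force 17 24 false <| .force 17 32 false <|
  .force 19 6 false <| .force 19 10 false <| .force 19 30 false <| .force 21 9 true <|
  .force 24 8 true <| .force 24 22 true <| .force 24 26 true <| .done 109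

/-- part of the tree -/
def node90 : Cert :=
  .force 12 17 true <| .force 13 13 false <| .force 13 20 false <| .force 13 31 false <|
  .force 14 14 true <| .force 16 5 true <| .force 17 24 true <| .force 17 32 true <|
  .force 19 6 true <| .force 19 10 true <| .force 19 30 true <| .force 21 9 false <|
  .force 24 8 false <| .force 24 22 false <| .force 24 26 false <| .done 189

/-- part of the tree -/
def node91 : Cert :=
  .force 2 36 false <| .force 2 40 false <| .force 2 44 false <| .force 5 37 false <|
  .force 5 41 false <| .force 5 42 false <| .force 8 38 true <| .force 8 39 true <|
  .force 8 43 true <| .force 9 12 false <| .force 9 16 false <| .force 9 27 false <|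
  .force 23 11 false <| .force 23 21 false <| .force 23 34 false <| .split 4 node89 node90

/-- part of the tree -/
def node92 : Cert :=
  .force 12 12 false <| .force 12 17 false <| .force 12 36 false <| .force 13 13 false <|
  .force 13 20 false <| .force 13 31 false <| .force 14 14 false <| .force 14 34 false <|
  .force 14 42 false <| .force 44 6 false <| .force 59 8 true <| .force 60 5 false <|
  .force 61 9 false <| .force 62 10 false <| .force 63 11 false <| .force 65 24 false <|
  .force 66 22 false <| .force 67 26 false <| .force 68 27 false <| .force 70 41 false <|
  .force 72 40 false <| .force 0 16 true <| .force 1 30 true <| .force 2 44 true <|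
  .force 3 21 true <| .force 4 32 true <| .force 5 37 true <| .done 180

/-- part of the tree -/
def node93 : Cert :=
  .force 15 12 false <| .force 15 26 false <| .force 15 37 false <| .force 16 13 false <|
  .force 16 21 false <| .force 16 40 false <| .force 17 14 false <| .force 17 24 false <|
  .force 17 32 false <| .force 60 6 true <| .force 61 9 false <| .force 62 10 false <|
  .force 63 11 false <| .force 64 16 false <| .force 65 17 false <| .force 67 31 false <|
  .force 69 30 false <| .force 71 44 false <| .force 72 42 false <| .force 0 20 true <|
  .force 1 34 true <| .force 2 36 true <| .force 3 22 true <| .force 4 27 true <|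
  .force 5 41 true <| .done 212

/-- part of the tree -/
def node94 : Cert :=
  .force 18 16 false <| .force 18 42 false <| .force 21 32 false <| .force 21 36 false <|
  .force 24 22 false <| .force 24 26 false <| .force 31 12 false <| .force 46 14 false <|
  .force 61 13 true <| .force 62 10 false <| .force 63 11 false <| .force 64 21 false <|
  .force 66 20 false <| .force 67 31 false <| .force 69 30 false <| .force 70 41 false <|
  .force 72 40 false <| .force 0 24 true <| .force 1 34 true <| .force 2 44 true <|
  .force 3 17 true <| .force 4 27 true <| .force 5 37 true <| .done 97

/-- part of the tree -/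
def node95 : Cert :=
  .force 0 20 false <| .force 0 24 false <| .force 9 12 false <| .force 9 27 false <|
  .force 13 31 true <| .force 18 42 false <| .force 20 11 false <| .force 20 44 false <|
  .force 26 41 true <| .force 64 21 true <| .force 65 17 false <| .force 66 22 false <|
  .force 67 26 true <| .force 68 34 false <| .force 70 36 true <| .force 71 37 false <|
  .force 72 40 false <| .force 92 30 false <| .force 138 32 false <| .force 157 10 true <|
  .force 194 14 true <| .done 177

/-- part of the tree -/
def node96 : Cert :=
  .force 18 42 true <| .force 64 21 false <| .force 72 40 true <| .force 82 24 false <|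
  .force 84 31 false <| .force 127 17 false <| .force 132 26 false <| .force 158 10 false <|
  .force 196 14 false <| .force 205 27 false <| .force 212 34 false <| .force 262 36 false <|
  .force 263 37 false <| .force 265 41 false <| .force 266 44 false <| .force 0 20 true <|
  .force 1 30 true <| .force 3 22 true <| .force 4 32 true <| .force 9 12 true <|
  .force 20 11 true <| .done 209

/-- part of the tree -/
def node97 : Cert :=
  .force 61 13 false <| .split 16 node95 node96

/-- part of the tree -/
def node98 : Cert :=
  .force 60 6 false <| .split 9 node94 node97

/-- part of the tree -/
def node99 : Cert :=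
  .force 59 8 false <| .split 5 node93 node98

/-- part of the tree -/
def node100 : Cert :=
  .force 8 38 false <| .force 8 39 false <| .force 8 43 false <| .split 4 node92 node99

/-- part of the tree -/
def node101 : Cert :=
  .force 7 28 false <| .force 7 29 false <| .force 7 33 false <| .split 35 node91 node100

/-- part of the tree -/
def node102 : Cert :=
  .force 6 18 false <| .force 6 19 false <| .force 6 23 false <| .split 25 node88 node101

/-- part of the tree -/
def node103 : Cert :=
  .force 58 7 false <| .split 15 node85 node102

/-- part of the tree -/
def node104 : Cert :=
  .split 3 node80 node103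

/-- part of the tree -/
def node105 : Cert :=
  .force 12 17 true <| .force 12 28 true <| .force 12 36 true <| .force 13 13 false <|
  .force 14 14 false <| .force 16 5 true <| .force 19 30 false <| .force 21 19 false <|
  .force 26 41 false <| .force 77 26 true <| .force 78 18 true <| .force 83 37 true <|
  .force 93 22 false <| .force 94 33 false <| .force 97 44 false <| .done 17

/-- part of the tree -/
def node106 : Cert :=
  .force 12 17 false <| .force 12 28 false <| .force 12 36 false <| .force 13 13 true <|
  .force 14 14 true <| .force 16 5 false <| .force 19 30 true <| .force 21 19 true <|
  .force 26 41 true <| .force 77 26 false <| .force 78 18 false <| .force 83 37 false <|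
  .force 176 44 true <| .force 179 22 true <| .force 183 33 true <| .done 68

/-- part of the tree -/
def node107 : Cert :=
  .force 9 16 true <| .force 9 27 true <| .force 9 38 true <| .force 18 9 false <|
  .force 18 29 false <| .force 18 42 false <| .force 23 11 false <| .force 23 21 false <|
  .force 23 34 false <| .force 25 10 false <| .force 25 23 false <| .force 25 40 false <|
  .force 74 15 false <| .force 75 25 false <| .force 76 35 false <| .force 79 20 false <|
  .force 80 39 false <| .force 81 32 false <| .force 82 24 false <| .force 84 31 false <|
  .force 85 43 false <| .split 4 node105 node106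

/-- part of the tree -/
def node108 : Cert :=
  .force 10 19 true <| .force 10 30 true <| .force 10 41 true <| .force 19 10 false <|
  .force 19 17 false <| .force 19 43 false <| .force 21 9 false <| .force 21 32 false <|
  .force 21 36 false <| .force 26 11 false <| .force 26 24 false <| .force 26 28 false <|
  .force 74 15 false <| .force 75 25 false <| .force 76 35 false <| .force 77 26 false <|
  .force 78 18 false <| .force 81 23 false <| .force 82 42 false <| .force 83 37 false <|
  .force 85 34 false <| .force 175 14 false <| .force 176 44 false <| .force 179 22 false <|
  .force 183 33 false <| .force 0 20 true <| .force 2 40 true <| .force 3 21 true <|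
  .force 4 31 true <| .force 7 29 true <| .force 8 39 true <| .force 12 4 true <|
  .force 15 5 true <| .done 33

/-- part of the tree -/
def node109 : Cert :=
  .force 11 22 true <| .force 11 33 true <| .force 11 44 true <| .force 20 11 false <|
  .force 20 18 false <| .force 20 31 false <| .force 22 10 false <| .force 22 20 false <|
  .force 22 37 false <| .force 24 9 false <| .force 24 26 false <| .force 24 39 false <|
  .force 74 15 false <| .force 75 25 false <| .force 76 35 false <| .force 77 17 false <|
  .force 78 36 false <| .force 79 29 false <| .force 80 21 false <| .force 83 28 false <|
  .force 84 40 false <| .force 0 24 true <| .force 1 34 true <| .force 4 32 true <|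
  .force 5 42 true <| .force 6 23 true <| .force 8 43 true <| .force 12 4 true <|
  .force 15 5 true <| .done 49

/-- part of the tree -/
def node110 : Cert :=
  .force 12 17 false <| .force 12 28 false <| .force 12 36 false <| .force 13 20 false <|
  .force 13 31 false <| .force 13 39 false <| .force 14 23 false <| .force 14 34 false <|
  .force 14 42 false <| .force 73 5 true <| .force 77 26 false <| .force 78 18 false <|
  .force 79 29 false <| .force 80 21 false <| .force 81 32 false <| .force 82 24 false <|
  .force 83 37 false <| .force 84 40 false <| .force 85 43 false <| .force 0 15 true <|
  .force 1 25 true <| .force 2 35 true <| .force 18 9 true <| .force 19 10 true <|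
  .force 20 11 true <| .done 16

/-- part of the tree -/
def node111 : Cert :=
  .force 18 29 false <| .force 18 42 false <| .force 21 32 false <| .force 21 36 false <|
  .force 24 26 false <| .force 24 39 false <| .force 74 15 true <| .force 77 17 false <|
  .force 78 18 false <| .force 79 20 false <| .force 80 21 false <| .force 81 23 false <|
  .force 82 24 false <| .force 86 35 false <| .force 87 10 false <| .force 98 25 false <|
  .force 100 11 false <| .force 1 34 true <| .force 2 40 true <| .force 4 31 true <|
  .force 5 37 true <| .force 7 28 true <| .force 8 43 true <| .done 69

/-- part of the tree -/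
def node112 : Cert :=
  .force 3 21 false <| .force 12 28 false <| .force 12 36 false <| .force 19 10 false <|
  .force 19 43 false <| .force 21 32 true <| .force 65 24 false <| .force 75 25 false <|
  .force 77 26 true <| .force 78 18 false <| .force 80 39 false <| .force 81 23 true <|
  .force 82 42 false <| .force 83 37 false <| .force 85 34 false <| .force 127 40 false <|
  .force 171 11 true <| .force 180 31 false <| .force 219 20 true <| .force 223 35 true <|
  .force 249 29 true <| .done 205

/-- part of the tree -/
def node113 : Cert :=
  .force 3 21 true <| .force 16 29 false <| .force 16 40 false <| .force 18 42 true <|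
  .force 23 11 false <| .force 23 34 false <| .force 36 23 false <| .force 76 35 false <|
  .force 77 26 false <| .force 79 20 false <| .force 80 39 true <| .force 81 32 false <|
  .force 82 24 true <| .force 84 31 false <| .force 85 43 false <| .force 116 28 false <|
  .force 162 10 true <| .force 190 37 false <| .force 224 18 true <| .force 225 25 true <|
  .force 251 36 true <| .done 137

/-- part of the tree -/
def node114 : Cert :=
  .force 74 15 false <| .split 17 node112 node113

/-- part of the tree -/
def node115 : Cert :=
  .force 73 5 false <| .split 9 node111 node114

/-- part of the tree -/
def node116 : Cert :=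
  .force 11 22 false <| .force 11 33 false <| .force 11 44 false <| .split 4 node110 node115

/-- part of the tree -/
def node117 : Cert :=
  .force 10 19 false <| .force 10 30 false <| .force 10 41 false <| .split 14 node109 node116

/-- part of the tree -/
def node118 : Cert :=
  .force 9 16 false <| .force 9 27 false <| .force 9 38 false <| .split 13 node108 node117

/-- part of the tree -/
def node119 : Cert :=
  .force 28 6 false <| .force 43 8 false <| .force 58 7 false <| .split 12 node107 node118

/-- part of the tree -/
def node120 : Cert :=
  .force 9 16 false <| .force 9 27 false <| .force 9 38 false <| .force 12 17 true <|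
  .force 12 28 true <| .force 12 36 true <| .force 15 18 false <| .force 15 26 false <|
  .force 15 37 false <| .force 19 10 false <| .force 19 30 false <| .force 19 43 false <|
  .force 21 9 false <| .force 21 19 false <| .force 21 32 false <| .force 26 11 false <|
  .force 26 24 false <| .force 26 41 false <| .force 86 35 false <| .force 87 15 false <|
  .force 88 25 false <| .force 91 40 false <| .force 92 21 false <| .force 93 22 false <|
  .force 94 33 false <| .force 96 29 false <| .force 97 44 false <| .force 0 20 true <|
  .force 1 34 true <| .force 4 31 true <| .force 5 42 true <| .force 6 23 true <|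
  .force 8 39 true <| .force 10 13 true <| .force 11 14 true <| .done 132

/-- part of the tree -/
def node121 : Cert :=
  .force 10 19 false <| .force 10 30 false <| .force 10 41 false <| .force 13 20 true <|
  .force 13 31 true <| .force 13 39 true <| .force 16 21 false <| .force 16 29 false <|
  .force 16 40 false <| .force 20 11 false <| .force 20 18 false <| .force 20 44 false <|
  .force 22 10 false <| .force 22 33 false <| .force 22 37 false <| .force 24 9 false <|
  .force 24 22 false <| .force 24 26 false <| .force 26 24 true <| .force 82 42 false <|
  .force 86 35 false <| .force 87 15 false <| .force 88 25 false <| .force 89 16 false <|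
  .force 90 27 false <| .force 93 43 false <| .fail 94

/-- part of the tree -/
def node122 : Cert :=
  .force 11 22 false <| .force 11 33 false <| .force 11 44 false <| .force 14 23 true <|
  .force 14 34 true <| .force 14 42 true <| .force 17 24 false <| .force 17 32 false <|
  .force 17 43 false <| .force 18 9 false <| .force 18 16 false <| .force 18 29 false <|
  .force 21 19 true <| .force 23 11 false <| .force 23 21 false <| .force 23 38 false <|
  .force 24 26 true <| .force 25 10 false <| .force 25 27 false <| .force 25 40 false <|
  .force 26 41 true <| .force 86 35 false <| .force 87 15 false <| .force 88 25 false <|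
  .force 89 37 false <| .force 90 18 false <| .fail 91

/-- part of the tree -/
def node123 : Cert :=
  .force 18 16 false <| .force 18 29 false <| .force 21 19 false <| .force 21 32 false <|
  .force 24 22 false <| .force 24 26 false <| .force 74 15 false <| .force 86 35 true <|
  .force 87 10 false <| .force 89 37 false <| .force 91 40 false <| .force 93 43 false <|
  .force 95 38 false <| .force 96 41 false <| .force 97 44 false <| .force 98 25 false <|
  .force 147 11 false <| .force 0 24 true <| .force 1 30 true <| .force 3 21 true <|
  .force 4 27 true <| .force 6 18 true <| .force 7 33 true <| .done 77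

/-- part of the tree -/
def node124 : Cert :=
  .force 0 15 false <| .force 0 24 false <| .force 9 27 false <| .force 9 38 false <|
  .force 18 29 false <| .force 64 21 false <| .force 87 10 false <| .force 89 37 true <|
  .force 90 18 false <| .force 92 30 false <| .force 94 33 false <| .force 95 26 false <|
  .force 96 41 false <| .force 138 32 false <| .force 217 44 false <| .force 1 25 true <|
  .force 2 40 true <| .force 3 22 true <| .force 6 19 true <| .force 8 43 true <|
  .force 20 11 true <| .done 201

/-- part of the tree -/
def node125 : Cert :=
  .force 18 29 true <| .force 37 27 false <| .force 89 37 false <| .force 90 18 false <|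
  .force 96 41 true <| .force 129 22 false <| .force 167 11 false <| .force 181 24 false <|
  .force 183 33 false <| .force 220 25 false <| .force 227 43 false <| .force 232 19 false <|
  .force 240 21 false <| .force 259 30 false <| .force 265 40 false <| .force 0 15 true <|
  .force 1 26 true <| .force 2 44 true <| .force 4 32 true <| .force 8 38 true <|
  .force 19 10 true <| .done 133

/-- part of the tree -/
def node126 : Cert :=
  .force 86 35 false <| .split 16 node124 node125

/-- part of the tree -/
def node127 : Cert :=
  .force 14 23 false <| .force 14 34 false <| .force 14 42 false <| .split 9 node123 node126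

/-- part of the tree -/
def node128 : Cert :=
  .force 13 20 false <| .force 13 31 false <| .force 13 39 false <| .split 14 node122 node127

/-- part of the tree -/
def node129 : Cert :=
  .force 12 17 false <| .force 12 28 false <| .force 12 36 false <| .split 13 node121 node128

/-- part of the tree -/
def node130 : Cert :=
  .force 29 7 false <| .force 44 6 false <| .force 59 8 false <| .force 73 5 false <|
  .split 12 node120 node129

/-- part of the tree -/
def node131 : Cert :=
  .force 15 12 false <| .force 15 26 false <| .force 15 37 false <| .force 16 13 false <|
  .force 16 29 false <| .force 16 40 false <| .force 17 14 false <| .force 17 32 false <|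
  .force 17 43 false <| .force 30 8 false <| .force 45 7 false <| .force 60 6 false <|
  .force 98 25 false <| .force 99 35 false <| .force 100 11 true <| .force 101 28 false <|
  .force 102 38 false <| .force 103 31 false <| .force 104 41 false <| .force 105 34 false <|
  .force 106 44 false <| .force 1 30 true <| .force 2 36 true <| .force 4 27 true <|
  .force 5 42 true <| .force 7 33 true <| .force 8 39 true <| .done 197

/-- part of the tree -/
def node132 : Cert :=
  .force 1 26 false <| .force 1 30 false <| .force 1 34 false <| .force 4 27 false <|
  .force 4 31 false <| .force 4 32 false <| .force 7 28 false <| .force 7 29 false <|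
  .force 7 33 false <| .force 203 35 true <| .force 204 44 false <| .force 205 42 false <|
  .force 206 43 false <| .force 207 38 false <| .force 208 36 false <| .force 209 37 false <|
  .force 210 41 false <| .force 211 39 false <| .force 212 40 false <| .force 9 12 true <|
  .force 10 13 true <| .force 11 14 true <| .force 18 6 true <| .force 21 7 true <|
  .force 24 8 true <| .done 64

/-- part of the tree -/
def node133 : Cert :=
  .force 18 29 false <| .force 18 42 false <| .force 19 30 false <| .force 19 43 false <|
  .force 20 31 false <| .force 20 44 false <| .force 111 12 true <| .force 112 13 false <|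
  .force 113 14 false <| .force 114 26 false <| .force 115 27 false <| .force 116 28 false <|
  .force 117 36 false <| .force 118 37 false <| .force 119 38 false <| .force 123 7 false <|
  .force 135 8 false <| .force 1 34 true <| .force 2 40 true <| .force 4 32 true <|
  .force 5 41 true <| .force 7 33 true <| .force 8 39 true <| .done 21

/-- part of the tree -/
def node134 : Cert :=
  .force 1 30 false <| .force 1 34 false <| .force 15 37 false <| .force 19 43 true <|
  .force 24 8 false <| .force 24 39 false <| .force 42 41 false <| .force 52 33 false <|
  .force 55 36 false <| .force 67 31 false <| .force 95 38 false <| .force 137 14 false <|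
  .force 191 13 true <| .force 204 44 true <| .force 206 28 true <| .force 207 29 false <|
  .force 210 32 false <| .force 212 40 false <| .force 255 27 true <| .force 266 42 true <|
  .force 21 7 true <| .done 37

/-- part of the tree -/
def node135 : Cert :=
  .force 15 37 true <| .force 22 7 false <| .force 22 33 false <| .force 40 39 false <|
  .force 71 44 false <| .force 83 28 false <| .force 124 13 false <| .force 156 34 false <|
  .force 206 43 false <| .force 209 31 true <| .force 212 40 false <| .force 221 27 false <|
  .force 222 42 false <| .force 240 41 false <| .force 241 32 false <| .force 1 30 true <|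
  .force 2 36 true <| .force 7 29 true <| .force 8 38 true <| .force 11 14 true <|
  .force 24 8 true <| .done 53

/-- part of the tree -/
def node136 : Cert :=
  .force 111 12 false <| .split 26 node134 node135

/-- part of the tree -/
def node137 : Cert :=
  .force 203 35 false <| .split 6 node133 node136

/-- part of the tree -/
def node138 : Cert :=
  .force 100 11 false <| .split 25 node132 node137

/-- part of the tree -/
def node139 : Cert :=
  .force 0 16 false <| .force 0 20 false <| .force 0 24 false <| .force 3 17 false <|
  .force 3 21 false <| .force 3 22 false <| .force 6 18 false <| .force 6 19 false <|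
  .force 6 23 false <| .force 74 9 false <| .force 87 10 false <| .split 5 node131 node138

/-- part of the tree -/
def node140 : Cert :=
  .force 15 12 false <| .force 15 18 false <| .force 15 37 false <| .force 16 13 false <|
  .force 16 21 false <| .force 16 40 false <| .force 17 14 false <| .force 17 24 false <|
  .force 17 43 false <| .force 30 8 false <| .force 45 7 false <| .force 60 6 false <|
  .force 98 9 true <| .force 101 16 false <| .force 103 19 false <| .force 105 22 false <|
  .force 107 36 false <| .force 108 39 false <| .force 109 42 false <| .force 0 20 true <|
  .force 2 44 true <| .force 3 17 true <| .force 5 41 true <| .force 6 23 true <|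
  .force 8 38 true <| .done 73

/-- part of the tree -/
def node141 : Cert :=
  .force 18 16 false <| .force 18 42 false <| .force 19 17 false <| .force 19 43 false <|
  .force 20 18 false <| .force 20 44 false <| .force 111 12 false <| .force 112 13 true <|
  .force 113 14 false <| .force 114 19 false <| .force 115 20 false <| .force 116 21 false <|
  .force 120 39 false <| .force 121 40 false <| .force 122 41 false <| .force 124 7 false <|
  .force 135 8 false <| .force 0 24 true <| .force 2 36 true <| .force 3 22 true <|
  .force 5 37 true <| .force 6 23 true <| .force 8 38 true <| .done 41

/-- part of the tree -/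
def node142 : Cert :=
  .force 0 20 false <| .force 0 24 false <| .force 9 12 false <| .force 9 38 false <|
  .force 13 39 true <| .force 18 42 false <| .force 24 8 false <| .force 24 22 false <|
  .force 26 41 true <| .force 40 37 false <| .force 42 43 false <| .force 49 23 false <|
  .force 57 44 false <| .force 64 21 false <| .force 70 36 false <| .force 126 7 true <|
  .force 128 18 true <| .force 194 14 true <| .force 195 17 true <| .force 196 40 true <|
  .force 197 19 false <| .done 57

/-- part of the tree -/
def node143 : Cert :=
  .force 18 42 true <| .force 41 38 false <| .force 72 40 false <| .force 82 24 false <|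
  .force 132 7 false <| .force 158 18 false <| .force 222 17 false <| .force 225 39 false <|
  .force 238 21 true <| .force 240 41 false <| .force 241 37 false <| .force 243 22 false <|
  .force 247 23 false <| .force 251 36 false <| .force 0 20 true <| .force 2 44 true <|
  .force 6 19 true <| .force 8 43 true <| .force 9 12 true <| .force 11 14 false <|
  .force 24 8 true <| .done 25

/-- part of the tree -/
def node144 : Cert :=
  .force 112 13 false <| .split 16 node142 node143

/-- part of the tree -/
def node145 : Cert :=
  .force 98 9 false <| .split 6 node141 node144

/-- part of the tree -/
def node146 : Cert :=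
  .force 1 26 false <| .force 1 30 false <| .force 1 34 false <| .force 4 27 false <|
  .force 4 31 false <| .force 4 32 false <| .force 7 28 false <| .force 7 29 false <|
  .force 7 33 false <| .force 75 10 false <| .force 88 11 false <| .force 203 35 false <|
  .split 5 node140 node145

/-- part of the tree -/
def node147 : Cert :=
  .force 3 22 false <| .force 23 7 false <| .force 23 34 false <| .force 36 23 false <|
  .force 80 39 false <| .force 92 30 false <| .force 123 35 false <| .force 143 44 false <|
  .force 151 33 false <| .force 176 19 false <| .force 178 43 true <| .force 180 31 false <|
  .force 183 41 false <| .force 229 20 false <| .force 238 42 false <| .force 0 24 true <|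
  .force 1 26 true <| .force 2 40 true <| .force 4 32 true <| .force 5 37 true <|
  .force 6 18 true <| .force 7 29 true <| .force 10 13 true <| .force 11 14 true <|
  .force 15 5 true <| .done 196

/-- part of the tree -/
def node148 : Cert :=
  .force 3 22 true <| .force 11 14 false <| .force 11 33 false <| .force 11 44 false <|
  .force 24 26 false <| .force 24 39 false <| .force 35 18 false <| .force 66 20 false <|
  .force 93 43 false <| .force 170 40 false <| .force 175 13 false <| .force 176 19 false <|
  .force 177 42 false <| .force 179 30 true <| .force 182 32 false <| .force 183 41 false <|
  .force 184 34 false <| .force 243 37 false <| .force 0 24 true <| .force 2 35 true <|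
  .force 4 31 true <| .force 6 23 true <| .force 7 29 true <| .force 15 5 false <|
  .force 21 7 true <| .done 29

/-- part of the tree -/
def node149 : Cert :=
  .force 9 16 false <| .force 9 27 false <| .force 9 38 false <| .force 12 17 false <|
  .force 12 28 false <| .force 12 36 false <| .force 31 9 false <| .force 47 10 false <|
  .force 63 11 false <| .force 111 6 false <| .force 135 8 false <| .split 21 node147 node148

/-- part of the tree -/
def node150 : Cert :=
  .force 18 9 false <| .force 19 17 true <| .force 19 30 true <| .force 19 43 true <|
  .force 20 11 false <| .force 21 7 true <| .force 22 20 true <| .force 22 33 true <|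
  .force 22 37 true <| .force 24 22 false <| .force 24 26 false <| .force 24 39 false <|
  .force 26 24 false <| .force 26 28 false <| .force 26 41 false <| .done 129

/-- part of the tree -/
def node151 : Cert :=
  .force 18 9 true <| .force 19 17 false <| .force 19 30 false <| .force 19 43 false <|
  .force 20 11 true <| .force 21 7 false <| .force 22 20 false <| .force 22 33 false <|
  .force 22 37 false <| .force 24 22 true <| .force 24 26 true <| .force 24 39 true <|
  .force 26 24 true <| .force 26 28 true <| .force 26 41 true <| .done 52

/-- part of the tree -/
def node152 : Cert :=
  .force 6 18 false <| .force 6 19 false <| .force 14 14 false <| .force 14 34 false <|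
  .force 14 42 false <| .force 36 21 false <| .force 49 16 false <| .force 81 32 false <|
  .force 180 31 false <| .force 247 38 false <| .force 4 27 true <| .force 25 8 true <|
  .force 25 10 true <| .force 25 40 true <| .force 30 5 false <| .force 32 13 false <|
  .force 37 29 false <| .force 99 35 false <| .force 106 44 false <| .force 107 36 false <|
  .split 6 node150 node151

/-- part of the tree -/
def node153 : Cert :=
  .force 21 9 false <| .force 22 10 false <| .force 23 21 true <| .force 23 34 true <|
  .force 23 38 true <| .force 24 8 true <| .force 26 24 true <| .force 26 28 true <|
  .force 26 41 true <| .force 41 42 false <| .force 42 43 false <| .force 53 30 false <|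
  .force 54 29 false <| .force 64 16 false <| .force 65 17 false <| .done 193

/-- part of the tree -/
def node154 : Cert :=
  .force 21 9 true <| .force 22 10 true <| .force 23 21 false <| .force 23 34 false <|
  .force 23 38 false <| .force 24 8 false <| .force 26 24 false <| .force 26 28 false <|
  .force 26 41 false <| .force 148 17 true <| .force 149 30 true <| .force 155 43 true <|
  .force 157 16 true <| .force 158 42 true <| .force 164 29 true <| .done 20

/-- part of the tree -/
def node155 : Cert :=
  .force 20 11 true <| .force 20 31 true <| .force 20 44 true <| .force 33 14 false <|
  .force 39 33 false <| .force 48 13 false <| .force 76 35 false <| .force 84 40 false <|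
  .force 97 32 false <| .split 7 node153 node154

/-- part of the tree -/
def node156 : Cert :=
  .force 20 11 false <| .force 20 31 false <| .force 20 44 false <| .force 4 32 true <|
  .force 13 13 true <| .force 16 21 false <| .force 16 29 false <| .force 16 40 false <|
  .force 17 14 false <| .force 17 24 false <| .force 17 43 false <| .force 21 7 false <|
  .force 21 9 false <| .force 24 8 true <| .force 25 10 false <| .force 26 28 false <|
  .force 26 41 false <| .force 69 30 false <| .force 136 35 true <| .force 138 16 true <|
  .force 140 34 true <| .force 141 42 false <| .force 146 38 false <| .force 185 33 true <|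
  .force 186 17 true <| .done 45

/-- part of the tree -/
def node157 : Cert :=
  .force 6 19 false <| .force 15 5 false <| .force 15 26 false <| .force 15 37 false <|
  .force 35 22 false <| .force 50 20 false <| .force 78 36 false <| .force 90 27 false <|
  .force 225 39 false <| .split 6 node155 node156

/-- part of the tree -/
def node158 : Cert :=
  .force 18 16 true <| .force 18 29 true <| .force 18 42 true <| .force 19 10 false <|
  .force 20 11 false <| .force 22 20 false <| .force 22 33 false <| .force 22 37 false <|
  .force 23 21 false <| .force 23 34 false <| .force 23 38 false <| .force 25 8 true <|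
  .force 114 26 true <| .force 117 22 true <| .force 120 39 true <| .done 65

/-- part of the tree -/
def node159 : Cert :=
  .force 18 16 false <| .force 18 29 false <| .force 18 42 false <| .force 19 10 true <|
  .force 20 11 true <| .force 22 20 true <| .force 22 33 true <| .force 22 37 true <|
  .force 23 21 true <| .force 23 34 true <| .force 23 38 true <| .force 25 8 false <|
  .force 40 39 false <| .force 52 26 false <| .force 66 22 false <| .done 36

/-- part of the tree -/
def node160 : Cert :=
  .force 21 9 true <| .force 21 32 true <| .force 21 36 true <| .force 38 28 false <|
  .force 45 5 false <| .force 46 14 false <| .force 86 35 false <| .force 103 31 false <|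
  .force 107 27 false <| .split 6 node158 node159

/-- part of the tree -/
def node161 : Cert :=
  .force 15 26 false <| .force 16 21 false <| .force 17 14 false <| .force 23 34 true <|
  .force 24 22 true <| .force 60 6 false <| .force 66 20 false <| .force 68 27 false <|
  .force 99 10 true <| .force 101 16 true <| .force 103 31 true <| .done 141

/-- part of the tree -/
def node162 : Cert :=
  .force 15 26 true <| .force 16 21 true <| .force 17 14 true <| .force 23 34 false <|
  .force 24 22 false <| .force 62 10 false <| .force 64 16 false <| .force 67 31 false <|
  .force 113 6 true <| .force 197 27 true <| .force 198 20 true <| .done 61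

/-- part of the tree -/
def node163 : Cert :=
  .force 21 9 false <| .force 21 32 false <| .force 21 36 false <| .force 2 35 true <|
  .force 5 37 false <| .force 5 42 false <| .force 8 38 false <| .force 8 39 false <|
  .force 12 28 true <| .force 26 8 false <| .force 26 11 false <| .force 228 33 false <|
  .force 232 29 false <| .split 5 node161 node162

/-- part of the tree -/
def node164 : Cert :=
  .force 6 19 true <| .force 10 13 false <| .force 10 30 false <| .force 10 41 false <|
  .force 34 17 false <| .force 51 24 false <| .force 91 40 false <| .force 176 44 false <|
  .force 230 43 false <| .split 7 node160 node163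

/-- part of the tree -/
def node165 : Cert :=
  .split 18 node157 node164

/-- part of the tree -/
def node166 : Cert :=
  .split 23 node152 node165

/-- part of the tree -/
def node167 : Cert :=
  .split 12 node149 node166

/-- part of the tree -/
def node168 : Cert :=
  .split 25 node146 node167

/-- part of the tree -/
def node169 : Cert :=
  .split 15 node139 node168

/-- part of the tree -/
def node170 : Cert :=
  .split 4 node130 node169

/-- part of the tree -/
def node171 : Cert :=
  .split 3 node119 node170

/-- part of the tree -/
def node172 : Cert :=
  .split 2 node104 node171

/-- part of the tree -/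
def node173 : Cert :=
  .split 1 node73 node172

/-- part of the tree -/
def node174 : Cert :=
  .split 0 node42 node173

/-- the tree -/
def tree : Cert := node174

end

end Cfsg.Agent.FischerTwins.LocalData
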