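import Cfsg.Agent.Lib.FischerTwins.Quad

/-!
Common partners of non-commuting members; members are determined by their partners.
-/

set_option autoImplicit false

namespace Cfsg.Agent.FischerTwins

open Cfsg.Agent Cfsg.Agent.Fischer Subgroup
open Cfsg.Agent.Fischer.OddCoreLocal (Ctx X)
open Cfsg.Agent.Fischer.LocalSymThree (nb nb_symm)

variable {G : Type*} [Group G] {D : Set G}

theorem mem_X_of_not {x y v : G} (hx : x ∈ D) (hy : y ∈ D) (hxy : ¬ Commute x y) (hv : v ∈ D)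
    (h1 : Commute v x) (h2 : Commute v y) : v ∈ X D x y :=
  ⟨⟨hv, fun e => hxy (e ▸ h2), h1.symm⟩, hv, fun e => hxy (e ▸ h1).symm, h2.symm⟩

namespace Hyp

variable (hH : Hyp D) [Finite G]
include hH

omit [Finite G] in
theorem X_image {x y g : G} : (fun z => g * z * g⁻¹) '' X D x y = X D (g * x * g⁻¹) (g * y * g⁻¹) :=
  hH.ctx.image_X x y g

omit [Finite G] in
theorem not_pair_move {x y x' y' : G} (hx : x ∈ D) (hy : y ∈ D) (hxy : ¬ Commute x y) (hx' : x' ∈ D)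
    (hy' : y' ∈ D) (hxy' : ¬ Commute x' y') : ∃ g : G, g * x * g⁻¹ = x' ∧ g * y * g⁻¹ = y' := by
  obtain ⟨g₀, rfl⟩ := hH.ctx.trans x hx x' hx'
  obtain ⟨m, hm, rfl⟩ := hH.ctx.trn _ hx' _ (hH.ctx.conj_mem g₀ hy) y' hy'
    (fun h => hxy ((commute_conj_iff g₀ x y).1 h)) hxy'
  refine ⟨m * g₀, ?_, by group⟩
  have hle : commClosure D (g₀ * x * g₀⁻¹) ≤ centralizer ({g₀ * x * g₀⁻¹} : Set G) :=
    (closure_le _).2 fun y hy => mem_centralizer_singleton_iff.2 hy.2.symm.eq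
  rw [show m * g₀ * x * (m * g₀)⁻¹ = m * (g₀ * x * g₀⁻¹) * m⁻¹ by group]
  exact conj_eq_self_of_commute (mem_centralizer_singleton_iff.1 (hle hm))

theorem X_card_not {x y x' y' : G} (hx : x ∈ D) (hy : y ∈ D) (hxy : ¬ Commute x y) (hx' : x' ∈ D)
    (hy' : y' ∈ D) (hxy' : ¬ Commute x' y') : (X D x y).ncard = (X D x' y').ncard := by
  obtain ⟨g, rfl, rfl⟩ := hH.not_pair_move hx hy hxy hx' hy' hxy'
  rw [← hH.X_image, Set.ncard_image_of_injective _ (fun y z h => mul_left_cancel (mul_right_cancel h))]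

theorem X_nonempty {x y : G} (hx : x ∈ D) (hy : y ∈ D) (hxy : ¬ Commute x y) : (X D x y).Nonempty := by
  obtain ⟨a, ha, hc⟩ := hH.foot_base hx hy hxy
  exact ⟨a, mem_X_of_not hx hy hxy ha.1 ha.2.2.symm hc.symm⟩

theorem X_partner {x y a : G} (hx : x ∈ D) (hy : y ∈ D) (hxy : ¬ Commute x y) (ha : a ∈ X D x y) :
    ∃ w ∈ X D x y, ¬ Commute a w := by
  obtain ⟨u, hu, hau⟩ := hH.exists_other_line hx ha.1
  obtain ⟨w, hw, hyw⟩ := hH.foot hx hy hxy hu
  exact ⟨w, mem_X_of_not hx hy hxy hw.1.1 hw.1.2.2.symm hyw.symm,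
    fun h => hau ((hw.2 a ha.1).2 h.symm).symm⟩

theorem exists_not_commute {d : G} (hd : d ∈ D) : ∃ e ∈ D, ¬ Commute d e := by
  by_contra hno
  push Not at hno
  exact TSet.ne_one hH.tset hd (hH.eq_one_of_commute hno)

theorem eq_of_same {d e : G} (hd : d ∈ D) (he : e ∈ D)
    (h : ∀ u ∈ D, Commute d u ↔ Commute e u) : d = e := by
  by_contra hne
  have hde : Commute d e := (h e he).2 (Commute.refl e)
  obtain ⟨u, hu, hn⟩ := hH.exists_other_line hd (show e ∈ nb D d from ⟨he, Ne.symm hne, hde⟩)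
  exact hn ((h u hu.1).1 hu.2.2)

end Hyp

end Cfsg.Agent.FischerTwins
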