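import Mathlib.Data.Nat.Notation

/-!
Words lowering the weight of vectors of dimension four.
-/

set_option autoImplicit false
set_option maxRecDepth 20000

namespace Cfsg.Agent.FischerTwins.ReduceData

/-- code, and the word lowering its weight -/
noncomputable def table : List (ℕ × List ℕ) := [
  (21, [85]), (22, [85, 193]), (23, [85, 129]), (25, [85, 196]), (26, [85, 144]), (27, [85, 9]),
  (29, [85, 132]), (30, [85, 13]), (31, [85, 208]), (37, [85, 208]), (38, [85, 132]),
  (39, [85, 13]), (41, [85, 129]), (42, [85]), (43, [85, 193]), (45, [85, 9]), (46, [85, 196]),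
  (47, [85, 144]), (53, [85, 144]), (54, [85, 9]), (55, [85, 196]), (57, [85, 13]),
  (58, [85, 208]), (59, [85, 132]), (61, [85, 193]), (62, [85, 129]), (63, [85]), (69, [85]),
  (70, [85, 49]), (71, [85, 33]), (73, [85, 52]), (74, [85, 208]), (75, [85, 9]), (77, [85, 36]),
  (78, [85, 13]), (79, [85, 144]), (81, [85]), (82, [85, 13]), (83, [85, 9]), (84, [85]),
  (85, [85, 9]), (86, [85, 36]), (87, [85, 36]), (88, [85, 9]), (89, [85, 33]), (90, [85, 33]),
  (91, [85]), (92, [85, 13]), (93, [85, 33]), (94, [85]), (95, [85, 49]), (97, [85, 36]),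
  (98, [85, 196]), (99, [85, 33]), (100, [85, 33]), (101, [85, 9]), (102, [85, 9]), (103, [85]),
  (104, [85, 193]), (105, [85, 13]), (106, [85, 9]), (107, [85]), (108, [85, 36]), (109, [85]),
  (110, [85]), (111, [85]), (113, [85, 52]), (114, [85, 49]), (115, [85, 132]), (116, [85, 49]),
  (117, [85, 9]), (118, [85]), (119, [85, 13]), (120, [85, 52]), (121, [85]), (122, [85]),
  (123, [85]), (124, [85, 129]), (125, [85, 9]), (126, [85]), (127, [85, 9]), (133, [85, 144]),
  (134, [85, 36]), (135, [85, 13]), (137, [85, 33]), (138, [85]), (139, [85, 49]), (141, [85, 9]),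
  (142, [85, 52]), (143, [85, 208]), (145, [85, 132]), (146, [85, 52]), (147, [85, 49]),
  (148, [85, 129]), (149, [85, 9]), (150, [85, 9]), (151, [85]), (152, [85, 49]), (153, [85, 13]),
  (154, [85, 9]), (155, [85]), (156, [85, 52]), (157, [85]), (158, [85]), (159, [85]),
  (161, [85, 9]), (162, [85]), (163, [85, 13]), (164, [85, 13]), (165, [85, 49]), (166, [85, 33]),
  (167, [85]), (168, [85]), (169, [85, 36]), (170, [85, 9]), (171, [85, 36]), (172, [85, 9]),
  (173, [85]), (174, [85, 33]), (175, [85, 33]), (177, [85, 33]), (178, [85, 36]),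
  (179, [85, 196]), (180, [85, 36]), (181, [85]), (182, [85]), (183, [85]), (184, [85, 33]),
  (185, [85]), (186, [85, 9]), (187, [85, 9]), (188, [85, 193]), (189, [85]), (190, [85, 13]),
  (191, [85, 9]), (197, [85, 208]), (198, [85, 9]), (199, [85, 52]), (201, [85, 13]),
  (202, [85, 144]), (203, [85, 36]), (205, [85, 49]), (206, [85, 33]), (207, [85]),
  (209, [85, 196]), (210, [85, 33]), (211, [85, 36]), (212, [85, 193]), (213, [85, 9]),
  (214, [85]), (215, [85, 13]), (216, [85, 36]), (217, [85]), (218, [85]), (219, [85]),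
  (220, [85, 33]), (221, [85, 9]), (222, [85]), (223, [85, 9]), (225, [85, 49]), (226, [85, 132]),
  (227, [85, 52]), (228, [85, 52]), (229, [85]), (230, [85]), (231, [85]), (232, [85, 129]),
  (233, [85]), (234, [85, 9]), (235, [85, 9]), (236, [85, 49]), (237, [85]), (238, [85, 13]),
  (239, [85, 9]), (241, [85, 13]), (242, [85, 9]), (243, [85]), (244, [85, 9]), (245, [85, 33]),
  (246, [85]), (247, [85, 33]), (248, [85, 13]), (249, [85]), (250, [85, 49]), (251, [85, 33]),
  (252, [85]), (253, [85, 36]), (254, [85, 36]), (255, [85, 9])]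

end Cfsg.Agent.FischerTwins.ReduceData
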