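import Cfsg.Agent.Lib.FischerTwins.Two
import Cfsg.Agent.Lib.FischerTwins.ReduceData
import Cfsg.Agent.Lib.FischerSolvable.Instances

/-!
Words in transvections of weight two and the vector of four ones reach every isotropic vector from one of
weight two, and every non-isotropic vector from a unit vector.
-/

set_option autoImplicit false
set_option maxRecDepth 20000

namespace Cfsg.Agent.FischerTwins

open Cfsg Cfsg.Agent Cfsg.Agent.RigidGraph.He
open Cfsg.Agent.FischerSolvable.Model (tv vec)

variable {k n : ℕ}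

/-- The action of a word of vectors, last vector first. -/
def act (L : List (Fin k → K4)) (x : Fin k → K4) : Fin k → K4 := L.foldr tv x

theorem act_append (L L' : List (Fin k → K4)) (x : Fin k → K4) : act (L ++ L') x = act L (act L' x) :=
  List.foldr_append

theorem act_add (L : List (Fin k → K4)) (x y : Fin k → K4) : act L (x + y) = act L x + act L y := by
  induction L with
  | nil => rfl
  | cons v L ih =>
    show tv v (act L (x + y)) = tv v (act L x) + tv v (act L y)
    rw [ih, tv_add]

theorem act_smul (L : List (Fin k → K4)) (c : K4) (x : Fin k → K4) : act L (c • x) = c • act L x := by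
  induction L with
  | nil => rfl
  | cons v L ih =>
    show tv v (act L (c • x)) = c • tv v (act L x)
    rw [ih, tv_smul]

theorem act_iso {L : List (Fin k → K4)} (hL : ∀ v ∈ L, hf k v v = 0) (x y : Fin k → K4) :
    hf k (act L x) (act L y) = hf k x y := by
  induction L with
  | nil => rfl
  | cons v L ih =>
    show hf k (tv v (act L x)) (tv v (act L y)) = _
    rw [tv_iso (hL v (List.mem_cons_self ..)), ih fun w hw => hL w (List.mem_cons_of_mem _ hw)]

theorem act_reverse {L : List (Fin k → K4)} (hL : ∀ v ∈ L, hf k v v = 0) (x : Fin k → K4) :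
    act L.reverse (act L x) = x := by
  induction L generalizing x with
  | nil => rfl
  | cons v L ih =>
    rw [List.reverse_cons, act_append]
    show act L.reverse (tv v (tv v (act L x))) = x
    rw [tv_tv (hL v (List.mem_cons_self ..)), ih fun w hw => hL w (List.mem_cons_of_mem _ hw)]

theorem act_tv {L : List (Fin k → K4)} (hL : ∀ v ∈ L, hf k v v = 0) (v x : Fin k → K4) :
    act L (tv v x) = tv (act L v) (act L x) := by
  rw [tv_eq, tv_eq, act_add, act_smul, act_iso hL]

theorem Par.act {v w : Fin k → K4} (h : Par v w) (L : List (Fin k → K4)) : Par (act L v) (act L w) := by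
  obtain ⟨c, hc, rfl⟩ := h
  exact ⟨c, hc, act_smul L c v⟩

/-- The number of non-zero coordinates. -/
def wt (x : Fin n → K4) : ℕ := (Finset.univ.filter fun i => x i ≠ 0).card

/-- A code of a generator. -/
def isGen (g : ℕ) : Bool := Nat.beq g 85 || decide (wt (vec 4 g) = 2 ∧ hermForm 4 K4 2 (vec 4 g) (vec 4 g) = 0)

/-- The table covers all vectors of weight three and four. -/
noncomputable def tableOK : Bool :=
  ReduceData.table.all (fun p => p.2.all isGen &&
      decide (wt ((p.2.map (vec 4)).foldr tv (vec 4 p.1)) < wt (vec 4 p.1))) &&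
    (List.range 256).all fun c => decide (wt (vec 4 c) < 3) || ReduceData.table.any fun p => Nat.beq p.1 c

theorem table_ok : tableOK = true := by decide +kernel

theorem vec_85 : vec 4 85 = (fun _ => 1) := by decide +kernel

theorem two_of_wt {v : Fin k → K4} (h : wt v = 2) (hv : hf k v v = 0) : Two v := by
  obtain ⟨i, j, hij, he⟩ := Finset.card_eq_two.1 h
  refine two_of_iso_pair hij (fun e => ?_) hv fun l h1 h2 => ?_
  · subst e
    simp [wt] at h
  · by_contra hl
    have : l ∈ Finset.univ.filter (fun i => v i ≠ 0) := by simp [hl]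
    rw [he] at this
    simp [h1, h2] at this

theorem lower_four {u : Fin 4 → K4} (h : 3 ≤ wt u) :
    ∃ L : List (Fin 4 → K4), (∀ v ∈ L, Two v ∨ v = fun _ => 1) ∧ wt (act L u) < wt u := by
  obtain ⟨c, hc, rfl⟩ := FischerSolvable.exists_code 4 u
  have ht := table_ok
  rw [tableOK, Bool.and_eq_true, List.all_eq_true, List.all_eq_true] at ht
  have hcov := ht.2 c (List.mem_range.2 hc)
  rw [Bool.or_eq_true, decide_eq_true_eq, List.any_eq_true] at hcov
  obtain ⟨p, hp, hpc⟩ := hcov.resolve_left (by omega)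
  rw [Nat.beq_eq] at hpc
  have hp' := ht.1 p hp
  rw [Bool.and_eq_true, List.all_eq_true, decide_eq_true_eq, hpc] at hp'
  refine ⟨p.2.map (vec 4), fun v hv => ?_, hp'.2⟩
  obtain ⟨g, hg, rfl⟩ := List.mem_map.1 hv
  have h2 := hp'.1 g hg
  rw [isGen, Bool.or_eq_true, Nat.beq_eq, decide_eq_true_eq] at h2
  rcases h2 with rfl | ⟨h2, h3⟩
  · exact Or.inr vec_85
  · exact Or.inl (two_of_wt h2 h3)

/-- A generator vector. -/
def Gen (hk : 4 ≤ k) (v : Fin k → K4) : Prop := Two v ∨ v = push (Fin.castLE hk) (fun _ => 1)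

theorem Gen.iso {hk : 4 ≤ k} {v : Fin k → K4} (h : Gen hk v) : hf k v v = 0 := by
  rcases h with h | rfl
  · exact h.iso
  · rw [hf_push_push (Fin.castLE_injective hk)]
    exact (show hermForm 4 K4 2 (fun _ => 1) (fun _ => 1) = 0 by decide +kernel)

theorem exists_perm_word (hk : 4 ≤ k) (σ : Equiv.Perm (Fin k)) :
    ∃ L : List (Fin k → K4), (∀ v ∈ L, Gen hk v) ∧ ∀ x, act L x = x ∘ σ := by
  induction σ using Equiv.Perm.swap_induction_on with
  | one => exact ⟨[], by simp, fun x => rfl⟩
  | swap_mul σ a b hab ih =>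
    obtain ⟨L, hL, h⟩ := ih
    refine ⟨L ++ [m2 a b 1 1], ?_, fun x => ?_⟩
    · intro v hv
      rcases List.mem_append.1 hv with hv | hv
      · exact hL v hv
      · rw [List.mem_singleton.1 hv]
        exact Or.inl (two_m2 hab one_ne_zero one_ne_zero)
    · rw [act_append, h]
      show tv (m2 a b 1 1) x ∘ σ = _
      rw [tv_swap_coord hab]
      rfl

theorem tv_push_comp {e : Fin n → Fin k} (he : Function.Injective e) (v : Fin n → K4) (x : Fin k → K4) :
    (fun i => tv (push e v) x (e i)) = tv v (fun i => x (e i)) ∧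
      ∀ l, (∀ i, e i ≠ l) → tv (push e v) x l = x l := by
  have hh : hf k x (push e v) = hf n (fun i => x (e i)) v := by rw [hf_symm, hf_push, ← hf_symm]
  refine ⟨funext fun i => ?_, fun l hl => ?_⟩
  · rw [tv_eq, tv_eq, hh]
    simp only [Pi.add_apply, Pi.smul_apply, push_apply he]
  · rw [tv_eq]
    simp [push_apply_other hl]

theorem wt_split {e : Fin n → Fin k} (he : Function.Injective e) (y : Fin k → K4) :
    wt y = wt (fun i => y (e i)) +
      ((Finset.univ.filter fun l => y l ≠ 0).filter fun l => ∀ i, e i ≠ l).card := by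
  classical
  have h := Finset.card_filter_add_card_filter_not (s := Finset.univ.filter fun l => y l ≠ 0)
    (fun l => ∀ i, e i ≠ l)
  rw [wt, ← h, add_comm]
  congr 1
  rw [wt, ← Finset.card_image_of_injective _ he]
  congr 1
  ext l
  simp only [Finset.mem_filter, Finset.mem_univ, true_and, Finset.mem_image, ne_eq, not_forall, not_not]
  constructor
  · rintro ⟨hl, i, rfl⟩
    exact ⟨i, hl, rfl⟩
  · rintro ⟨i, hi, rfl⟩
    exact ⟨hi, i, rfl⟩

theorem lower_word (hk : 4 ≤ k) {x : Fin k → K4} (h : 3 ≤ wt x) :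
    ∃ L : List (Fin k → K4), (∀ v ∈ L, Gen hk v) ∧ wt (act L x) < wt x := by
  classical
  set S := Finset.univ.filter fun i => x i ≠ 0 with hS
  obtain ⟨T, hT, hT4⟩ : ∃ T : Finset (Fin k), T.card = 4 ∧ 3 ≤ (T ∩ S).card := by
    rcases Nat.lt_or_ge S.card 4 with h4 | h4
    · obtain ⟨T, hST, -, hT⟩ := Finset.exists_subsuperset_card_eq (Finset.subset_univ S)
        (show S.card ≤ 4 by omega) (by rw [Finset.card_univ, Fintype.card_fin]; exact hk)
      exact ⟨T, hT, by rw [Finset.inter_eq_right.2 hST]; exact h⟩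
    · obtain ⟨T, hTS, hT⟩ := Finset.exists_subset_card_eq h4
      exact ⟨T, hT, by rw [Finset.inter_eq_left.2 hTS, hT]; norm_num⟩
  set e := Fin.castLE hk with he
  let f : {l // l ∈ Set.range e} ≃ {l // l ∈ T} :=
    (Equiv.ofInjective _ (Fin.castLE_injective hk)).symm.trans (T.equivFinOfCardEq hT).symm
  obtain ⟨L₁, hL₁, hact⟩ := exists_perm_word hk f.extendSubtype
  set y := x ∘ f.extendSubtype with hy
  have hwy : wt y = wt x := by
    rw [wt, wt]
    refine Finset.card_equiv f.extendSubtype fun i => ?_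
    simp [hy]
  have hu : 3 ≤ wt fun i => y (e i) := by
    refine le_trans hT4 ?_
    rw [wt]
    refine Finset.card_le_card_of_injOn (fun l => if hl : l ∈ T then T.equivFinOfCardEq hT ⟨l, hl⟩ else 0) ?_ ?_
    · intro l hl
      rw [Finset.mem_coe, Finset.mem_inter] at hl
      simp only [Finset.coe_filter, Finset.mem_univ, true_and, Set.mem_ofPred_eq, dif_pos hl.1, hy,
        Function.comp_apply]
      rw [Equiv.extendSubtype_apply_of_mem f _ ⟨_, rfl⟩]
      simp only [f, Equiv.trans_apply, he, Equiv.ofInjective_symm_apply, Equiv.symm_apply_apply]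
      simpa [hS] using hl.2
    · intro l hl l' hl' hll
      rw [Finset.mem_coe, Finset.mem_inter] at hl hl'
      simp only [dif_pos hl.1, dif_pos hl'.1] at hll
      exact congrArg Subtype.val ((T.equivFinOfCardEq hT).injective hll)
  obtain ⟨L₀, hL₀, hlow⟩ := lower_four hu
  refine ⟨L₀.map (push e) ++ L₁, ?_, ?_⟩
  · intro v hv
    rcases List.mem_append.1 hv with hv | hv
    · obtain ⟨v', hv', rfl⟩ := List.mem_map.1 hv
      rcases hL₀ v' hv' with h | rfl
      exacts [Or.inl (two_push (Fin.castLE_injective hk) h), Or.inr rfl]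
    · exact hL₁ v hv
  rw [act_append, hact, ← hwy, ← hy]
  have key : ∀ L : List (Fin 4 → K4), (fun i => act (L.map (push e)) y (e i)) = act L (fun i => y (e i)) ∧
      ∀ l, (∀ i, e i ≠ l) → act (L.map (push e)) y l = y l := by
    intro L
    induction L with
    | nil => exact ⟨rfl, fun l _ => rfl⟩
    | cons v L ih =>
      have h := tv_push_comp (Fin.castLE_injective hk) v (act (L.map (push e)) y)
      refine ⟨h.1.trans (congrArg (tv v) ih.1), fun l hl => (h.2 l hl).trans (ih.2 l hl)⟩
  rw [wt_split (e := e) (Fin.castLE_injective hk) (act _ y), wt_split (e := e) (Fin.castLE_injective hk) y, (key L₀).1]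
  have hout : ((Finset.univ.filter fun l => act (L₀.map (push e)) y l ≠ 0).filter fun l => ∀ i, e i ≠ l) =
      (Finset.univ.filter fun l => y l ≠ 0).filter fun l => ∀ i, e i ≠ l := by
    ext l
    simp only [Finset.mem_filter, Finset.mem_univ, true_and]
    exact and_congr_left fun hl => by rw [(key L₀).2 l hl]
  rw [hout]
  omega

theorem reduce (hk : 4 ≤ k) : ∀ (m : ℕ) (x : Fin k → K4), wt x = m →
    ∃ L : List (Fin k → K4), (∀ v ∈ L, Gen hk v) ∧ wt (act L x) ≤ 2 := by
  intro m
  induction m using Nat.strong_induction_on with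
  | _ m ih =>
    intro x hx
    rcases Nat.lt_or_ge (wt x) 3 with h | h
    · exact ⟨[], by simp, show wt x ≤ 2 by omega⟩
    obtain ⟨L, hL, hlt⟩ := lower_word hk h
    obtain ⟨L', hL', h'⟩ := ih _ (hx ▸ hlt) _ rfl
    exact ⟨L' ++ L, fun v hv => (List.mem_append.1 hv).elim (hL' v) (hL v), by rwa [act_append]⟩

theorem wt_cases {v : Fin k → K4} (hv0 : v ≠ 0) (h : wt v ≤ 2) :
    (hf k v v = 0 ∧ Two v) ∨ (hf k v v ≠ 0 ∧ ∃ i, ∃ c : K4, c ≠ 0 ∧ v = Pi.single i c) := by
  have h0 : wt v ≠ 0 := by
    intro e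
    rw [wt, Finset.card_eq_zero, Finset.filter_eq_empty_iff] at e
    exact hv0 (funext fun i => not_not.1 (e (Finset.mem_univ i)))
  rcases (show wt v = 1 ∨ wt v = 2 by omega) with h1 | h2
  · obtain ⟨i, hi⟩ := Finset.card_eq_one.1 h1
    have hz : ∀ l, l ≠ i → v l = 0 := fun l hl => by
      by_contra hne
      have : l ∈ Finset.univ.filter (fun i => v i ≠ 0) := by simp [hne]
      rw [hi, Finset.mem_singleton] at this
      exact hl this
    have hvi : v i ≠ 0 := fun e => hv0 (funext fun l => by
      by_cases hl : l = i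
      exacts [hl ▸ e, hz l hl])
    have e : v = Pi.single i (v i) := funext fun l => by
      by_cases hl : l = i
      · rw [hl, Pi.single_eq_same]
      · rw [Pi.single_eq_of_ne hl, hz l hl]
    refine Or.inr ⟨?_, i, v i, hvi, e⟩
    rw [e, hf_single_left, Pi.single_eq_same, K4.cube_one _ hvi]
    exact one_ne_zero
  · obtain ⟨i, j, hij, he⟩ := Finset.card_eq_two.1 h2
    have hz : ∀ l, l ≠ i → l ≠ j → v l = 0 := fun l h1 h2 => by
      by_contra hne
      have : l ∈ Finset.univ.filter (fun i => v i ≠ 0) := by simp [hne]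
      rw [he] at this
      simp [h1, h2] at this
    have hi : v i ≠ 0 := (Finset.mem_filter.1 (he.ge (by simp : i ∈ ({i, j} : Finset (Fin k))))).2
    have hj : v j ≠ 0 := (Finset.mem_filter.1 (he.ge (by simp : j ∈ ({i, j} : Finset (Fin k))))).2
    have e : v = m2 i j (v i) (v j) := funext fun l => by
      by_cases h1 : l = i
      · rw [h1, m2_apply_left hij]
      by_cases h2 : l = j
      · rw [h2, m2_apply_right hij]
      rw [m2_apply_other h1 h2, hz l h1 h2]
    have h2' : Two v := ⟨i, j, v i, v j, hij, hi, hj, e⟩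
    exact Or.inl ⟨h2'.iso, h2'⟩

theorem exists_word_iso (hk : 4 ≤ k) {p : Fin k → K4} (hp0 : p ≠ 0) (hp : hf k p p = 0) :
    ∃ (L : List (Fin k → K4)) (m : Fin k → K4), (∀ v ∈ L, Gen hk v) ∧ Two m ∧ act L m = p := by
  obtain ⟨L, hL, h⟩ := reduce hk _ p rfl
  have hiso : ∀ v ∈ L, hf k v v = 0 := fun v hv => (hL v hv).iso
  have h0 : act L p ≠ 0 := fun e => hp0 (by
    have h := act_reverse hiso p
    rw [e, ← zero_smul K4 (0 : Fin k → K4), act_smul, zero_smul] at h
    exact h.symm)
  rcases wt_cases h0 h with ⟨-, h2⟩ | ⟨hne, -⟩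
  · exact ⟨L.reverse, act L p, fun v hv => hL v (List.mem_reverse.1 hv), h2, act_reverse hiso p⟩
  · exact absurd (by rw [act_iso hiso]; exact hp) hne

theorem exists_word_single (hk : 4 ≤ k) {p : Fin k → K4} (hp : hf k p p ≠ 0) :
    ∃ L : List (Fin k → K4), (∀ v ∈ L, Gen hk v) ∧
      Par (Pi.single (Fin.castLE hk 0) 1) (act L p) := by
  obtain ⟨L, hL, h⟩ := reduce hk _ p rfl
  have hiso : ∀ v ∈ L, hf k v v = 0 := fun v hv => (hL v hv).iso
  have h0 : act L p ≠ 0 := fun e => hp (by rw [← act_iso hiso, e, hf_zero_left])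
  rcases wt_cases h0 h with ⟨h1, -⟩ | ⟨-, i, c, hc, he⟩
  · exact absurd ((act_iso hiso p p).symm.trans h1) hp
  set z := Fin.castLE hk 0
  by_cases hiz : i = z
  · refine ⟨L, hL, c, hc, ?_⟩
    rw [he, hiz, ← Pi.single_smul, smul_eq_mul, mul_one]
  refine ⟨m2 z i 1 1 :: L, fun v hv => ?_, c, hc, ?_⟩
  · rcases List.mem_cons.1 hv with rfl | hv
    exacts [Or.inl (two_m2 (Ne.symm hiz) one_ne_zero one_ne_zero), hL v hv]
  · show tv (m2 z i 1 1) (act L p) = _
    rw [he, tv_swap_coord (Ne.symm hiz), ← Pi.single_smul, smul_eq_mul, mul_one]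
    funext l
    rw [Function.comp_apply]
    by_cases hl : l = z
    · subst hl
      rw [Equiv.swap_apply_left, Pi.single_eq_same, Pi.single_eq_same]
    · rw [Pi.single_eq_of_ne hl]
      by_cases hl2 : l = i
      · subst hl2
        rw [Equiv.swap_apply_right, Pi.single_eq_of_ne (Ne.symm hl)]
      · rw [Equiv.swap_apply_of_ne_of_ne hl hl2, Pi.single_eq_of_ne hl2]

end Cfsg.Agent.FischerTwins
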