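import Cfsg.Agent.Lib.FischerTwins.Frame
import Cfsg.Agent.Lib.FischerTwins.Reduce

/-!
Every isotropic vector of a frame is the vector of a member whose conjugation is its transvection.
-/

set_option autoImplicit false

namespace Cfsg.Agent.FischerTwins

open Cfsg Cfsg.Agent Cfsg.Agent.Fischer Subgroup Cfsg.Agent.RigidGraph.He
open Cfsg.Agent.FischerSolvable.Model (tv)
open Cfsg.Agent.Fischer.LocalSymThree (nb nb_symm)

variable {G : Type*} [Group G] {D : Set G}

namespace Frame

variable {B : Base D} {k : ℕ} (F : Frame B k)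

open Classical in
/-- The member of a generating vector. -/
noncomputable def sel (v : Fin k → K4) : G := if Two v then F.M v else B.T ones

/-- The product along a word. -/
noncomputable def el (L : List (Fin k → K4)) : G := (L.map F.sel).prod

theorem sel_mem {v : Fin k → K4} : F.sel v ∈ D := by
  classical
  by_cases h : Two v
  · rw [sel, if_pos h]; exact F.mem v h
  · rw [sel, if_neg h]; exact B.mem _ ones_ne ones_iso

/-- `x` is the member at the point `p`. -/
structure IsPt (p : Fin k → K4) (x : G) : Prop where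
  mem : x ∈ D
  comm : ∀ d ∈ D, Commute d x ↔ hf k p (F.proj d) = 0
  conj : ∀ d ∈ D, Par (tv p (F.proj d)) (F.proj (x * d * x))
  vec : Par p (F.proj x)

variable (hH : Hyp D) [Finite G] (h5 : ∀ p ∈ D, ∀ q ∈ nb D p, (Line D p q).ncard = 5)
include hH h5

theorem proj_sel {d : G} (hd : d ∈ D) {v : Fin k → K4} (hv : Gen F.hk v) :
    Par (tv v (F.proj d)) (F.proj (F.sel v * d * F.sel v)) := by
  classical
  rcases hv with hv | rfl
  · rw [sel, if_pos hv]
    exact F.proj_conj_M hH h5 hd hv
  · by_cases h : Two (push (Fin.castLE F.hk) (fun _ : Fin 4 => (1 : K4)))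
    · exfalso
      obtain ⟨i, j, a, b, hij, ha, hb, he⟩ := h
      obtain ⟨l, hl⟩ : ∃ l : Fin 4, Fin.castLE F.hk l ≠ i ∧ Fin.castLE F.hk l ≠ j := by
        by_contra hno
        push Not at hno
        have : ∀ l : Fin 4, (Fin.castLE F.hk l : Fin k).1 = i.1 ∨ (Fin.castLE F.hk l : Fin k).1 = j.1 :=
          fun l => by
            by_cases h1 : Fin.castLE F.hk l = i
            exacts [Or.inl (by rw [h1]), Or.inr (by rw [hno l h1])]
        have h0 := this 0; have h1 := this 1; have h2 := this 2
        simp only [Fin.val_castLE, Fin.val_zero, Fin.val_one, Fin.val_two] at h0 h1 h2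
        omega
      have := congrFun he (Fin.castLE F.hk l)
      rw [push_apply (Fin.castLE_injective F.hk), m2_apply_other hl.1 hl.2] at this
      exact one_ne_zero this
    · rw [sel, if_neg h]
      exact F.proj_conj_W hH h5 hd

omit hH h5 in
theorem el_mem {L : List (Fin k → K4)} (hT : IsThreeTranspositionGroup D) (d : G) (hd : d ∈ D) :
    F.el L * d * (F.el L)⁻¹ ∈ D := hT.2.1 _ d hd

theorem proj_el : ∀ (L : List (Fin k → K4)), (∀ v ∈ L, Gen F.hk v) → ∀ d ∈ D,
    Par (act L (F.proj d)) (F.proj (F.el L * d * (F.el L)⁻¹))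
  | [], _, d, _ => by simp only [el, List.map_nil, List.prod_nil, one_mul, inv_one, mul_one]; exact Par.refl _
  | v :: L, hL, d, hd => by
    have ih := proj_el L (fun w hw => hL w (List.mem_cons_of_mem _ hw)) d hd
    have hd' := F.el_mem hH.ctx.tg (L := L) d hd
    have e : F.el (v :: L) * d * (F.el (v :: L))⁻¹ = F.sel v * (F.el L * d * (F.el L)⁻¹) * F.sel v := by
      rw [el, List.map_cons, List.prod_cons, mul_inv_rev, TSet.inv hH.tset F.sel_mem]
      simp only [el, mul_assoc]
    rw [e]
    exact (ih.tv v).trans (F.proj_sel hH h5 hd' (hL v (List.mem_cons_self ..)))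

/-- Every isotropic point has a member. -/
theorem exists_pt {p : Fin k → K4} (hp0 : p ≠ 0) (hp : hf k p p = 0) : ∃ x, F.IsPt p x := by
  obtain ⟨L, m, hL, hm, rfl⟩ := exists_word_iso F.hk hp0 hp
  have hiso : ∀ v ∈ L, hf k v v = 0 := fun v hv => (hL v hv).iso
  have hMm := F.mem m hm
  set g := F.el L with hg
  have hback : ∀ d ∈ D, Par (act L (F.proj (g⁻¹ * d * g))) (F.proj d) := by
    intro d hd
    have := F.proj_el hH h5 L hL _ (show g⁻¹ * d * g ∈ D by simpa using hH.ctx.conj_mem g⁻¹ hd)
    rwa [← hg, show g * (g⁻¹ * d * g) * g⁻¹ = d by group] at this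
  refine ⟨g * F.M m * g⁻¹, hH.ctx.conj_mem g hMm, fun d hd => ?_, fun d hd => ?_, ?_⟩
  · have hd' : g⁻¹ * d * g ∈ D := by simpa using hH.ctx.conj_mem g⁻¹ hd
    rw [← commute_conj_iff g⁻¹, inv_inv, show g⁻¹ * (g * F.M m * g⁻¹) * g = F.M m by group,
      F.proj_spec hH h5 hd' hm, (hback d hd).hf_right, act_iso hiso]
  · have hd' : g⁻¹ * d * g ∈ D := by simpa using hH.ctx.conj_mem g⁻¹ hd
    have h1 := (F.proj_conj_M hH h5 hd' hm).act L
    have h2 := F.proj_el hH h5 L hL _ (conj_D hH hMm hd')
    rw [← hg, show g * (F.M m * (g⁻¹ * d * g) * F.M m) * g⁻¹ =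
      g * F.M m * g⁻¹ * d * (g * F.M m * g⁻¹) by group] at h2
    have h3 := h1.trans h2
    rw [act_tv hiso] at h3
    exact ((hback d hd).symm.tv _).trans h3
  · exact ((F.proj_M hH h5 hm).act L).trans (F.proj_el hH h5 L hL _ hMm)

/-- Two members at isotropic points commute iff the vectors are orthogonal. -/
theorem pt_commute {p q : Fin k → K4} {x y : G} (hx : F.IsPt p x) (hy : F.IsPt q y) :
    Commute x y ↔ hf k p q = 0 := by
  rw [hy.comm x hx.mem, hx.vec.hf_right, hf_zero_iff]

end Frame

end Cfsg.Agent.FischerTwins
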