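import Cfsg.Agent.Lib.FischerTwins.Foot
import Cfsg.Agent.Lib.FischerSolvable.Lines

/-!
Lines have at most five points, and the product of the five points of a line is trivial.
-/

set_option autoImplicit false

namespace Cfsg.Agent.FischerTwins

open Cfsg.Agent Cfsg.Agent.Fischer Subgroup
open Cfsg.Agent.FischerSolvable (qq not_commute_third)
open Cfsg.Agent.Fischer.OddCoreLocal (Ctx X)
open Cfsg.Agent.Fischer.LocalSymThree (nb nb_symm)

variable {G : Type*} [Group G] {D : Set G}

theorem qq_comm {u a b : G} (hab : Commute a b) : qq u a b = qq u b a := by rw [qq, qq, hab.eq]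

namespace Hyp

variable (hH : Hyp D) [Finite G]
include hH

theorem exists_other_line {p q : G} (hp : p ∈ D) (hq : q ∈ nb D p) : ∃ u ∈ nb D p, ¬ Commute q u := by
  by_contra hno
  push Not at hno
  obtain ⟨v, hv, ht⟩ := hH.twin p hp q hq
  have hc : ∀ a ∈ nb D p, ∀ b ∈ nb D p, Commute a b := by
    intro a ha b hb
    obtain ⟨g, hg, rfl⟩ := hH.ctx.trc p hp q hq a ha
    have hgp := OddCoreLocal.commute_of_mem_closure_nb hg
    have hb' : g⁻¹ * b * g ∈ nb D p := by
      have := hH.ctx.nb_conj g⁻¹ hb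
      rwa [inv_inv, mul_assoc g⁻¹ p g, ← hgp.eq, inv_mul_cancel_left] at this
    rw [← commute_conj_iff g⁻¹, inv_inv, show g⁻¹ * (g * q * g⁻¹) * g = q by group]
    exact hno _ hb'
  obtain ⟨g, hg, rfl⟩ := hH.ctx.trc p hp q hq v ht.1
  refine hv (conj_eq_self_of_commute ?_)
  have : closure (nb D p) ≤ centralizer ({q} : Set G) :=
    (closure_le _).2 fun y hy => mem_centralizer_singleton_iff.2 (hc q hq y hy).symm.eq
  exact mem_centralizer_singleton_iff.1 (this hg)

omit [Finite G] in
theorem qq_mem {u a b : G} (hu : u ∈ D) (ha : a ∈ D) (hb : b ∈ D) (hab : Commute a b) (hne : a ≠ b)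
    (hua : ¬ Commute u a) (hub : ¬ Commute u b) : qq u a b ∈ nb D u := by
  refine ⟨hH.ctx.tg.2.1 _ u hu, fun h => ?_, TSet.string_commute hH.tset ha hu hb hua hub hab⟩
  exact hua ((TSet.commute_mul_iff hH.tset ha hb hu hne hab).1
    (OddCoreLocal.commute_conj_self_iff.1 h).symm).1

omit [Finite G] in
theorem qq_inj {u a b b' : G} (hu : u ∈ D) (hb : b ∈ D) (hb' : b' ∈ D)
    (hbb : Commute b b') (hub : ¬ Commute u b) (h : qq u a b = qq u a b') : b = b' := by
  by_contra hne
  refine hub ((TSet.commute_mul_iff hH.tset hb hb' hu hne hbb).1 ?_).1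
  have h1 : b * u * b = b' * u * b' := by
    have h' := congrArg (fun z => a⁻¹ * z * a) h
    simp only [qq] at h'
    rw [show a⁻¹ * (a * b * u * (a * b)⁻¹) * a = b * u * b⁻¹ by group,
      show a⁻¹ * (a * b' * u * (a * b')⁻¹) * a = b' * u * b'⁻¹ by group,
      TSet.inv hH.tset hb, TSet.inv hH.tset hb'] at h'
    exact h'
  show u * (b * b') = b * b' * u
  calc u * (b * b') = b * (b * u * b) * b' := by
        simp only [← mul_assoc, TSet.sq hH.tset hb, one_mul]
    _ = b * (b' * u * b') * b' := by rw [h1]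
    _ = b * b' * u := by simp only [mul_assoc, TSet.sq hH.tset hb', mul_one]

variable {p q : G} (hp : p ∈ D) (hq : q ∈ nb D p)
include hp hq

theorem qq_line {u f a b : G} (hu : u ∈ D) (hf : f ∈ Line D p q) (ha : a ∈ Line D p q)
    (hb : b ∈ Line D p q) (huf : Commute u f) (hua : ¬ Commute u a) (hub : ¬ Commute u b) :
    qq u a b ∈ Line D u f := by
  have hfu : u ∈ nb D f := ⟨hu, fun e => hua (e ▸ line_clique hp hq hf ha), huf.symm⟩
  have haf : a ≠ f := fun e => hua (e ▸ huf)
  obtain ⟨han, he⟩ := hH.line_eq hp hq hf ha haf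
  have ht : Twin D f a b := (hH.twin_iff_line hf.1 han).2 ⟨he.symm ▸ hb, fun e => hub (e ▸ huf)⟩
  have := hH.pair f hf.1 a b han ht u hfu
  rw [line_comm]
  exact ((hH.twin_iff_line hf.1 hfu).1 this).1

theorem qq_surj {u a c d : G} (hu : u ∈ D) (ha : a ∈ Line D p q) (hc : c ∈ Line D p q)
    (hd : d ∈ Line D p q) (hua : ¬ Commute u a) (huc : ¬ Commute u c) (hud : ¬ Commute u d)
    (hcd : c ≠ d) : ∃ b ∈ Line D p q, ¬ Commute u b ∧ b ≠ a ∧ qq u a b = qq u c d := by
  have cl := fun {x y : G} (hx : x ∈ Line D p q) (hy : y ∈ Line D p q) => line_clique hp hq hx hy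
  obtain ⟨f, hf, huf⟩ := hH.exists_foot hp hq hu
  have hune : u ≠ f := fun e => hua (e ▸ cl hf ha)
  have hfu : f ∈ nb D u := ⟨hf.1, hune.symm, huf⟩
  set K : Set G := Line D p q \ {f} with hK
  have hKu : ∀ v ∈ K, ¬ Commute u v := fun v hv h =>
    hv.2 (hH.foot_unique hp hq hu ha hua hv.1 hf h huf)
  have hKm : ∀ {v : G}, v ∈ Line D p q → ¬ Commute u v → v ∈ K := fun hv h =>
    ⟨hv, fun e => h (e ▸ huf)⟩
  have haK : a ∈ K := hKm ha hua
  set I : Set G := (fun b => qq u a b) '' (K \ {a}) with hI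
  set W : Set G := Line D u f \ {u, f} with hW
  have hmem : ∀ {r t : G}, r ∈ K → t ∈ K → r ≠ t → qq u r t ∈ W := by
    intro r t hr ht hrt
    have h1 := hH.qq_mem hu hr.1.1 ht.1.1 (cl hr.1 ht.1) hrt (hKu r hr) (hKu t ht)
    refine ⟨hH.qq_line hp hq hu hf hr.1 ht.1 huf (hKu r hr) (hKu t ht), ?_⟩
    rintro (e | e)
    · exact h1.2.1 e
    · refine hune ?_
      have e2 : r * t * f * (r * t)⁻¹ = f :=
        conj_eq_self_of_commute (((cl hf hr.1).mul_right (cl hf ht.1)).symm)
      exact mul_left_cancel (mul_right_cancel (e.trans e2.symm))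
  have hsub : I ⊆ W := by
    rintro _ ⟨b, ⟨hb, hba⟩, rfl⟩
    exact hmem haK hb (Ne.symm hba)
  have hI3 : I.ncard = K.ncard - 1 := by
    rw [hI, Set.InjOn.ncard_image ?_, Set.ncard_sdiff_singleton_of_mem haK]
    rintro b₁ ⟨hb₁, -⟩ b₂ ⟨hb₂, -⟩ h
    exact hH.qq_inj hu hb₁.1.1 hb₂.1.1 (cl hb₁.1 hb₂.1) (hKu b₁ hb₁) h
  have hK1 : K.ncard = (Line D p q).ncard - 1 := Set.ncard_sdiff_singleton_of_mem hf
  have hW2 : W.ncard = (Line D p q).ncard - 2 := by
    rw [hW, Set.ncard_sdiff ?_ (Set.toFinite _), Set.ncard_pair hune,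
      hH.ncard_line_eq hu hfu hp hq]
    simp only [Set.insert_subset_iff, Set.singleton_subset_iff]
    exact ⟨left_mem_line hu, right_mem_line hf.1⟩
  have hIW : I = W := Set.eq_of_subset_of_ncard_le hsub (by omega) (Set.toFinite _)
  have : qq u c d ∈ I := hIW ▸ hmem (hKm hc huc) (hKm hd hud) hcd
  obtain ⟨b, ⟨hb, hba⟩, he⟩ := this
  exact ⟨b, hb.1, hKu b hb, hba, he⟩

/-- The fourth member of a quadruple. -/
theorem quad {u a b c : G} (hu : u ∈ D) (ha : a ∈ Line D p q) (hb : b ∈ Line D p q)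
    (hc : c ∈ Line D p q) (hua : ¬ Commute u a) (hub : ¬ Commute u b) (huc : ¬ Commute u c)
    (hab : a ≠ b) (hac : a ≠ c) (hbc : b ≠ c) :
    ∃ d ∈ Line D p q, ¬ Commute u d ∧ d ≠ a ∧ d ≠ b ∧ d ≠ c ∧ qq u c d = qq u a b := by
  have cl := fun {x y : G} (hx : x ∈ Line D p q) (hy : y ∈ Line D p q) => line_clique hp hq hx hy
  obtain ⟨d, hd, hud, hdc, he⟩ := hH.qq_surj hp hq hu hc ha hb huc hua hub hab
  refine ⟨d, hd, hud, ?_, ?_, hdc, he⟩
  · rintro rfl
    rw [qq_comm (cl hc hd)] at he
    exact hbc (hH.qq_inj hu hc.1 hb.1 (cl hc hb) huc he).symm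
  · rintro rfl
    rw [qq_comm (cl hc hd), qq_comm (cl ha hd)] at he
    exact hac (hH.qq_inj hu hc.1 ha.1 (cl hc ha) huc he).symm

theorem ncard_line_le : (Line D p q).ncard ≤ 5 := by
  by_contra hbig
  push Not at hbig
  have cl := fun {x y : G} (hx : x ∈ Line D p q) (hy : y ∈ Line D p q) => line_clique hp hq hx hy
  obtain ⟨u, hu, hqu⟩ := hH.exists_other_line hp hq
  have hpl : p ∈ Line D p q := left_mem_line hp
  have hql : q ∈ Line D p q := right_mem_line hq.1
  have hK : ∀ v ∈ Line D p q, v ≠ p → ¬ Commute u v := fun v hv hvp h =>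
    hvp (hH.foot_unique hp hq hu.1 hql (fun e => hqu e.symm) hv hpl h hu.2.2.symm)
  set L' := Line D p q \ {p} with hL'
  have hc' : 4 < L'.ncard := by
    rw [hL', Set.ncard_sdiff_singleton_of_mem hpl]; omega
  obtain ⟨a, ⟨ha, hap⟩⟩ : L'.Nonempty := Set.nonempty_of_ncard_ne_zero (by omega)
  have pick : ∀ T : Finset G, T.card ≤ 4 → ∃ v ∈ Line D p q, v ≠ p ∧ v ∉ T := by
    intro T hT
    by_contra hno
    push Not at hno
    have := Set.ncard_le_ncard (s := L') (t := (T : Set G)) (fun v hv => hno v hv.1 hv.2)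
      (Set.toFinite _)
    rw [Set.ncard_coe_finset] at this
    omega
  classical
  obtain ⟨b, hb, hbp, hba⟩ := pick {a} (by simp)
  simp only [Finset.mem_singleton] at hba
  obtain ⟨c, hc, hcp, hcab⟩ := pick {a, b} (by exact le_trans Finset.card_le_two (by omega))
  simp only [Finset.mem_insert, Finset.mem_singleton, not_or] at hcab
  obtain ⟨hca, hcb⟩ := hcab
  obtain ⟨d, hd, hud, hda, hdb, hdc, hde⟩ := hH.quad hp hq hu.1 ha hb hc (hK a ha hap) (hK b hb hbp)
    (hK c hc hcp) (Ne.symm hba) (Ne.symm hca) (Ne.symm hcb)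
  obtain ⟨g, hg, hgp, hgT⟩ := pick {a, b, c, d} Finset.card_le_four
  simp only [Finset.mem_insert, Finset.mem_singleton, not_or] at hgT
  obtain ⟨hga, hgb, hgc, hgd⟩ := hgT
  set z := a * b * (c * d) with hz
  have hab2 : (a * b) * (a * b) = 1 := by
    rw [mul_assoc, ← mul_assoc b a b, (cl hb ha).eq, mul_assoc a b b, TSet.sq hH.tset hb.1, mul_one,
      TSet.sq hH.tset ha.1]
  have hzu : z * u * z⁻¹ = u := by
    rw [hz, show a * b * (c * d) * u * (a * b * (c * d))⁻¹ = a * b * qq u c d * (a * b)⁻¹ by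
        rw [qq]; group, hde, qq,
      show a * b * (a * b * u * (a * b)⁻¹) * (a * b)⁻¹ = (a * b) * (a * b) * u * ((a * b) * (a * b))⁻¹ by
        group, hab2, one_mul, inv_one, mul_one]
  -- a second line through `u`
  have hpn : p ∈ nb D u := nb_symm hp hu
  obtain ⟨v, hv, hpv⟩ := hH.exists_other_line hu.1 hpn
  have hum : u ∈ Line D u v := left_mem_line hu.1
  have footM : ∀ w ∈ Line D p q, w ≠ p → ∃ m ∈ Line D u v, Commute w m ∧
      ∀ y ∈ Line D p q, y ≠ w → ¬ Commute m y := by
    intro w hw hwp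
    obtain ⟨m, hm, hwm⟩ := hH.exists_foot hu.1 hv hw.1
    have hmu : m ≠ u := fun e => hK w hw hwp (e ▸ hwm.symm)
    refine ⟨m, hm, hwm, fun y hy hyw h => hpv ?_⟩
    have hmp : Commute m p := hH.all_of_two hp hq hw hy hyw hm.1 hwm.symm h hpl
    exact hH.all_of_two hu.1 hv hum hm hmu hp hu.2.2 hmp.symm (right_mem_line hv.1)
  obtain ⟨m, hm, ham, hmK⟩ := footM a ha hap
  obtain ⟨n, hn, hgn, hnK⟩ := footM g hg hgp
  have hmD := hm.1
  have hnD := hn.1
  -- the image of `n` commutes with `n`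
  have hn' : Commute n (z * n * z⁻¹) := by
    obtain ⟨d', hd', hnd', -, -, hd'c, he⟩ := hH.quad hp hq hnD ha hb hc (hnK a ha (Ne.symm hga))
      (hnK b hb (Ne.symm hgb)) (hnK c hc (Ne.symm hgc)) (Ne.symm hba) (Ne.symm hca) (Ne.symm hcb)
    have e : z * n * z⁻¹ = d * d' * n * (d * d')⁻¹ := by
      have hzz : z = d * c * (a * b) := by
        rw [hz, (cl hc hd).eq, (((cl ha hd).mul_left (cl hb hd)).mul_right
          ((cl ha hc).mul_left (cl hb hc))).eq]
      rw [hzz, show d * c * (a * b) * n * (d * c * (a * b))⁻¹ = d * c * qq n a b * (d * c)⁻¹ by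
        rw [qq]; group, ← he, qq, show d * c * (c * d' * n * (c * d')⁻¹) * (d * c)⁻¹ =
          d * (c * c) * d' * n * (d * (c * c) * d')⁻¹ by group, TSet.sq hH.tset hc.1, mul_one]
    rw [e]
    by_cases hdd : d = d'
    · subst hdd
      rw [TSet.sq hH.tset hd.1, one_mul, inv_one, mul_one]
    · exact TSet.string_commute hH.tset hd.1 hnD hd'.1 (hnK d hd (Ne.symm hgd)) hnd' (cl hd hd')
  -- the image of `m` does not
  have hm' : ¬ Commute m (z * m * z⁻¹) := by
    obtain ⟨d', hd', hmd', -, -, -, he⟩ := hH.quad hp hq hmD hb hc hd (hmK b hb hba)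
      (hmK c hc hca) (hmK d hd hda) (Ne.symm hcb) (Ne.symm hdb) (Ne.symm hdc)
    have e : z * m * z⁻¹ = d' * m * d'⁻¹ := by
      have hzz : z = d * (b * c) * a := by
        rw [hz, mul_assoc a b, ← mul_assoc b c d, ((cl hb hd).mul_left (cl hc hd)).eq,
          ((cl ha hd).mul_right ((cl ha hb).mul_right (cl ha hc))).eq]
      rw [hzz, show d * (b * c) * a * m * (d * (b * c) * a)⁻¹ = d * (b * c) * (a * m * a⁻¹) * (d * (b * c))⁻¹ by
        group, conj_eq_self_of_commute ham,
        show d * (b * c) * m * (d * (b * c))⁻¹ = d * qq m b c * d⁻¹ by rw [qq]; group, ← he, qq,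
        show d * (d * d' * m * (d * d')⁻¹) * d⁻¹ = (d * d) * d' * m * ((d * d) * d')⁻¹ by group,
        TSet.sq hH.tset hd.1, one_mul]
    rw [e]
    exact not_commute_third hH.tset hd'.1 hmD fun h => hmd' h.symm
  -- but the second line and its image commute
  have hnu : u ≠ n := fun h => hK g hg hgp (h ▸ hgn.symm)
  set n' := z * n * z⁻¹ with hn'def
  have hun : Commute u n := line_clique hu.1 hv hum hn
  have hn'n : n' ∈ nb D u := by
    refine ⟨hH.ctx.tg.2.1 z n hnD, fun h => hnu (mul_left_cancel (mul_right_cancel (hzu.trans h.symm))), ?_⟩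
    have := (commute_conj_iff z u n).2 hun
    rwa [hzu] at this
  have hm'L : z * m * z⁻¹ ∈ Line D u n' := by
    obtain ⟨-, he⟩ := hH.line_eq hu.1 hv hum hn hnu.symm
    have := line_conj hH.ctx z (he.symm ▸ hm : m ∈ Line D u n)
    rwa [hzu] at this
  refine hm' (hm'L.2 m ⟨hmD, line_clique hu.1 hv hm hum, ?_⟩)
  exact (hH.all_of_two hu.1 hv hum hn hnu.symm hn'n.1 hn'n.2.2.symm hn'.symm hm).symm

/-- The product of the five points of a line is trivial. -/
theorem prod_five (h5 : (Line D p q).ncard = 5) {x a b c d : G} (hx : x ∈ Line D p q)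
    (ha : a ∈ Line D p q) (hb : b ∈ Line D p q) (hc : c ∈ Line D p q) (hd : d ∈ Line D p q)
    (hcard : ({x, a, b, c, d} : Set G).ncard = 5) : x * a * b * c * d = 1 := by
  have hall : Line D p q = {x, a, b, c, d} := by
    refine (Set.eq_of_subset_of_ncard_le ?_ (by omega) (Set.toFinite _)).symm
    simp only [Set.insert_subset_iff, Set.singleton_subset_iff]
    exact ⟨hx, ha, hb, hc, hd⟩
  have cl := fun {s t : G} (hs : s ∈ Line D p q) (ht : t ∈ Line D p q) => line_clique hp hq hs ht
  have key : ∀ u ∈ D, ∀ w ∈ Line D p q, ¬ Commute u w → ∀ f a b c d : G, Commute u f →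
      Line D p q = {f, a, b, c, d} → Commute (f * a * b * c * d) u := by
    intro u hu w hw huw f a b c d huf hs
    have mf : f ∈ Line D p q := by simp [hs]
    have ma : a ∈ Line D p q := by simp [hs]
    have mb : b ∈ Line D p q := by simp [hs]
    have mc : c ∈ Line D p q := by simp [hs]
    have md : d ∈ Line D p q := by simp [hs]
    have hne : ∀ {s t : G} (l : List G), l.length = 3 → (∀ v ∈ ({f, a, b, c, d} : Set G), v = s ∨ v ∈ l) →
        s = t → False := by
      intro s t l hl hcov _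
      classical
      have hle : ({f, a, b, c, d} : Set G) ⊆ ((s :: l).toFinset : Set G) := by
        intro v hv
        simpa using hcov v hv
      have := Set.ncard_le_ncard hle (Set.toFinite _)
      rw [Set.ncard_coe_finset, ← hs, h5] at this
      have := this.trans (List.toFinset_card_le _)
      simp [hl] at this
    have hfa : f ≠ a := fun e => hne [b, c, d] rfl (by simp [e]) e
    have hfb : f ≠ b := fun e => hne [a, c, d] rfl (by simp [e]) e
    have hfc : f ≠ c := fun e => hne [a, b, d] rfl (by simp [e]) e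
    have hab : a ≠ b := fun e => hne (s := f) (t := f) [b, c, d] rfl (by simp [e]) rfl
    have hac : a ≠ c := fun e => hne (s := f) (t := f) [b, c, d] rfl (by simp [e]) rfl
    have hbc : b ≠ c := fun e => hne (s := f) (t := f) [a, c, d] rfl (by simp [e]) rfl
    have hK : ∀ v ∈ Line D p q, f ≠ v → ¬ Commute u v := fun v hv hfv h =>
      hfv (hH.foot_unique hp hq hu hw huw mf hv huf h)
    obtain ⟨d', hd', hud', h1, h2, h3, he⟩ := hH.quad hp hq hu ma mb mc (hK a ma hfa) (hK b mb hfb)
      (hK c mc hfc) hab hac hbc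
    have : d' = d := by
      rw [hs] at hd'
      simp only [Set.mem_insert_iff, Set.mem_singleton_iff] at hd'
      rcases hd' with e | e | e | e | e
      exacts [absurd (e ▸ huf) hud', absurd e h1, absurd e h2, absurd e h3, e]
    rw [this] at he
    have h4 : Commute (a * b * (c * d)) u := by
      refine OddCoreLocal.commute_conj_self_iff.1 ?_
      rw [show a * b * (c * d) * u * (a * b * (c * d))⁻¹ = a * b * qq u c d * (a * b)⁻¹ by
          rw [qq]; group, he, qq,
        show a * b * (a * b * u * (a * b)⁻¹) * (a * b)⁻¹ =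
          (a * b) * (a * b) * u * ((a * b) * (a * b))⁻¹ by group]
      have : a * b * (a * b) = 1 := by
        rw [mul_assoc, ← mul_assoc b a b, (cl mb ma).eq, mul_assoc a b b, TSet.sq hH.tset mb.1,
          mul_one, TSet.sq hH.tset ma.1]
      rw [this, one_mul, inv_one, mul_one]
    rw [show f * a * b * c * d = f * (a * b * (c * d)) by group]
    exact huf.symm.mul_left h4
  refine hH.eq_one_of_commute fun u hu => ?_
  by_cases hul : ∀ w ∈ Line D p q, Commute u w
  · exact (((((hul x hx).symm).mul_left (hul a ha).symm).mul_left (hul b hb).symm).mul_left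
      (hul c hc).symm).mul_left (hul d hd).symm
  push Not at hul
  obtain ⟨w, hw, huw⟩ := hul
  obtain ⟨f, hf, huf⟩ := hH.exists_foot hp hq hu
  rw [hall] at hf
  simp only [Set.mem_insert_iff, Set.mem_singleton_iff] at hf
  rcases hf with rfl | rfl | rfl | rfl | rfl
  · exact key u hu w hw huw f a b c d huf hall
  · rw [show x * f * b * c * d = f * x * b * c * d by rw [(cl hx ha).eq]]
    exact key u hu w hw huw f x b c d huf (hall.trans (by ext; simp; tauto))
  · rw [show x * a * f * c * d = f * x * a * c * d by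
      rw [((cl hx hb).mul_left (cl ha hb)).eq]; simp only [mul_assoc]]
    exact key u hu w hw huw f x a c d huf (hall.trans (by ext; simp; tauto))
  · rw [show x * a * b * f * d = f * x * a * b * d by
      rw [(((cl hx hc).mul_left (cl ha hc)).mul_left (cl hb hc)).eq]; simp only [mul_assoc]]
    exact key u hu w hw huw f x a b d huf (hall.trans (by ext; simp; tauto))
  · rw [show x * a * b * c * f = f * x * a * b * c by
      rw [((((cl hx hd).mul_left (cl ha hd)).mul_left (cl hb hd)).mul_left (cl hc hd)).eq]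
      simp only [mul_assoc]]
    exact key u hu w hw huw f x a b c huf (hall.trans (by ext; simp; tauto))

theorem ncard_line : (Line D p q).ncard = 3 ∨ (Line D p q).ncard = 5 := by
  have h1 := hH.ncard_line_le hp hq
  have h2 := hH.three_le_line hp hq
  obtain ⟨k, hk⟩ := hH.line_odd hp hq
  omega

end Hyp

end Cfsg.Agent.FischerTwins
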