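import Cfsg.Agent.Lib.FischerTwins.Pairs
import Cfsg.Agent.Lib.Classical.Symplectic
import Cfsg.Agent.Lib.Classical.SympStab

/-!
Lines of three points: the group is a symplectic group over the field of two elements.
-/

set_option autoImplicit false

namespace Cfsg.Agent.FischerTwins

open Cfsg.Agent Cfsg.Agent.Fischer Subgroup
open Cfsg.Agent.FischerSolvable (qq not_commute_third)
open Cfsg.Agent.Fischer.OddCoreLocal (Ctx X)
open Cfsg.Agent.Fischer.LocalSymThree (nb nb_symm)
open LinearMap (BilinForm)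

variable {G : Type*} [Group G] {D : Set G}

/-- The twin of `b` by the twins `a`, `t` of a common partner. -/
theorem Hyp.twin_ne (hH : Hyp D) {a t b : G} (ha : a ∈ D) (ht : t ∈ D) (hb : b ∈ D) (hat : Commute a t)
    (hne : a ≠ t) (hab : ¬ Commute a b) : a * t * b * (a * t)⁻¹ ≠ b := fun h =>
  hab ((TSet.commute_mul_iff hH.tset ha ht hb hne hat).1
    (OddCoreLocal.commute_conj_self_iff.1 h).symm).1.symm

namespace Hyp

variable (hH : Hyp D) [Finite G] (h3 : ∀ p ∈ D, ∀ q ∈ nb D p, (Line D p q).ncard = 3)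
include hH h3

theorem line_three {p q r v : G} (hp : p ∈ D) (hq : q ∈ nb D p) (hr : r ∈ Line D p q) (hrp : r ≠ p)
    (hrq : r ≠ q) (hv : v ∈ Line D p q) : v = p ∨ v = q ∨ v = r := by
  have hs : ({p, q, r} : Set G) = Line D p q := by
    refine Set.eq_of_subset_of_ncard_le ?_ ?_ (Set.toFinite _)
    · simp only [Set.insert_subset_iff, Set.singleton_subset_iff]
      exact ⟨left_mem_line hp, right_mem_line hq.1, hr⟩
    · rw [h3 p hp q hq, Set.ncard_insert_of_notMem (by simp [hq.2.1.symm, hrp.symm]), Set.ncard_pair hrq.symm]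
  rw [← hs] at hv
  simpa using hv

omit h3 in
theorem third {p q : G} (hp : p ∈ D) (hq : q ∈ nb D p) :
    ∃ r ∈ Line D p q, r ≠ p ∧ r ≠ q := by
  obtain ⟨v, hv, ht⟩ := hH.twin p hp q hq
  exact ⟨v, ((hH.twin_iff_line hp hq).1 ht).1, ht.1.2.1, hv⟩

/-- A member off the first two of three points commutes with the third. -/
theorem foot_three {p q r u : G} (hp : p ∈ D) (hq : q ∈ nb D p) (hr : r ∈ Line D p q) (hrp : r ≠ p)
    (hrq : r ≠ q) (hu : u ∈ D) (h1 : ¬ Commute u p) (h2 : ¬ Commute u q) : Commute u r := by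
  obtain ⟨e, he, hue⟩ := hH.exists_foot hp hq hu
  rcases hH.line_three h3 hp hq hr hrp hrq he with rfl | rfl | rfl
  exacts [absurd hue h1, absurd hue h2, hue]

theorem triple_good {a b u x : G} (ha : a ∈ D) (hb : b ∈ D) (hu : u ∈ D) (hab : ¬ Commute a b)
    (hx : x ∈ X D a b) (hxu : ¬ Commute x u) (hua : ¬ Commute u a) (hub : ¬ Commute u b) :
    Commute u (a * b * a) := by
  have hxa : a ∈ nb D x := nb_symm ha hx.1
  have hxb : b ∈ nb D x := nb_symm hb hx.2
  obtain ⟨t, ht, htx, hta⟩ := hH.third hx.1.1 hxa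
  have hut : Commute u t := hH.foot_three h3 hx.1.1 hxa ht htx hta hu (fun h => hxu h.symm) hua
  have hat : Commute a t := line_clique hx.1.1 hxa (right_mem_line ha) ht
  have htw : Twin D x a t := (hH.twin_iff_line hx.1.1 hxa).2 ⟨ht, htx⟩
  have hp := hH.pair x hx.1.1 a t hxa htw b hxb
  set b' := a * t * b * (a * t)⁻¹ with hb'
  have hb'l : b' ∈ Line D x b := ((hH.twin_iff_line hx.1.1 hxb).1 hp).1
  have h := hH.foot_three h3 hx.1.1 hxb hb'l hp.1.2.1 (hH.twin_ne ha ht.1 hb hat hta.symm hab) hu
    (fun h => hxu h.symm) hub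
  rw [← commute_conj_iff t, conj_eq_self_of_commute hut.symm] at h
  have e : t * b' * t⁻¹ = a * b * a := by
    rw [hb', hat.eq, mul_inv_rev, TSet.inv hH.tset ha, TSet.inv hH.tset ht.1]
    simp only [← mul_assoc, TSet.sq hH.tset ht.1, one_mul]
    simp only [mul_assoc, TSet.sq hH.tset ht.1, mul_one]
  rwa [e] at h

theorem triple {a b u : G} (ha : a ∈ D) (hb : b ∈ D) (hu : u ∈ D) (hab : ¬ Commute a b)
    (hua : ¬ Commute u a) (hub : ¬ Commute u b) : Commute u (a * b * a) := by
  by_contra huc
  have hD := hH.tset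
  by_cases hgood : ∃ x ∈ X D a b, ¬ Commute x u
  · obtain ⟨x, hx, hxu⟩ := hgood
    exact huc (hH.triple_good h3 ha hb hu hab hx hxu hua hub)
  push Not at hgood
  set T := X D a b with hT
  set c := a * b * a with hc
  have hcD : c ∈ D := by simpa [hc, TSet.inv hD ha] using hH.ctx.conj_mem a hb
  have hbab : b * a * b = c := (TSet.braid hD ha hb hab).symm
  have Tc : ∀ t ∈ T, Commute t c := fun t ht =>
    (ht.1.2.2.symm.mul_right ht.2.2.2.symm).mul_right ht.1.2.2.symm
  have hbub : b * u * b ∈ D := by simpa [TSet.inv hD hb] using hH.ctx.conj_mem b hu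
  -- transversals of non-commuting pairs inside
  have Tall : ∀ {p q : G}, p ∈ D → q ∈ D → ¬ Commute p q → (∀ t ∈ T, Commute t p) →
      (∀ t ∈ T, Commute t q) → X D p q = T := by
    intro p q hp hq hpq h1 h2
    refine (Set.eq_of_subset_of_ncard_le (fun t ht => ?_) ?_ (Set.toFinite _)).symm
    · exact mem_X_of_not hp hq hpq ht.1.1 (h1 t ht) (h2 t ht)
    · exact (hH.X_card_not hp hq hpq ha hb hab).le
  obtain ⟨t, ht⟩ := hH.X_nonempty ha hb hab
  have hta : t ∈ nb D a := ht.1
  obtain ⟨p, hp, hpa, hpt⟩ := hH.third ha hta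
  have hpap : Commute a p := line_clique ha hta (left_mem_line ha) hp
  have hne : ∀ {s : G}, s ∈ D → ¬ Commute s a → Commute s t → ¬ Commute s p := fun {s} hs hsa hst h =>
    hsa (hH.all_of_two ha hta (right_mem_line hta.1) hp hpt hs hst h (left_mem_line ha))
  have hup : ¬ Commute u p := hne hu hua (hgood t ht).symm
  set v := p * u * p with hv
  have hvD : v ∈ D := by simpa [hv, TSet.inv hD hp.1] using hH.ctx.conj_mem p hu
  have hconj : ∀ y : G, Commute u (p * y * p) ↔ Commute v y := by
    intro y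
    rw [← commute_conj_iff p u, TSet.inv hD hp.1, ← hv,
      show p * (p * y * p) * p = (p * p) * y * (p * p) by simp only [mul_assoc],
      TSet.sq hD hp.1, one_mul, mul_one]
  have hva : ¬ Commute v a := by
    rw [← hconj, show p * a * p = a from by
      rw [← hpap.eq, mul_assoc, TSet.sq hD hp.1, mul_one]]
    exact hua
  -- the conjugated triples are of the first kind
  have key : ∀ s ∈ D, ¬ Commute s a → (∀ t ∈ T, Commute t s) → Commute v s ∨ Commute v (a * s * a) := by
    intro s hs hsa hTs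
    by_contra hno
    push Not at hno
    obtain ⟨w, hw, htw⟩ := hH.X_partner ha hb hab ht
    have hwp : ¬ Commute w p := fun h =>
      htw (hH.all_of_two ha hta (left_mem_line ha) hp hpa hw.1.1 hw.1.2.2.symm h (right_mem_line hta.1)).symm
    set w' := t * w * t with hw'
    have hw'T : w' ∈ T := by
      have h1 := hH.ctx.nb_conj t hw.1
      have h2 := hH.ctx.nb_conj t hw.2
      rw [conj_eq_self_of_commute ht.1.2.2.symm, TSet.inv hD ht.1.1] at h1
      rw [conj_eq_self_of_commute ht.2.2.2.symm, TSet.inv hD ht.1.1] at h2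
      exact ⟨h1, h2⟩
    have htw' : Twin D a t p := (hH.twin_iff_line ha hta).2 ⟨hp, hpa⟩
    have hcpt : Commute p t := (line_clique ha hta (right_mem_line hta.1) hp).symm
    have hpw := hH.pair a ha t p hta htw' w' hw'T.1
    have e : t * p * w' * (t * p)⁻¹ = p * w * p := by
      rw [← hcpt.eq, mul_inv_rev, TSet.inv hD hp.1, TSet.inv hD ht.1.1, hw',
        show p * t * (t * w * t) * (t * p) = p * (t * t) * w * (t * t) * p by simp only [mul_assoc],
        TSet.sq hD ht.1.1, mul_one, mul_one]
    rw [e] at hpw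
    have hne2 : p * w * p ≠ w' := by
      rw [← e]
      refine hH.twin_ne ht.1.1 hp.1 hw'T.1.1 hcpt.symm (Ne.symm hpt) fun h => htw ?_
      rw [← commute_conj_iff t, conj_eq_self_of_commute (Commute.refl t), TSet.inv hD ht.1.1]
      exact h
    obtain ⟨hpwl, -⟩ := (hH.twin_iff_line ha hw'T.1).1 hpw
    have hxu : ¬ Commute (p * w * p) u := fun h => hua (hH.all_of_two ha hw'T.1
      (right_mem_line hw'T.1.1) hpwl hne2 hu (hgood w' hw'T).symm h.symm (left_mem_line ha))
    have hs' : p * s * p ∈ D := by simpa [TSet.inv hD hp.1] using hH.ctx.conj_mem p hs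
    have hpapa : p * a * p⁻¹ = a := conj_eq_self_of_commute hpap.symm
    have hx : p * w * p ∈ X D a (p * s * p) := by
      have h2 := (commute_conj_iff p w s).2 (hTs w hw)
      have h1 := (commute_conj_iff p w a).2 hw.1.2.2.symm
      rw [hpapa] at h1
      rw [TSet.inv hD hp.1] at h1 h2
      exact mem_X_of_not ha hs' (fun h => hsa ((commute_conj_iff p s a).1
        (by rw [hpapa, TSet.inv hD hp.1]; exact h.symm))) hpw.1.1 h1 h2
    have := hH.triple_good h3 ha hs' hu (fun h => hsa ((commute_conj_iff p s a).1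
        (by rw [hpapa, TSet.inv hD hp.1]; exact h.symm))) hx hxu hua (fun h => hno.1 ((hconj s).1 h))
    rw [show a * (p * s * p) * a = p * (a * s * a) * p by
      rw [show a * (p * s * p) * a = (a * p) * s * (p * a) by simp only [mul_assoc], hpap.eq, ← hpap.eq]
      nth_rw 1 [hpap.eq]
      simp only [mul_assoc]] at this
    exact hno.2 ((hconj _).1 this)
  -- two non-commuting members commuting with `v`
  have cases : ∀ {s : G}, s ∈ D → ¬ Commute s a → (∀ t ∈ T, Commute t s) →
      ∃ r ∈ D, Commute v r ∧ (∀ t ∈ T, Commute t r) ∧ (r = s ∨ r = a * s * a) := by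
    intro s hs hsa hTs
    rcases key s hs hsa hTs with h | h
    · exact ⟨s, hs, h, hTs, Or.inl rfl⟩
    · refine ⟨a * s * a, by simpa [TSet.inv hD ha] using hH.ctx.conj_mem a hs, h, fun t ht => ?_, Or.inr rfl⟩
      exact (ht.1.2.2.symm.mul_right (hTs t ht)).mul_right ht.1.2.2.symm
  have habub : ¬ Commute (b * u * b) a := by
    intro h
    rw [← commute_conj_iff b, TSet.inv hD hb, hbab,
      show b * (b * u * b) * b = (b * b) * u * (b * b) by simp only [mul_assoc],
      TSet.sq hD hb, one_mul, mul_one] at h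
    exact huc h
  have hTu : ∀ t ∈ T, Commute t u := hgood
  obtain ⟨r, hr, hvr, hTr, hrc⟩ := cases hb (fun h => hab h.symm) (fun t ht => ht.2.2.2.symm)
  obtain ⟨r', hr', hvr', hTr', hrc'⟩ := cases hbub habub
    (fun t ht => (ht.2.2.2.symm.mul_right (hTu t ht)).mul_right ht.2.2.2.symm)
  have hbb : ¬ Commute b (b * u * b) := fun h => hub (by
    rw [← commute_conj_iff b, TSet.inv hD hb]
    simpa [mul_assoc, TSet.sq hD hb] using h.symm)
  have hcb : ¬ Commute c (b * u * b) := fun h => hua (by
    rw [← commute_conj_iff b, TSet.inv hD hb]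
    rw [hbab]
    exact h.symm)
  have hrr : ¬ Commute r r' := by
    have hswap : ∀ y z : G, Commute (a * y * a) (a * z * a) ↔ Commute y z := fun y z => by
      have := commute_conj_iff a y z
      rwa [TSet.inv hD ha] at this
    have haa : a * (a * b * a) * a = b := by
      rw [show a * (a * b * a) * a = (a * a) * b * (a * a) by simp only [mul_assoc], TSet.sq hD ha,
        one_mul, mul_one]
    rcases hrc with e | e <;> rcases hrc' with e' | e' <;> rw [e, e']
    · exact hbb
    · intro h
      rw [← hswap] at h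
      refine hcb ?_
      rw [show a * (a * (b * u * b) * a) * a = b * u * b by
        rw [show a * (a * (b * u * b) * a) * a = (a * a) * (b * u * b) * (a * a) by simp only [mul_assoc],
          TSet.sq hD ha, one_mul, mul_one]] at h
      exact h
    · exact hcb
    · exact fun h => hbb ((hswap _ _).1 h)
  have hX := Tall hr hr' hrr hTr hTr'
  have hvn : v ∈ X D r r' := mem_X_of_not hr hr' hrr hvD hvr hvr'
  rw [hX] at hvn
  exact hva hvn.1.2.2.symm

end Hyp

end Cfsg.Agent.FischerTwins
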