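import Cfsg.Agent.Lib.FischerTwins.Symp

/-!
The space of partner patterns and the isomorphism with the symplectic group.
-/

set_option autoImplicit false
set_option linter.style.haveILetI false

namespace Cfsg.Agent.FischerTwins

open Cfsg.Agent Cfsg.Agent.Fischer Subgroup
open Cfsg.Agent.Fischer.OddCoreLocal (Ctx X)
open Cfsg.Agent.Fischer.LocalSymThree (nb nb_symm)
open LinearMap (BilinForm)

variable {G : Type*} [Group G] {D : Set G}

open Classical in
/-- The members not commuting with `d`, as a function into the field of two elements. -/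
noncomputable def pat (D : Set G) (d : G) : D → ZMod 2 := fun e => if Commute d (e : G) then 0 else 1

theorem pat_of_commute {d : G} {e : D} (h : Commute d (e : G)) : pat D d e = 0 := by
  classical
  simp [pat, h]

theorem pat_of_not {d : G} {e : D} (h : ¬ Commute d (e : G)) : pat D d e = 1 := by
  classical
  simp [pat, h]

theorem pat_symm (d e : D) : pat D (d : G) e = pat D (e : G) d := by
  by_cases h : Commute (d : G) (e : G)
  · rw [pat_of_commute h, pat_of_commute h.symm]
  · rw [pat_of_not h, pat_of_not fun h' => h h'.symm]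

theorem zmod_two_cases : ∀ k : ZMod 2, k = 0 ∨ k = 1 := by decide

namespace Hyp

variable (hH : Hyp D) [Finite G] (h3 : ∀ p ∈ D, ∀ q ∈ nb D p, (Line D p q).ncard = 3)
include hH

theorem pat_inj {d e : G} (hd : d ∈ D) (he : e ∈ D) (h : pat D d = pat D e) : d = e := by
  refine hH.eq_of_same hd he fun u hu => ?_
  have := congrFun h ⟨u, hu⟩
  by_cases h1 : Commute d u <;> by_cases h2 : Commute e u
  · exact iff_of_true h1 h2
  · rw [pat_of_commute (e := ⟨u, hu⟩) h1, pat_of_not (e := ⟨u, hu⟩) h2] at this; exact absurd this zero_ne_one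
  · rw [pat_of_not (e := ⟨u, hu⟩) h1, pat_of_commute (e := ⟨u, hu⟩) h2] at this; exact absurd this one_ne_zero
  · exact iff_of_false h1 h2

theorem pat_ne_zero {d : G} (hd : d ∈ D) : pat D d ≠ 0 := by
  obtain ⟨e, he, hn⟩ := hH.exists_not_commute hd
  intro h
  have := congrFun h ⟨e, he⟩
  rw [pat_of_not (e := ⟨e, he⟩) hn] at this
  exact one_ne_zero this

include h3

open Classical in
theorem conj_pat {a b : G} (ha : a ∈ D) (hb : b ∈ D) (u : D) :
    pat D (a * b * a) u = pat D b u + (if Commute a b then 0 else 1) * pat D a u := by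
  classical
  by_cases hab : Commute a b
  · rw [show a * b * a = b by rw [hab.eq, mul_assoc, TSet.sq hH.tset ha, mul_one], if_pos hab,
      zero_mul, add_zero]
  rw [if_neg hab, one_mul]
  obtain ⟨u, hu⟩ := u
  have hD := hH.tset
  have hback : a * (a * b * a) * a = b := by
    rw [show a * (a * b * a) * a = (a * a) * b * (a * a) by simp only [mul_assoc], TSet.sq hD ha,
      one_mul, mul_one]
  have hc : a * b * a ∈ D := by simpa [TSet.inv hD ha] using hH.ctx.conj_mem a hb
  have hbab : b * (a * b * a) * b = a := by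
    rw [TSet.braid hD ha hb hab, show b * (b * a * b) * b = (b * b) * a * (b * b) by simp only [mul_assoc],
      TSet.sq hD hb, one_mul, mul_one]
  by_cases h1 : Commute u a <;> by_cases h2 : Commute u b
  · rw [pat_of_commute (e := ⟨u, hu⟩) ((h1.mul_right h2).mul_right h1).symm,
      pat_of_commute (e := ⟨u, hu⟩) h2.symm, pat_of_commute (e := ⟨u, hu⟩) h1.symm, add_zero]
  · have h3' : ¬ Commute u (a * b * a) := fun h =>
      h2 (hback ▸ (h1.mul_right h).mul_right h1)
    rw [pat_of_not (e := ⟨u, hu⟩) fun h => h3' h.symm, pat_of_not (e := ⟨u, hu⟩) fun h => h2 h.symm,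
      pat_of_commute (e := ⟨u, hu⟩) h1.symm, add_zero]
  · have h3' : ¬ Commute u (a * b * a) := fun h =>
      h1 (hbab ▸ (h2.mul_right h).mul_right h2)
    rw [pat_of_not (e := ⟨u, hu⟩) fun h => h3' h.symm, pat_of_commute (e := ⟨u, hu⟩) h2.symm,
      pat_of_not (e := ⟨u, hu⟩) fun h => h1 h.symm, zero_add]
  · rw [pat_of_commute (e := ⟨u, hu⟩) (hH.triple h3 ha hb hu hab h1 h2).symm,
      pat_of_not (e := ⟨u, hu⟩) fun h => h2 h.symm, pat_of_not (e := ⟨u, hu⟩) fun h => h1 h.symm]
    decide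

theorem pat_add {a b : G} (ha : a ∈ D) (hb : b ∈ D) :
    pat D a + pat D b = 0 ∨ ∃ c ∈ D, pat D a + pat D b = pat D c := by
  by_cases hab : Commute a b
  · by_cases e : a = b
    · exact Or.inl (by funext u; rw [e, Pi.add_apply, ← two_mul, show (2 : ZMod 2) = 0 by decide, zero_mul]; rfl)
    have hbn : b ∈ nb D a := ⟨hb, Ne.symm e, hab⟩
    obtain ⟨c, hc, hca, hcb⟩ := hH.third ha hbn
    refine Or.inr ⟨c, hc.1, funext fun ⟨u, hu⟩ => ?_⟩
    by_cases h1 : Commute u a <;> by_cases h2 : Commute u b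
    · rw [Pi.add_apply, pat_of_commute (e := ⟨u, hu⟩) h1.symm, pat_of_commute (e := ⟨u, hu⟩) h2.symm,
        pat_of_commute (e := ⟨u, hu⟩) (hc.2 u ⟨hu, h1, h2⟩).symm, add_zero]
    · have h3' : ¬ Commute u c := fun h =>
        h2 (hH.all_of_two ha hbn (left_mem_line ha) hc hca hu h1 h (right_mem_line hb))
      rw [Pi.add_apply, pat_of_not (e := ⟨u, hu⟩) fun h => h2 h.symm,
        pat_of_commute (e := ⟨u, hu⟩) h1.symm, pat_of_not (e := ⟨u, hu⟩) fun h => h3' h.symm, zero_add]
    · have h3' : ¬ Commute u c := fun h =>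
        h1 (hH.all_of_two ha hbn (right_mem_line hb) hc hcb hu h2 h (left_mem_line ha))
      rw [Pi.add_apply, pat_of_not (e := ⟨u, hu⟩) fun h => h1 h.symm,
        pat_of_commute (e := ⟨u, hu⟩) h2.symm, pat_of_not (e := ⟨u, hu⟩) fun h => h3' h.symm, add_zero]
    · rw [Pi.add_apply, pat_of_not (e := ⟨u, hu⟩) fun h => h1 h.symm,
        pat_of_not (e := ⟨u, hu⟩) fun h => h2 h.symm,
        pat_of_commute (e := ⟨u, hu⟩) (hH.foot_three h3 ha hbn hc hca hcb hu h1 h2).symm]
      decide
  · refine Or.inr ⟨a * b * a, by simpa [TSet.inv hH.tset ha] using hH.ctx.conj_mem a hb,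
      funext fun u => ?_⟩
    rw [hH.conj_pat h3 ha hb u, if_neg hab, one_mul, Pi.add_apply, add_comm]

/-- The group is a symplectic group. -/
theorem symplectic (hne : D.Nonempty) :
    ∃ n : ℕ, Nonempty (G ≃* Matrix.symplecticGroup (Fin n) (ZMod 2)) := by
  classical
  haveI : Fact (Nat.Prime 2) := ⟨Nat.prime_two⟩
  let W : Submodule (ZMod 2) (D → ZMod 2) :=
    { carrier := {w | w = 0 ∨ ∃ d ∈ D, w = pat D d}
      zero_mem' := Or.inl rfl
      add_mem' := by
        rintro v w (rfl | ⟨a, ha, rfl⟩) (rfl | ⟨b, hb, rfl⟩)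
        · exact Or.inl (add_zero 0)
        · exact Or.inr ⟨b, hb, zero_add _⟩
        · exact Or.inr ⟨a, ha, add_zero _⟩
        · rcases hH.pat_add h3 ha hb with h | ⟨c, hc, h⟩
          exacts [Or.inl h, Or.inr ⟨c, hc, h⟩]
      smul_mem' := by
        intro k w hw
        rcases zmod_two_cases k with rfl | rfl
        · exact Or.inl (zero_smul _ w)
        · rwa [one_smul] }
  have hWmem : ∀ w : W, (w : D → ZMod 2) = 0 ∨ ∃ d ∈ D, (w : D → ZMod 2) = pat D d := fun w => w.2
  let mk : D → W := fun d => ⟨pat D d, Or.inr ⟨d, d.2, rfl⟩⟩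
  let ev : W → W → ZMod 2 := fun v w =>
    if h : ∃ d : D, (w : D → ZMod 2) = pat D d then (v : D → ZMod 2) h.choose else 0
  have ev0 : ∀ v : W, ev v 0 = 0 := fun v => by
    simp only [ev]
    rw [dif_neg]
    rintro ⟨d, hd⟩
    exact hH.pat_ne_zero d.2 hd.symm
  have evd : ∀ (v : W) (d : D), ev v (mk d) = (v : D → ZMod 2) d := fun v d => by
    have h : ∃ d' : D, (mk d : D → ZMod 2) = pat D d' := ⟨d, rfl⟩
    simp only [ev]
    rw [dif_pos h]
    exact congrArg _ (Subtype.ext (hH.pat_inj h.choose.2 d.2 h.choose_spec.symm))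
  have cases2 : ∀ w : W, w = 0 ∨ ∃ d : D, w = mk d := fun w => by
    rcases hWmem w with h | ⟨d, hd, h⟩
    exacts [Or.inl (Subtype.ext h), Or.inr ⟨⟨d, hd⟩, Subtype.ext h⟩]
  have evs : ∀ v w : W, ev v w = ev w v := by
    intro v w
    rcases cases2 v with rfl | ⟨a, rfl⟩ <;> rcases cases2 w with rfl | ⟨b, rfl⟩
    · rfl
    · rw [ev0 (mk b), evd]; rfl
    · rw [ev0 (mk a), evd]; rfl
    · rw [evd, evd]
      exact pat_symm a b
  have evl : ∀ (v v' w : W), ev (v + v') w = ev v w + ev v' w := by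
    intro v v' w
    rcases cases2 w with rfl | ⟨b, rfl⟩
    · simp [ev0]
    · rw [evd, evd, evd]; rfl
  have evsm : ∀ (k : ZMod 2) (v w : W), ev (k • v) w = k * ev v w := by
    intro k v w
    rcases cases2 w with rfl | ⟨b, rfl⟩
    · simp [ev0]
    · rw [evd, evd]; rfl
  let B : BilinForm (ZMod 2) W := LinearMap.mk₂ (ZMod 2) ev evl evsm
    (fun v w w' => by rw [evs, evl, evs w, evs w']) (fun k v w => by rw [evs, evsm, evs w]; rfl)
  have hB : ∀ v w, B v w = ev v w := fun v w => rfl
  have hA : B.IsAlt := by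
    intro v
    show B v v = 0
    rw [hB]
    rcases cases2 v with rfl | ⟨a, rfl⟩
    · exact ev0 _
    · rw [evd]; exact pat_of_commute (Commute.refl (a : G))
  have hnd : ∀ v, (∀ w, B v w = 0) → v = 0 := by
    intro v hv
    refine Subtype.ext (funext fun d => ?_)
    have := hv (mk d)
    rwa [hB, evd] at this
  -- the action
  let cj : G → D → D := fun g d => ⟨g * d * g⁻¹, hH.ctx.conj_mem g d.2⟩
  have cjmul : ∀ (g h : G) (d : D), cj (g * h) d = cj g (cj h d) := fun g h d => Subtype.ext (by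
    show g * h * d * (g * h)⁻¹ = g * (h * d * h⁻¹) * g⁻¹; group)
  have cjone : ∀ d : D, cj 1 d = d := fun d => Subtype.ext (by show 1 * (d : G) * 1⁻¹ = d; group)
  have cpat : ∀ (g : G) (d : G) (e : D), pat D (g * d * g⁻¹) e = pat D d (cj g⁻¹ e) := by
    intro g d e
    have hi : Commute (g * d * g⁻¹) (e : G) ↔ Commute d ((cj g⁻¹ e : D) : G) := by
      show _ ↔ Commute d (g⁻¹ * e * g⁻¹⁻¹)
      rw [← commute_conj_iff g d, inv_inv, show g * (g⁻¹ * (e : G) * g) * g⁻¹ = e by group]
    by_cases h : Commute (g * d * g⁻¹) (e : G)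
    · rw [pat_of_commute h, pat_of_commute (hi.1 h)]
    · rw [pat_of_not h, pat_of_not fun h' => h (hi.2 h')]
  let act : G → (D → ZMod 2) →ₗ[ZMod 2] (D → ZMod 2) := fun g =>
    LinearMap.funLeft (ZMod 2) (ZMod 2) (cj g⁻¹)
  have hact : ∀ g, ∀ w ∈ W, act g w ∈ W := by
    rintro g w (rfl | ⟨d, hd, rfl⟩)
    · exact Or.inl (map_zero _)
    · exact Or.inr ⟨g * d * g⁻¹, hH.ctx.conj_mem g hd, funext fun e => (cpat g d e).symm⟩
  let lw : G → W →ₗ[ZMod 2] W := fun g => (act g).restrict (hact g)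
  have lwa : ∀ g (w : W) (e : D), (lw g w : D → ZMod 2) e = (w : D → ZMod 2) (cj g⁻¹ e) := fun g w e => rfl
  have lwmul : ∀ g h w, lw (g * h) w = lw g (lw h w) := fun g h w => Subtype.ext (funext fun e => by
    rw [lwa, lwa, lwa, mul_inv_rev, cjmul])
  have lwone : ∀ w, lw 1 w = w := fun w => Subtype.ext (funext fun e => by rw [lwa, inv_one, cjone])
  have lwmk : ∀ g d, lw g (mk d) = mk (cj g d) := fun g d => Subtype.ext (funext fun e => (cpat g d e).symm)
  let φ : G →* (W ≃ₗ[ZMod 2] W) :=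
    { toFun := fun g => LinearEquiv.ofLinearMap (lw g) (lw g⁻¹)
        (LinearMap.ext fun w => by
          show lw g (lw g⁻¹ w) = w
          rw [← lwmul, mul_inv_cancel, lwone])
        (LinearMap.ext fun w => by
          show lw g⁻¹ (lw g w) = w
          rw [← lwmul, inv_mul_cancel, lwone])
      map_one' := LinearEquiv.ext lwone
      map_mul' := fun g h => LinearEquiv.ext (lwmul g h) }
  have hφ : ∀ g w, φ g w = lw g w := fun g w => rfl
  have hmem : ∀ g, φ g ∈ AltForm.isoGroup B := by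
    intro g v w
    rw [hφ, hφ, hB, hB]
    rcases cases2 w with rfl | ⟨b, rfl⟩
    · rw [map_zero, ev0, ev0]
    · rw [lwmk, evd, evd, lwa]
      congr 1
      rw [← cjmul, inv_mul_cancel, cjone]
  have hinj : Function.Injective φ := by
    rw [injective_iff_map_eq_one]
    intro g hg
    refine hH.eq_one_of_commute fun d hd => OddCoreLocal.commute_conj_self_iff.1 ?_
    have h1 := LinearEquiv.congr_fun hg (mk ⟨d, hd⟩)
    rw [hφ, lwmk] at h1
    exact hH.pat_inj (hH.ctx.conj_mem g hd) hd (congrArg Subtype.val h1)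
  have htr : ∀ d : D, φ d = AltForm.transv hA (mk d) 1 := by
    intro d
    refine LinearEquiv.ext fun w => ?_
    rw [hφ, AltForm.transv_apply, one_mul, hB]
    rcases cases2 w with rfl | ⟨b, rfl⟩
    · rw [map_zero, evs, ev0, zero_smul, add_zero]
    · rw [lwmk, evd]
      refine Subtype.ext (funext fun e => ?_)
      show pat D ((d : G) * b * (d : G)⁻¹) e = pat D b e + pat D b d * pat D d e
      rw [TSet.inv hH.tset d.2, hH.conj_pat h3 d.2 b.2]
      congr 2
      by_cases h : Commute (d : G) (b : G)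
      · rw [if_pos h, pat_of_commute h.symm]
      · rw [if_neg h, pat_of_not fun h' => h h'.symm]
  have hBn : B.Nondegenerate := (LinearMap.IsRefl.nondegenerate_iff_separatingLeft hA.isRefl).2 hnd
  have hrange : φ.range = AltForm.isoGroup B := by
    refine le_antisymm (by rintro _ ⟨g, rfl⟩; exact hmem g) ?_
    rw [AltForm.isoGroup_eq_transvGroup hA hBn, AltForm.transvGroup, closure_le]
    rintro g ⟨w, c, hg⟩
    have hg' : g = AltForm.transv hA w c := LinearEquiv.ext fun x => by rw [hg, AltForm.transv_apply]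
    rcases cases2 w with rfl | ⟨d, rfl⟩
    · refine ⟨1, ?_⟩
      rw [map_one]
      exact LinearEquiv.ext fun x => by rw [hg, smul_zero, add_zero]; rfl
    rcases zmod_two_cases c with rfl | rfl
    · refine ⟨1, ?_⟩
      rw [map_one]
      exact LinearEquiv.ext fun x => by rw [hg, zero_mul, zero_smul, add_zero]; rfl
    · exact ⟨d, (htr d).trans hg'.symm⟩
  obtain ⟨m, hm⟩ := AltForm.exists_finrank_eq hA hBn
  obtain ⟨ψ, hψ⟩ := SympStab.exists_isometry hA hnd hm
  have conj_mem : ∀ A : Matrix.symplecticGroup (Fin m) (ZMod 2),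
      ψ.symm.trans ((ClassicalSp.toEquiv A).trans ψ) ∈ AltForm.isoGroup B := by
    intro A u v
    obtain ⟨u', rfl⟩ := ψ.surjective u
    obtain ⟨v', rfl⟩ := ψ.surjective v
    simp only [LinearEquiv.trans_apply, LinearEquiv.symm_apply_apply, hψ]
    exact ClassicalSp.toEquiv_mem A u' v'
  let j : Matrix.symplecticGroup (Fin m) (ZMod 2) →* AltForm.isoGroup B :=
    MonoidHom.mk' (fun A => ⟨ψ.symm.trans ((ClassicalSp.toEquiv A).trans ψ), conj_mem A⟩) fun A A' =>
      Subtype.ext (LinearEquiv.ext fun x => by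
        show ψ (ClassicalSp.toEquiv (A * A') (ψ.symm x)) =
          ψ (ClassicalSp.toEquiv A (ψ.symm (ψ (ClassicalSp.toEquiv A' (ψ.symm x)))))
        rw [map_mul, LinearEquiv.symm_apply_apply]
        rfl)
  have hj : Function.Bijective j := by
    constructor
    · intro A A' h
      refine ClassicalSp.toEquiv_injective (LinearEquiv.ext fun x => ψ.injective ?_)
      have := LinearEquiv.congr_fun (congrArg Subtype.val h) (ψ x)
      simpa [j] using this
    · rintro ⟨g, hg⟩
      obtain ⟨A, hA'⟩ := ClassicalSp.toEquiv_surj (g := ψ.trans (g.trans ψ.symm)) (fun u v => by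
        rw [← hψ, ← hψ]
        simp only [LinearEquiv.trans_apply, LinearEquiv.apply_symm_apply]
        exact hg (ψ u) (ψ v))
      exact ⟨A, Subtype.ext (LinearEquiv.ext fun x => by simp [j, hA'])⟩
  exact ⟨m, ⟨((MonoidHom.ofInjective hinj).trans (MulEquiv.subgroupCongr hrange)).trans
    (MulEquiv.ofBijective j hj).symm⟩⟩

end Hyp

end Cfsg.Agent.FischerTwins
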