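import Cfsg.Agent.Lib.FischerSolvable.Model

/-!
Vectors over the field of four elements with the standard hermitian form: transvections, vectors of
weight two, and embeddings of coordinates.
-/

set_option autoImplicit false

namespace Cfsg.Agent.FischerTwins

open Cfsg Cfsg.Agent.RigidGraph.He
open Cfsg.Agent.FischerSolvable.Model (tv)

variable {k n : ℕ}

/-- The form. -/
abbrev hf (k : ℕ) (u v : Fin k → K4) : K4 := hermForm k K4 2 u v

theorem K4.sq_add : ∀ a b : K4, (a + b) ^ 2 = a ^ 2 + b ^ 2 := by decide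

theorem K4.cube_one : ∀ a : K4, a ≠ 0 → a * a ^ 2 = 1 := by decide

theorem K4.sq_sq : ∀ a : K4, (a ^ 2) ^ 2 = a := by decide

theorem K4.sum_sq {ι : Type*} (s : Finset ι) (g : ι → K4) : (∑ i ∈ s, g i) ^ 2 = ∑ i ∈ s, g i ^ 2 := by
  classical
  induction s using Finset.induction_on with
  | empty => simp
  | insert a s ha ih => rw [Finset.sum_insert ha, Finset.sum_insert ha, K4.sq_add, ih]

theorem hf_def (u v : Fin k → K4) : hf k u v = ∑ i, u i * v i ^ 2 := rfl

theorem hf_add_left (u u' v : Fin k → K4) : hf k (u + u') v = hf k u v + hf k u' v := by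
  simp only [hf_def, Pi.add_apply, add_mul, Finset.sum_add_distrib]

theorem hf_add_right (u v v' : Fin k → K4) : hf k u (v + v') = hf k u v + hf k u v' := by
  simp only [hf_def, Pi.add_apply, K4.sq_add, mul_add, Finset.sum_add_distrib]

theorem hf_smul_left (c : K4) (u v : Fin k → K4) : hf k (c • u) v = c * hf k u v := by
  simp only [hf_def, Pi.smul_apply, smul_eq_mul, Finset.mul_sum, mul_assoc]

theorem hf_smul_right (c : K4) (u v : Fin k → K4) : hf k u (c • v) = c ^ 2 * hf k u v := by
  simp only [hf_def, Pi.smul_apply, smul_eq_mul, mul_pow, Finset.mul_sum]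
  exact Finset.sum_congr rfl fun i _ => mul_left_comm _ _ _

theorem hf_symm (u v : Fin k → K4) : hf k u v = hf k v u ^ 2 := by
  rw [hf_def, hf_def, K4.sum_sq]
  exact Finset.sum_congr rfl fun i _ => by rw [mul_pow, K4.sq_sq, mul_comm]

theorem hf_zero_iff (u v : Fin k → K4) : hf k u v = 0 ↔ hf k v u = 0 := by
  rw [hf_symm u v, sq_eq_zero_iff]

theorem hf_zero_left (v : Fin k → K4) : hf k 0 v = 0 := by simp [hf_def]

theorem hf_zero_right (v : Fin k → K4) : hf k v 0 = 0 := by simp [hf_def]

theorem hf_smul_zero {c : K4} (hc : c ≠ 0) (u v : Fin k → K4) : hf k u (c • v) = 0 ↔ hf k u v = 0 := by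
  rw [hf_smul_right, mul_eq_zero, sq_eq_zero_iff, or_iff_right hc]

theorem tv_eq (v x : Fin k → K4) : tv v x = x + hf k x v • v := rfl

theorem tv_add (v x y : Fin k → K4) : tv v (x + y) = tv v x + tv v y := by
  rw [tv_eq, tv_eq, tv_eq, hf_add_left, add_smul]
  abel

theorem tv_smul (v : Fin k → K4) (c : K4) (x : Fin k → K4) : tv v (c • x) = c • tv v x := by
  rw [tv_eq, tv_eq, hf_smul_left, smul_add, smul_smul]

theorem tv_zero (v : Fin k → K4) : tv v 0 = 0 := by rw [tv_eq, hf_zero_left, zero_smul, add_zero]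

theorem tv_scalar {c : K4} (hc : c ≠ 0) (v x : Fin k → K4) : tv (c • v) x = tv v x := by
  rw [tv_eq, tv_eq, hf_smul_right, smul_smul, mul_right_comm, mul_comm (c ^ 2) c, K4.cube_one c hc,
    one_mul]

theorem tv_fix {v x : Fin k → K4} (h : hf k x v = 0) : tv v x = x := by rw [tv_eq, h, zero_smul, add_zero]

theorem add_self_vec (x : Fin k → K4) : x + x = 0 := funext fun i => K4.add_self (x i)

theorem tv_tv {v : Fin k → K4} (hv : hf k v v = 0) (x : Fin k → K4) : tv v (tv v x) = x := by
  rw [tv_eq v (tv v x), tv_eq, hf_add_left, hf_smul_left, hv, mul_zero, add_zero, add_assoc,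
    add_self_vec, add_zero]

theorem tv_iso {v : Fin k → K4} (hv : hf k v v = 0) (x y : Fin k → K4) :
    hf k (tv v x) (tv v y) = hf k x y := by
  rw [tv_eq, tv_eq, hf_add_left, hf_add_right, hf_add_right, hf_smul_left, hf_smul_left, hf_smul_right,
    hf_smul_right, hv, hf_symm y v, K4.sq_sq, mul_zero, mul_zero, add_zero, mul_comm (hf k v y),
    add_assoc, K4.add_self, add_zero]

theorem hf_tv_left {v : Fin k → K4} (hv : hf k v v = 0) (x y : Fin k → K4) :
    hf k (tv v x) y = hf k x (tv v y) := by
  conv_lhs => rw [← tv_tv hv y]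
  exact tv_iso hv _ _

/-- The two products of a hyperbolic pair agree up to a scalar. -/
theorem tv_swap {v w : Fin k → K4} (h : hf k v w ≠ 0) : hf k v w • tv v w = tv w v := by
  rw [tv_eq, tv_eq, hf_symm w v, smul_add, smul_smul, K4.cube_one _ h, one_smul, add_comm]

/-- A vector with at most two non-zero coordinates. -/
def m2 (i j : Fin k) (a b : K4) : Fin k → K4 := Pi.single i a + Pi.single j b

theorem hf_single_left (i : Fin k) (a : K4) (u : Fin k → K4) : hf k (Pi.single i a) u = a * u i ^ 2 := by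
  rw [hf_def, Finset.sum_eq_single i (fun l _ hl => by simp [hl]) (by simp), Pi.single_eq_same]

theorem hf_m2 (i j : Fin k) (a b : K4) (u : Fin k → K4) :
    hf k (m2 i j a b) u = a * u i ^ 2 + b * u j ^ 2 := by
  rw [m2, hf_add_left, hf_single_left, hf_single_left]

theorem m2_comm (i j : Fin k) (a b : K4) : m2 i j a b = m2 j i b a := add_comm _ _

theorem smul_m2 (c : K4) (i j : Fin k) (a b : K4) : c • m2 i j a b = m2 i j (c * a) (c * b) := by
  rw [m2, m2, smul_add, ← Pi.single_smul, ← Pi.single_smul, smul_eq_mul, smul_eq_mul]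

theorem m2_apply_left {i j : Fin k} (h : i ≠ j) (a b : K4) : m2 i j a b i = a := by simp [m2, h]

theorem m2_apply_right {i j : Fin k} (h : i ≠ j) (a b : K4) : m2 i j a b j = b := by simp [m2, h.symm]

theorem m2_apply_other {i j l : Fin k} (h₁ : l ≠ i) (h₂ : l ≠ j) (a b : K4) : m2 i j a b l = 0 := by
  simp [m2, h₁, h₂]

/-- Exactly two non-zero coordinates. -/
def Two (v : Fin k → K4) : Prop := ∃ i j a b, i ≠ j ∧ a ≠ 0 ∧ b ≠ 0 ∧ v = m2 i j a b

theorem two_m2 {i j : Fin k} {a b : K4} (h : i ≠ j) (ha : a ≠ 0) (hb : b ≠ 0) : Two (m2 i j a b) :=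
  ⟨i, j, a, b, h, ha, hb, rfl⟩

theorem Two.iso {v : Fin k → K4} (h : Two v) : hf k v v = 0 := by
  obtain ⟨i, j, a, b, hij, ha, hb, rfl⟩ := h
  rw [hf_m2, m2_apply_left hij, m2_apply_right hij, K4.cube_one a ha, K4.cube_one b hb, K4.add_self]

theorem Two.ne_zero {v : Fin k → K4} (h : Two v) : v ≠ 0 := by
  obtain ⟨i, j, a, b, hij, ha, -, rfl⟩ := h
  intro e
  exact ha (by rw [← m2_apply_left hij a b, e]; rfl)

theorem Two.smul {v : Fin k → K4} (h : Two v) {c : K4} (hc : c ≠ 0) : Two (c • v) := by
  obtain ⟨i, j, a, b, hij, ha, hb, rfl⟩ := h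
  rw [smul_m2]
  exact two_m2 hij (mul_ne_zero hc ha) (mul_ne_zero hc hb)

/-- Coordinates along a map. -/
def push (e : Fin n → Fin k) (u : Fin n → K4) : Fin k → K4 := ∑ i, Pi.single (e i) (u i)

theorem push_add (e : Fin n → Fin k) (u v : Fin n → K4) : push e (u + v) = push e u + push e v := by
  simp only [push, Pi.add_apply, Pi.single_add, Finset.sum_add_distrib]

theorem push_smul (e : Fin n → Fin k) (c : K4) (u : Fin n → K4) : push e (c • u) = c • push e u := by
  simp only [push, Pi.smul_apply, Finset.smul_sum, ← Pi.single_smul]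

theorem push_single (e : Fin n → Fin k) (i : Fin n) (a : K4) :
    push e (Pi.single i a) = Pi.single (e i) a := by
  rw [push, Finset.sum_eq_single i (fun l _ hl => by simp [hl]) (by simp), Pi.single_eq_same]

theorem push_m2 (e : Fin n → Fin k) (i j : Fin n) (a b : K4) :
    push e (m2 i j a b) = m2 (e i) (e j) a b := by rw [m2, push_add, push_single, push_single, m2]

theorem hf_push (e : Fin n → Fin k) (u : Fin n → K4) (v : Fin k → K4) :
    hf k (push e u) v = hf n u (fun i => v (e i)) := by
  have : ∀ s : Finset (Fin n), hf k (∑ i ∈ s, Pi.single (e i) (u i)) v = ∑ i ∈ s, u i * v (e i) ^ 2 := by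
    classical
    intro s
    induction s using Finset.induction_on with
    | empty => simp [hf_zero_left]
    | insert a s ha ih => rw [Finset.sum_insert ha, Finset.sum_insert ha, hf_add_left, hf_single_left, ih]
  exact this Finset.univ

theorem push_apply {e : Fin n → Fin k} (he : Function.Injective e) (u : Fin n → K4) (i : Fin n) :
    push e u (e i) = u i := by
  rw [push, Finset.sum_apply, Finset.sum_eq_single i (fun l _ hl => Pi.single_eq_of_ne
    (fun h => hl (he h).symm) _) (by simp), Pi.single_eq_same]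

theorem push_apply_other {e : Fin n → Fin k} {l : Fin k} (h : ∀ i, e i ≠ l) (u : Fin n → K4) :
    push e u l = 0 := by
  rw [push, Finset.sum_apply]
  exact Finset.sum_eq_zero fun i _ => Pi.single_eq_of_ne (h i).symm _

theorem hf_push_push {e : Fin n → Fin k} (he : Function.Injective e) (u v : Fin n → K4) :
    hf k (push e u) (push e v) = hf n u v := by
  rw [hf_push]
  exact congrArg (hf n u) (funext (push_apply he v))

theorem tv_push {e : Fin n → Fin k} (he : Function.Injective e) (v x : Fin n → K4) :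
    tv (push e v) (push e x) = push e (tv v x) := by
  rw [tv_eq, tv_eq, hf_push_push he, push_add, push_smul]

/-- The transvection exchanging two coordinates. -/
theorem tv_swap_coord {i j : Fin k} (h : i ≠ j) (x : Fin k → K4) :
    tv (m2 i j 1 1) x = x ∘ Equiv.swap i j := by
  have e : hf k x (m2 i j 1 1) = x i + x j := by
    rw [hf_symm, hf_m2]
    simp only [one_mul, K4.sq_add, K4.sq_sq]
  funext l
  rw [tv_eq, Pi.add_apply, Pi.smul_apply, e, smul_eq_mul, Function.comp_apply]
  by_cases h1 : l = i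
  · subst h1
    rw [m2_apply_left h, Equiv.swap_apply_left, mul_one, ← add_assoc, K4.add_self, zero_add]
  by_cases h2 : l = j
  · subst h2
    rw [m2_apply_right h, Equiv.swap_apply_right, mul_one, add_comm (x i), ← add_assoc, K4.add_self,
      zero_add]
  rw [m2_apply_other h1 h2, Equiv.swap_apply_of_ne_of_ne h1 h2, mul_zero, add_zero]

end Cfsg.Agent.FischerTwins
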