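import Cfsg.Agent.Lib.FischerTwins.Points

/-!
If no member has a non-isotropic vector, every member is at an isotropic point.
-/

set_option autoImplicit false

namespace Cfsg.Agent.FischerTwins

open Cfsg Cfsg.Agent Cfsg.Agent.Fischer Subgroup Cfsg.Agent.RigidGraph.He
open Cfsg.Agent.FischerSolvable.Model (tv)
open Cfsg.Agent.Fischer.LocalSymThree (nb nb_symm)

variable {G : Type*} [Group G] {D : Set G}

theorem pair_zero : ∀ x y : K4, (∀ b : K4, b ≠ 0 → x ^ 2 + b * y ^ 2 = 0) → x = 0 := by decide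

theorem pair_prop : ∀ a b x y : K4, a ≠ 0 → b ≠ 0 → a * x ^ 2 + b * y ^ 2 = 0 →
    ∃ c : K4, x = c * a ∧ y = c * b := by decide

theorem iso_combination : ∀ α β : K4, β ≠ 0 → α * β ^ 2 + β * α ^ 2 = 0 → α = 0 ∨ α = β := by decide

variable {k : ℕ}

theorem perp_span (hk : 4 ≤ k) {p v : Fin k → K4} (hp0 : p ≠ 0) (hp : hf k p p = 0)
    (h : ∀ s : Fin k → K4, s ≠ 0 → hf k s s = 0 → hf k s p = 0 → hf k s v = 0) :
    ∃ c : K4, v = c • p := by
  obtain ⟨L, m, hL, hm, rfl⟩ := exists_word_iso hk hp0 hp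
  have hiso : ∀ v ∈ L, hf k v v = 0 := fun v hv => (hL v hv).iso
  have hiso' : ∀ v ∈ L.reverse, hf k v v = 0 := fun v hv => hiso v (List.mem_reverse.1 hv)
  set v' := act L.reverse v with hv'
  have hvv : act L v' = v := by
    have := act_reverse hiso' v
    rwa [List.reverse_reverse] at this
  have key : ∀ n, Two n → hf k n m = 0 → hf k n v' = 0 := by
    intro n hn hnm
    have := h (act L n) (fun e => hn.ne_zero (by
        rw [← act_reverse hiso n, e]
        rw [← zero_smul K4 (0 : Fin k → K4), act_smul, zero_smul, zero_smul]))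
      ((act_iso hiso n n).trans hn.iso) ((act_iso hiso n m).trans hnm)
    rwa [← hvv, act_iso hiso] at this
  obtain ⟨i, j, a, b, hij, ha, hb, rfl⟩ := hm
  have hz : ∀ l, l ≠ i → l ≠ j → v' l = 0 := by
    intro l h1 h2
    obtain ⟨l', hl'⟩ : ∃ l', l' ∉ ({i, j, l} : Finset (Fin k)) := by
      by_contra hno
      push Not at hno
      have h4 := Finset.card_le_card (fun x _ => hno x : (Finset.univ : Finset (Fin k)) ⊆ {i, j, l})
      rw [Finset.card_univ, Fintype.card_fin] at h4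
      have h5 : ({i, j, l} : Finset (Fin k)).card ≤ 3 := Finset.card_le_three
      omega
    simp only [Finset.mem_insert, Finset.mem_singleton, not_or] at hl'
    refine pair_zero _ (v' l') fun c hc => ?_
    have := key _ (two_m2 (Ne.symm hl'.2.2) one_ne_zero hc) (by
      rw [hf_m2, m2_apply_other h1 h2, m2_apply_other hl'.1 hl'.2.1]
      simp)
    rwa [hf_m2, one_mul] at this
  obtain ⟨c, hc1, hc2⟩ := pair_prop a b _ _ ha hb (by
    have := key _ (two_m2 hij ha hb) (two_m2 hij ha hb).iso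
    rwa [hf_m2] at this)
  refine ⟨c, ?_⟩
  rw [← hvv, ← act_smul]
  congr 1
  funext l
  rw [Pi.smul_apply, smul_eq_mul]
  by_cases h1 : l = i
  · rw [h1, m2_apply_left hij, hc1]
  by_cases h2 : l = j
  · rw [h2, m2_apply_right hij, hc2]
  rw [m2_apply_other h1 h2, hz l h1 h2, mul_zero]

theorem exists_hyperbolic (hk : 4 ≤ k) {p : Fin k → K4} (hp0 : p ≠ 0) (hp : hf k p p = 0) :
    ∃ q : Fin k → K4, q ≠ 0 ∧ hf k q q = 0 ∧ hf k p q ≠ 0 := by
  by_contra hno
  push Not at hno
  obtain ⟨L, m, hL, hm, rfl⟩ := exists_word_iso hk hp0 hp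
  have hiso : ∀ v ∈ L, hf k v v = 0 := fun v hv => (hL v hv).iso
  obtain ⟨i, j, a, b, hij, ha, hb, rfl⟩ := hm
  obtain ⟨t, hti, htj⟩ : ∃ t, t ≠ i ∧ t ≠ j := by
    obtain ⟨l₁, l₂, h1, h2, h3⟩ := exists_two_others (show 3 ≤ k by omega) i
    by_cases e : l₁ = j
    · exact ⟨l₂, h2, fun e' => h3 (e'.trans e.symm)⟩
    · exact ⟨l₁, h1, e⟩
  have hn : Two (m2 i t a (1 : K4)) := two_m2 hti.symm ha one_ne_zero
  have h0 : act L (m2 i t a 1) ≠ 0 := fun e => hn.ne_zero (by
    rw [← act_reverse hiso (m2 i t a 1), e]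
    rw [← zero_smul K4 (0 : Fin k → K4), act_smul, zero_smul, zero_smul])
  have := hno _ h0 ((act_iso hiso _ _).trans hn.iso)
  rw [act_iso hiso, hf_m2, m2_apply_left hti.symm, m2_apply_other hij.symm (Ne.symm htj),
    K4.cube_one a ha] at this
  simp at this

theorem hyp_span (hk : 4 ≤ k) {p r z : Fin k → K4} (hp0 : p ≠ 0) (hp : hf k p p = 0) (hpr : hf k p r ≠ 0)
    (h : ∀ s : Fin k → K4, s ≠ 0 → hf k s s = 0 → hf k s p = 0 → hf k s r = 0 → hf k s z = 0) :
    ∃ α β : K4, z = α • p + β • r := by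
  set c := (hf k p z / hf k p r) ^ 2 with hc
  have hpz : hf k p (z + c • r) = 0 := by
    rw [hf_add_right, hf_smul_right, hc, K4.sq_sq, div_mul_cancel₀ _ hpr, K4.add_self]
  obtain ⟨α, hα⟩ := perp_span hk hp0 hp (v := z + c • r) fun s hs0 hs hsp => by
    set a := hf k s r / hf k p r with ha
    by_cases h0 : s + a • p = 0
    · have e : s = a • p := by
        calc s = s + (a • p + a • p) := by rw [add_self_vec, add_zero]
          _ = a • p := by rw [← add_assoc, h0, zero_add]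
      rw [e, hf_smul_left, hpz, mul_zero]
    · have h1 : hf k (s + a • p) r = 0 := by
        rw [hf_add_left, hf_smul_left, ha, div_mul_cancel₀ _ hpr, K4.add_self]
      have h2 : hf k (s + a • p) p = 0 := by rw [hf_add_left, hf_smul_left, hp, hsp, mul_zero, add_zero]
      have h3 : hf k (s + a • p) (s + a • p) = 0 := by
        rw [hf_add_right, hf_smul_right, hf_add_left, hs, hf_smul_left, (hf_zero_iff _ _).1 hsp, h2]
        simp
      have h4 := h _ h0 h3 h2 h1
      have h5 : hf k (s + a • p) (z + c • r) = 0 := by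
        rw [hf_add_right, h4, hf_smul_right, h1, mul_zero, add_zero]
      rwa [hf_add_left, hf_smul_left, hpz, mul_zero, add_zero] at h5
  refine ⟨α, c, ?_⟩
  rw [← hα, add_assoc, add_self_vec, add_zero]

namespace Frame

variable {B : Base D} (F : Frame B k)
variable (hH : Hyp D) [Finite G] (h5 : ∀ p ∈ D, ∀ q ∈ nb D p, (Line D p q).ncard = 5)
include hH h5

theorem proj_in_span {p : Fin k → K4} (hp0 : p ≠ 0) (hp : hf k p p = 0) {u : G} (hu : u ∈ D)
    (h : ∀ s S, F.IsPt s S → hf k s p = 0 → Commute u S) : ∃ c : K4, F.proj u = c • p :=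
  perp_span F.hk hp0 hp fun s hs0 hs hsp => by
    obtain ⟨S, hS⟩ := F.exists_pt hH h5 hs0 hs
    exact (hS.comm u hu).1 (h s S hS hsp)

theorem line_vec {p : Fin k → K4} {x e : G} (hp0 : p ≠ 0) (hp : hf k p p = 0) (hx : F.IsPt p x)
    (he : e ∈ nb D x) (hev : ∃ c : K4, F.proj e = c • p) :
    (∀ v ∈ Line D x e, ∃ c : K4, F.proj v = c • p) ∧
      (∃ v ∈ Line D x e, v ≠ x ∧ F.proj v = 0) ∧
      ∀ v ∈ Line D x e, ∀ v' ∈ Line D x e, F.proj v = 0 → F.proj v' = 0 → v = v' := by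
  obtain ⟨c, hc⟩ := hev
  have hspan : ∀ v ∈ Line D x e, ∃ c : K4, F.proj v = c • p := fun v hv =>
    F.proj_in_span hH h5 hp0 hp hv.1 fun s S hS hsp => by
      have h1 : Commute S x := by rw [F.pt_commute hH h5 hS hx]; exact hsp
      have h2 : Commute S e := by
        refine ((hS.comm e he.1).2 ?_).symm
        rw [hc, hf_smul_right, hsp, mul_zero]
      exact (hv.2 S ⟨hS.mem, h1, h2⟩).symm
  obtain ⟨q, hq0, hq, hpq⟩ := exists_hyperbolic F.hk hp0 hp
  obtain ⟨y, hy⟩ := F.exists_pt hH h5 hq0 hq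
  have hyx : ¬ Commute y x := fun h => hpq ((hf_zero_iff _ _).1 ((F.pt_commute hH h5 hy hx).1 h))
  refine ⟨hspan, ?_, ?_⟩
  · obtain ⟨f, hf', hyf⟩ := hH.exists_foot hx.mem he hy.mem
    obtain ⟨a, ha⟩ := hspan f hf'
    refine ⟨f, hf', fun e => hyx (e ▸ hyf), ?_⟩
    have := (hy.comm f hf'.1).1 hyf.symm
    rw [ha, hf_smul_right, mul_eq_zero, sq_eq_zero_iff] at this
    rw [ha, this.resolve_right fun h => hpq ((hf_zero_iff _ _).1 h), zero_smul]
  · intro v hv v' hv' h0 h0'
    have hc : ∀ u ∈ Line D x e, F.proj u = 0 → Commute y u := fun u hu h =>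
      ((hy.comm u hu.1).2 (by rw [h, hf_zero_right])).symm
    by_contra hne
    exact hyx (hH.all_of_two hx.mem he hv hv' (Ne.symm hne) hy.mem (hc v hv h0) (hc v' hv' h0')
      (left_mem_line hx.mem))

/-- No member has vector zero. -/
theorem proj_ne_zero (hnone : ∀ d ∈ D, hf k (F.proj d) (F.proj d) = 0) : ∀ d ∈ D, F.proj d ≠ 0 := by
  by_contra hcon
  push Not at hcon
  obtain ⟨c₀, hc₀, hc₀z⟩ := hcon
  have hD := hH.tset
  obtain ⟨b₁, b₂, hb₁, hb₂, hbb⟩ := exists_two_others (show 3 ≤ k by have := F.hk; omega)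
    (Fin.castLE F.hk 0)
  have hm : Two (m2 b₁ b₂ (1 : K4) 1) := two_m2 (fun e => hbb e.symm) one_ne_zero one_ne_zero
  have hm0 : F.proj (F.M (m2 b₁ b₂ 1 1)) ≠ 0 := fun e => hm.ne_zero ((F.proj_M hH h5 hm).eq_zero.1 e)
  obtain ⟨c₁, hc₁, hc₁z, d, hd, hdz, hcd⟩ :
      ∃ c ∈ D, F.proj c = 0 ∧ ∃ d ∈ D, F.proj d ≠ 0 ∧ ¬ Commute c d := by
    by_contra hno
    push Not at hno
    have hall : ∀ g : G, (∀ c ∈ D, F.proj c = 0 → F.proj (g * c * g⁻¹) = 0) ∧
        (∀ c ∈ D, F.proj c = 0 → F.proj (g⁻¹ * c * g) = 0) := by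
      intro g
      have hgen : g ∈ closure D := hH.ctx.tg.2.2 ▸ mem_top g
      induction hgen using Subgroup.closure_induction with
      | mem u hu =>
        have key : ∀ c ∈ D, F.proj c = 0 → F.proj (u * c * u⁻¹) = 0 := by
          intro c hc hcz
          rw [TSet.inv hD hu]
          by_contra hne
          by_cases huz : F.proj u = 0
          · have hcomm := hno u hu huz _ (conj_D hH hu hc) hne
            have : u * (u * c * u) * u = u * c * u := by
              rw [hcomm.eq, mul_assoc, TSet.sq hD hu, mul_one]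
            rw [show u * (u * c * u) * u = (u * u) * c * (u * u) by simp only [mul_assoc],
              TSet.sq hD hu, one_mul, mul_one] at this
            exact hne (this ▸ hcz)
          · have hcomm := hno c hc hcz u hu huz
            rw [← hcomm.eq, mul_assoc, TSet.sq hD hu, mul_one] at hne
            exact hne hcz
        refine ⟨key, fun c hc hcz => ?_⟩
        have := key c hc hcz
        rw [TSet.inv hD hu] at this ⊢
        exact this
      | one => exact ⟨fun c _ h => by simpa using h, fun c _ h => by simpa using h⟩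
      | mul a b _ _ ha hb =>
        refine ⟨fun c hc hcz => ?_, fun c hc hcz => ?_⟩
        · rw [show a * b * c * (a * b)⁻¹ = a * (b * c * b⁻¹) * a⁻¹ by group]
          exact ha.1 _ (hH.ctx.conj_mem b hc) (hb.1 c hc hcz)
        · rw [show (a * b)⁻¹ * c * (a * b) = b⁻¹ * (a⁻¹ * c * a) * b by group]
          exact hb.2 _ (by simpa using hH.ctx.conj_mem a⁻¹ hc) (ha.2 c hc hcz)
      | inv a _ ha => exact ⟨fun c hc h => by simpa using ha.2 c hc h, fun c hc h => by simpa using ha.1 c hc h⟩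
    obtain ⟨g, hg⟩ := hH.ctx.trans c₀ hc₀ _ (F.mem _ hm)
    exact hm0 (hg ▸ (hall g).1 c₀ hc₀ hc₀z)
  set p := F.proj d with hpd
  have hp : hf k p p = 0 := hnone d hd
  obtain ⟨x, hx⟩ := F.exists_pt hH h5 hdz hp
  have hc1x : Commute c₁ x := (hx.comm c₁ hc₁).2 (by rw [hc₁z, hf_zero_right])
  have hxd : x ≠ d := fun e => hcd (e ▸ hc1x)
  have hdn : d ∈ nb D x := ⟨hd, hxd.symm, ((hx.comm d hd).2 hp).symm⟩
  obtain ⟨-, ⟨c₂, hc₂, hc₂x, hc₂z⟩, -⟩ := F.line_vec hH h5 hdz hp hx hdn ⟨1, (one_smul _ p).symm⟩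
  have hxne : ∀ u, F.proj u = 0 → u ≠ x := fun u h e => hdz (hx.vec.eq_zero.1 (e ▸ h))
  have hc1n : c₁ ∈ nb D x := ⟨hc₁, hxne c₁ hc₁z, hc1x.symm⟩
  obtain ⟨hc2n, hL2⟩ := hH.line_eq hx.mem hdn (left_mem_line hx.mem) hc₂ hc₂x
  have hc12 : ¬ Commute c₁ c₂ := fun h => hcd
    (hH.all_of_two hx.mem hdn (left_mem_line hx.mem) hc₂ hc₂x hc₁ hc1x h (right_mem_line hd))
  have hcross : ∀ u ∈ Line D x c₁, u ≠ x → ∀ v ∈ Line D x c₂, v ≠ x → ¬ Commute u v := by
    intro u hu hux v hv hvx h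
    have t1 := (hH.twin_iff_line hx.mem hc1n).2 ⟨hu, hux⟩
    have t2 := (hH.twin_iff_line hx.mem hc2n).2 ⟨hv, hvx⟩
    exact hc12 ((t2.2 c₁ hc1n).2 ((t1.2 v t2.1).2 h).symm).symm
  obtain ⟨hspan1, -, huniq1⟩ := F.line_vec hH h5 hdz hp hx hc1n ⟨0, by rw [hc₁z, zero_smul]⟩
  obtain ⟨hspan2, -, huniq2⟩ := F.line_vec hH h5 hdz hp hx hc2n ⟨0, by rw [hc₂z, zero_smul]⟩
  have pick : ∀ {a : G}, a ∈ nb D x → ∀ T : Finset G, T.card ≤ 3 →
      ∃ v ∈ Line D x a, v ≠ x ∧ v ∉ T := by
    intro a ha T hT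
    classical
    by_contra hno
    push Not at hno
    have hsub : Line D x a ⊆ ((insert x T : Finset G) : Set G) := fun v hv => by
      by_cases e : v = x
      · simp [e]
      · simp [hno v hv e]
    have := Set.ncard_le_ncard hsub (Set.toFinite _)
    rw [h5 x hx.mem a ha, Set.ncard_coe_finset] at this
    have := this.trans (Finset.card_insert_le x T)
    omega
  classical
  obtain ⟨u, hu, hux, huc⟩ := pick hc1n {c₁} (by simp)
  simp only [Finset.mem_singleton] at huc
  have hxu : Commute u x := (line_clique hx.mem hc1n (left_mem_line hx.mem) hu).symm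
  have hu0 : F.proj u ≠ 0 := fun e => huc (huniq1 u hu c₁ (right_mem_line hc₁) e hc₁z)
  obtain ⟨au, hau⟩ := hspan1 u hu
  have hu_s : ∀ s S, F.IsPt s S → hf k s p = 0 → Commute u S := fun s S hS hsp =>
    (hS.comm u hu.1).2 (by rw [hau, hf_smul_right, hsp, mul_zero])
  have himg : ∀ v ∈ Line D x c₂, ∃ c : K4, F.proj (u * v * u) = c • p := fun v hv =>
    F.proj_in_span hH h5 hdz hp (conj_D hH hu.1 hv.1) fun s S hS hsp => by
      have h1 := hu_s s S hS hsp
      obtain ⟨a, ha⟩ := hspan2 v hv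
      have h2 : Commute v S := (hS.comm v hv.1).2 (by rw [ha, hf_smul_right, hsp, mul_zero])
      exact (h1.mul_left h2).mul_left h1
  obtain ⟨v, hv, hvx, hv0, hvi⟩ : ∃ v ∈ Line D x c₂, v ≠ x ∧ F.proj v ≠ 0 ∧ F.proj (u * v * u) ≠ 0 := by
    obtain ⟨v, hv, hvx, hvc⟩ := pick hc2n {c₂} (by simp)
    obtain ⟨w, hw, hwx, hwc⟩ := pick hc2n {c₂, v} (by exact le_trans Finset.card_le_two (by norm_num))
    simp only [Finset.mem_singleton] at hvc
    simp only [Finset.mem_insert, Finset.mem_singleton, not_or] at hwc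
    have hv0 : F.proj v ≠ 0 := fun e => hvc (huniq2 v hv c₂ (right_mem_line hc₂.1) e hc₂z)
    have hw0 : F.proj w ≠ 0 := fun e => hwc.1 (huniq2 w hw c₂ (right_mem_line hc₂.1) e hc₂z)
    by_contra hno
    push Not at hno
    have e1 := hno v hv hvx hv0
    have e2 := hno w hw hwx hw0
    have hfix : u * x * u⁻¹ = x := conj_eq_self_of_commute hxu
    have hn : u * v * u⁻¹ ∈ nb D x := by
      have hvn : v ∈ nb D x := ((hH.twin_iff_line hx.mem hc2n).2 ⟨hv, hvx⟩).1
      have := hH.ctx.nb_conj u hvn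
      rwa [hfix] at this
    obtain ⟨hvn, hLv⟩ := hH.line_eq hx.mem hc2n (left_mem_line hx.mem) hv hvx
    have hwl := line_conj hH.ctx u (hLv.symm ▸ hw : w ∈ Line D x v)
    rw [hfix] at hwl
    rw [← TSet.inv hD hu.1] at e1 e2
    nth_rw 1 [TSet.inv hD hu.1] at e1 e2
    obtain ⟨-, -, huni⟩ := F.line_vec hH h5 hdz hp hx hn ⟨0, by rw [e1, zero_smul]⟩
    exact hwc.2 (mul_left_cancel (mul_right_cancel (huni _ hwl _ (right_mem_line hn.1) e2 e1)))
  obtain ⟨q, hq0, hq, hpq⟩ := exists_hyperbolic F.hk hdz hp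
  obtain ⟨y, hy⟩ := F.exists_pt hH h5 hq0 hq
  set r := tv q p with hr
  have hpr : hf k p r ≠ 0 := by
    rw [hr, tv_eq, hf_add_right, hp, hf_smul_right, zero_add]
    exact mul_ne_zero (pow_ne_zero _ hpq) hpq
  have hpu : Par p (F.proj u) := ⟨au, fun e => hu0 (by rw [hau, e, zero_smul]), hau⟩
  obtain ⟨av, hav⟩ := hspan2 v hv
  have hpv : Par p (F.proj v) := ⟨av, fun e => hv0 (by rw [hav, e, zero_smul]), hav⟩
  have hyu : ¬ Commute y u := fun h =>
    hpq ((hf_zero_iff _ _).1 ((hpu.hf_right q).1 ((hy.comm u hu.1).1 h.symm)))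
  set e := y * v * y with he
  have heD : e ∈ D := conj_D hH hy.mem hv.1
  have her : Par r (F.proj e) := (hpv.tv q).trans (hy.conj v hv.1)
  have hRc : ∀ w ∈ D, Commute w (y * x * y) ↔ hf k r (F.proj w) = 0 := by
    intro w hw
    rw [← commute_conj hH hy.mem, hx.comm _ (conj_D hH hy.mem hw), (hy.conj w hw).hf_right, hr,
      hf_tv_left hq]
  set f := u * e * u with hfdef
  have hfD : f ∈ D := conj_D hH hu.1 heD
  set z := F.proj f with hz
  obtain ⟨α, β, hzab⟩ := hyp_span F.hk (z := z) hdz hp hpr fun s hs0 hs hsp hsr => by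
    obtain ⟨S, hS⟩ := F.exists_pt hH h5 hs0 hs
    refine (hS.comm f hfD).1 ?_
    have h1 := hu_s s S hS hsp
    have h2 : Commute e S := (hS.comm e heD).2 ((her.hf_right s).2 hsr)
    exact (h1.mul_left h2).mul_left h1
  have hfx : ¬ Commute f x := by
    rw [hfdef, commute_conj hH hu.1, hxu.eq, mul_assoc, TSet.sq hD hu.1, mul_one, hx.comm e heD]
    exact fun h => hpr ((her.hf_right p).1 h)
  have hpz : hf k p z ≠ 0 := fun h => hfx ((hx.comm f hfD).2 h)
  have hβ : β ≠ 0 := fun hb => hpz (by rw [hzab, hb, zero_smul, add_zero, hf_smul_right, hp, mul_zero])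
  have hpr1 : hf k p r = 1 := by
    rw [hr, tv_eq, hf_add_right, hp, hf_smul_right, zero_add, mul_comm]
    exact K4.cube_one _ hpq
  have hrr : hf k r r = 0 := by rw [hr, tv_iso hq]; exact hp
  have hzz := hnone f hfD
  rw [← hz, hzab, hf_add_left, hf_add_right, hf_add_right, hf_smul_left, hf_smul_left, hf_smul_left,
    hf_smul_left, hf_smul_right, hf_smul_right, hf_smul_right, hf_smul_right, hp, hrr, hpr1,
    hf_symm r p, hpr1] at hzz
  simp only [mul_zero, zero_add, add_zero, mul_one, one_pow] at hzz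
  rcases iso_combination α β hβ hzz with hα | hα
  · -- the vector of `f` is `r`
    have h1 : Commute f (y * x * y) := by
      rw [hRc f hfD, ← hz, hzab, hα, zero_smul, zero_add, hf_smul_right, hrr, mul_zero]
    rw [← commute_conj hH hy.mem, hfdef, he] at h1
    have hb : y * u * y = u * y * u := TSet.braid hD hy.mem hu.1 hyu
    rw [show y * (u * (y * v * y) * u) * y = (y * u * y) * v * (y * u * y) by simp only [mul_assoc], hb,
      show u * y * u * v * (u * y * u) = u * (y * (u * v * u) * y) * u by simp only [mul_assoc],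
      commute_conj hH hu.1, show u * x * u = x by rw [hxu.eq, mul_assoc, TSet.sq hD hu.1, mul_one],
      commute_conj hH hy.mem] at h1
    have h2 := (hRc _ (conj_D hH hu.1 hv.1)).1 h1
    obtain ⟨a, ha⟩ := himg v hv
    rw [ha, hf_smul_right, mul_eq_zero, sq_eq_zero_iff] at h2
    exact hvi (by rw [ha, h2.resolve_right fun h => hpr ((hf_zero_iff _ _).1 h), zero_smul])
  · -- the vector of `f` is `q`
    have h1 : Commute f y := by
      rw [hy.comm f hfD, ← hz, hzab, hα, ← smul_add, hr, tv_eq, ← add_assoc, add_self_vec, zero_add,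
        hf_smul_right, hf_smul_right, hq, mul_zero, mul_zero]
    rw [hfdef, commute_conj hH hu.1, TSet.braid hD hu.1 hy.mem fun h => hyu h.symm, he] at h1
    refine hcross u hu hux v hv hvx ?_
    have := (commute_conj_iff y v u).1 (by rw [TSet.inv hD hy.mem]; exact h1)
    exact this.symm

/-- Every member is at an isotropic point. -/
theorem all_points (hnone : ∀ d ∈ D, hf k (F.proj d) (F.proj d) = 0) :
    ∀ d ∈ D, F.IsPt (F.proj d) d := by
  intro d hd
  have hz := F.proj_ne_zero hH h5 hnone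
  obtain ⟨x, hx⟩ := F.exists_pt hH h5 (hz d hd) (hnone d hd)
  suffices x = d by rwa [this] at hx
  by_contra hne
  have hdn : d ∈ nb D x := ⟨hd, Ne.symm hne, ((hx.comm d hd).2 (hnone d hd)).symm⟩
  obtain ⟨-, ⟨v, hv, -, hv0⟩, -⟩ := F.line_vec hH h5 (hz d hd) (hnone d hd) hx hdn ⟨1, (one_smul _ _).symm⟩
  exact hz v hv.1 hv0

end Frame

end Cfsg.Agent.FischerTwins
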