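import Cfsg.Agent.Lib.Compute.CosetCert

/-!
Checkable derivations of words from relators in a group generated by involutions.

Each line lists references `(k, cw)`: the word of the `k / 2`-th previous line (counted back from the
latest one, the relators being the first lines), reversed if `k` is odd, conjugated by `cw`. Their free
reduction must be the word of the new line.
-/

set_option autoImplicit false

namespace Cfsg.Agent.FischerTwins.WordProof

open Cfsg.Agent.CosetCert

/-- One letter onto a reversed reduced word. -/
def push : List ℕ → ℕ → List ℕ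
  | b :: s, a => if Nat.beq a b then s else a :: b :: s
  | [], a => [a]

/-- Free reduction, as a reversed word. -/
def rd (w : List ℕ) : List ℕ := w.foldl push []

/-- Equality of words. -/
def same : List ℕ → List ℕ → Bool
  | [], [] => true
  | a :: u, b :: v => Nat.beq a b && same u v
  | _, _ => false

/-- A conjugate of an earlier word or of its reverse. -/
def piece (T : List (List ℕ)) (e : ℕ × List ℕ) : List ℕ :=
  e.2 ++ (if Nat.beq (e.1 % 2) 0 then T.getD (e.1 / 2) [] else (T.getD (e.1 / 2) []).reverse) ++
    e.2.reverse

/-- The derivation is sound. -/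
def steps : List (List ℕ) → List (List (ℕ × List ℕ) × List ℕ) → Bool
  | _, [] => true
  | T, (it, w) :: rest => same (rd (it.flatMap (piece T))).reverse w && steps (w :: T) rest

variable {G : Type*} [Group G] {gen : ℕ → G}

theorem same_eq : ∀ {u v : List ℕ}, same u v = true → u = v
  | [], [], _ => rfl
  | [], _ :: _, h => Bool.noConfusion h
  | _ :: _, [], h => Bool.noConfusion h
  | a :: u, b :: v, h => by
    rw [same, Bool.and_eq_true, Nat.beq_eq] at h
    rw [h.1, same_eq h.2]

theorem wprod_cons (a : ℕ) (w : List ℕ) : wprod gen (a :: w) = gen a * wprod gen w := by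
  simp [wprod]

theorem wprod_append (u v : List ℕ) : wprod gen (u ++ v) = wprod gen u * wprod gen v := by
  simp [wprod, List.map_append]

theorem wprod_nil : wprod gen ([] : List ℕ) = 1 := rfl

variable (hinv : ∀ i, gen i * gen i = 1)
include hinv

theorem wprod_reverse : ∀ w : List ℕ, wprod gen w.reverse = (wprod gen w)⁻¹
  | [] => by simp [wprod_nil]
  | a :: w => by
    rw [List.reverse_cons, wprod_append, wprod_reverse w, wprod_cons, wprod_cons, wprod_nil, mul_one,
      mul_inv_rev, inv_eq_of_mul_eq_one_left (hinv a)]

theorem wprod_push (s : List ℕ) (a : ℕ) :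
    wprod gen (push s a).reverse = wprod gen s.reverse * gen a := by
  cases s with
  | nil => simp [push, wprod_nil, wprod_cons]
  | cons b s =>
    rw [push]
    split_ifs with h
    · rw [Nat.beq_eq] at h
      subst h
      rw [List.reverse_cons, wprod_append, wprod_cons, wprod_nil, mul_one, mul_assoc, hinv, mul_one]
    · rw [List.reverse_cons, wprod_append, wprod_cons, wprod_nil, mul_one]

theorem wprod_foldl : ∀ (w s : List ℕ),
    wprod gen (w.foldl push s).reverse = wprod gen s.reverse * wprod gen w
  | [], s => by simp [wprod_nil]
  | a :: w, s => by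
    rw [List.foldl_cons, wprod_foldl w, wprod_push hinv, wprod_cons, mul_assoc]

theorem wprod_rd (w : List ℕ) : wprod gen (rd w).reverse = wprod gen w := by
  rw [rd, wprod_foldl hinv, List.reverse_nil, wprod_nil, one_mul]

theorem piece_one {T : List (List ℕ)} (hT : ∀ w ∈ T, wprod gen w = 1) (e : ℕ × List ℕ) :
    wprod gen (piece T e) = 1 := by
  have h : wprod gen (T.getD (e.1 / 2) []) = 1 := by
    rw [List.getD_eq_getElem?_getD]
    rcases hg : T[e.1 / 2]? with _ | w
    · simp [wprod_nil]
    · exact hT w (List.mem_of_getElem? hg)
  rw [piece, wprod_append, wprod_append, wprod_reverse hinv]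
  split_ifs
  · rw [h, mul_one, mul_inv_cancel]
  · rw [wprod_reverse hinv, h, inv_one, mul_one, mul_inv_cancel]

theorem flatMap_one {T : List (List ℕ)} (hT : ∀ w ∈ T, wprod gen w = 1) :
    ∀ it : List (ℕ × List ℕ), wprod gen (it.flatMap (piece T)) = 1
  | [] => wprod_nil
  | e :: it => by
    rw [List.flatMap_cons, wprod_append, piece_one hinv hT, flatMap_one hT it, one_mul]

theorem steps_spec : ∀ (L : List (List (ℕ × List ℕ) × List ℕ)) (T : List (List ℕ)),
    (∀ w ∈ T, wprod gen w = 1) → steps T L = true → ∀ p ∈ L, wprod gen p.2 = 1
  | [], _, _, _ => fun p hp => absurd hp List.not_mem_nil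
  | (it, w) :: rest, T, hT, h => by
    rw [steps, Bool.and_eq_true] at h
    have hw : wprod gen w = 1 := by
      rw [← same_eq h.1, wprod_rd hinv, flatMap_one hinv hT]
    intro p hp
    rcases List.mem_cons.1 hp with rfl | hp
    · exact hw
    · exact steps_spec rest (w :: T) (List.forall_mem_cons.2 ⟨hw, hT⟩) h.2 p hp

/-- The last word of a sound derivation is trivial. -/
theorem last_one {T : List (List ℕ)} {L : List (List (ℕ × List ℕ) × List ℕ)}
    (hT : ∀ w ∈ T, wprod gen w = 1) (h : steps T L = true) :
    wprod gen ((L.map Prod.snd).getLastD []) = 1 := by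
  rcases L.eq_nil_or_concat' with rfl | ⟨L', p, rfl⟩
  · exact wprod_nil
  · rw [List.map_append, List.map_singleton, List.getLastD_concat]
    exact steps_spec hinv _ T hT h p (by simp)

end Cfsg.Agent.FischerTwins.WordProof
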